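import Cfsg.Agent.Lib.Schur.Basic

/-! # Bounds on the multiplier by transfer -/

namespace CfsgLib.Schur.Bound

universe u v

open Subgroup CfsgLib.Schur.Basic
open scoped commutatorElement

/-- A central commutator element lying in `H` has its `[G : H]`-th power in `H'`. -/
theorem pow_index_mem_commutator {X : Type u} [Group X] (H : Subgroup X) [H.FiniteIndex] {z : X}
    (hc : z ∈ center X) (hd : z ∈ commutator X) :
    z ^ H.index ∈ (commutator H).map H.subtype := by
  have key : ∀ (k : ℕ) (g₀ : X), g₀⁻¹ * z ^ k * g₀ ∈ H → g₀⁻¹ * z ^ k * g₀ = z ^ k :=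
    fun k g₀ _ => by
      rw [mul_assoc, ← mem_center_iff.mp (Subgroup.pow_mem _ hc k) g₀, inv_mul_cancel_left]
  have h := MonoidHom.transfer_eq_pow (Abelianization.of (G := H)) z key
  have h1 : MonoidHom.transfer (Abelianization.of (G := H)) z = 1 :=
    Abelianization.commutator_subset_ker _ hd
  rw [h1] at h
  exact ⟨⟨z ^ H.index, MonoidHom.transfer_eq_pow_aux z key⟩,
    by rw [← Abelianization.ker_of]; exact h.symm, rfl⟩

/-- In a central extension the `[Q : U]`-th power of a kernel element in the commutator subgroup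
lies in the commutator subgroup of the preimage of `U`. -/
theorem pow_index_mem {Q : Type u} [Group Q] {X : Type v} [Group X] (ξ : X →* Q)
    (hs : Function.Surjective ξ) (U : Subgroup Q) [U.FiniteIndex] {z : X}
    (hc : z ∈ center X) (hd : z ∈ commutator X) :
    z ^ U.index ∈ (commutator (U.comap ξ)).map (U.comap ξ).subtype := by
  have hidx : (U.comap ξ).index = U.index := U.index_comap_of_surjective hs
  haveI : (U.comap ξ).FiniteIndex := ⟨by rw [hidx]; exact FiniteIndex.index_ne_zero⟩
  have h := pow_index_mem_commutator (U.comap ξ) hc hd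
  rwa [hidx] at h

/-- Central extensions of cyclic groups are abelian. -/
theorem commutator_comap_eq_bot {Q : Type u} [Group Q] {X : Type v} [Group X] (ξ : X →* Q)
    (hk : ξ.ker ≤ center X) (U : Subgroup Q) [IsCyclic U] :
    (commutator (U.comap ξ)).map (U.comap ξ).subtype = ⊥ := by
  let f : U.comap ξ →* U := (ξ.comp (U.comap ξ).subtype).codRestrict U fun x => x.2
  have hf : f.ker ≤ center (U.comap ξ) := fun x hx => mem_center_iff.mpr fun y => Subtype.ext
    (mem_center_iff.mp (hk (show ξ x.1 = 1 from congrArg Subtype.val hx)) y.1)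
  have : commutator (U.comap ξ) = ⊥ := by
    rw [eq_bot_iff, _root_.commutator_def, commutator_le]
    intro a _ b _
    rw [mem_bot, commutatorElement_eq_one_iff_mul_comm]
    exact (f.isMulCommutative_of_isCyclic_of_ker_le_center hf).1.1 a b
  rw [this, Subgroup.map_bot]

/-- A Sylow subgroup of trivial-multiplier type kills the matching part of any kernel. -/
theorem pow_index_eq_one_of_cyclic {Q : Type u} [Group Q] [Finite Q] {X : Type v} [Group X]
    (ξ : X →* Q) (hs : Function.Surjective ξ) (hk : ξ.ker ≤ center X) (U : Subgroup Q) [IsCyclic U]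
    {z : X} (hz : z ∈ ξ.ker) (hd : z ∈ commutator X) : z ^ U.index = 1 := by
  have := pow_index_mem ξ hs U (hk hz) hd
  rwa [commutator_comap_eq_bot ξ hk U, mem_bot] at this

/-- If for every prime some `p'`-index subgroup kills `z`, then `z = 1`. -/
theorem eq_one_of_pow_index {X : Type v} [Group X] (z : X) (n : ℕ) (hn : n ≠ 0)
    (h : ∀ p : ℕ, p.Prime → p ∣ n → ∃ k : ℕ, ¬ p ∣ k ∧ z ^ k = 1) (hzn : z ^ n = 1) : z = 1 := by
  rw [← orderOf_eq_one_iff]
  by_contra hne
  obtain ⟨p, hp, hpo⟩ := Nat.exists_prime_and_dvd hne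
  obtain ⟨k, hk, hzk⟩ := h p hp (hpo.trans (orderOf_dvd_of_pow_eq_one hzn))
  exact hk (hpo.trans (orderOf_dvd_of_pow_eq_one hzk))

/-- The exponent of the multiplier divides the order of the group. -/
theorem pow_card_eq_one {Q : Type u} [Group Q] [Finite Q] {X : Type v} [Group X] (ξ : X →* Q)
    (hs : Function.Surjective ξ) (hk : ξ.ker ≤ center X) {z : X} (hz : z ∈ ξ.ker)
    (hd : z ∈ commutator X) : z ^ Nat.card Q = 1 := by
  have := pow_index_eq_one_of_cyclic ξ hs hk ⊥ hz hd
  rwa [Subgroup.index_bot] at this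

/-- All Sylow subgroups cyclic gives a trivial multiplier. -/
theorem hasCyclicSchurMultiplier_one_of_cyclic_sylow {Q : Type u} [Group Q] [Finite Q]
    (h : ∀ (p : ℕ) [Fact p.Prime] (P : Sylow p Q), IsCyclic P) :
    Cfsg.HasCyclicSchurMultiplier Q 1 := by
  refine hasCyclicSchurMultiplier_one_of fun Γ _ _ σ hσ => ?_
  rw [eq_bot_iff]
  intro z hz
  rw [mem_bot]
  refine eq_one_of_pow_index z (Nat.card Q) Nat.card_pos.ne' (fun p hp _ => ?_)
    (pow_card_eq_one σ hσ.1 hσ.2.1 hz (hσ.2.2 hz))
  haveI := Fact.mk hp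
  obtain ⟨P⟩ : Nonempty (Sylow p Q) := inferInstance
  haveI := h p P
  exact ⟨(P : Subgroup Q).index, P.not_dvd_index,
    pow_index_eq_one_of_cyclic σ hσ.1 hσ.2.1 P hz (hσ.2.2 hz)⟩

end CfsgLib.Schur.Bound
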