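import Cfsg.Agent.Lib.Schur.Basic
import Cfsg.Agent.Lib.Schur.Bound

/-! # The multiplier of an alternating group has order at most two away from degrees six and seven -/

namespace CfsgLib.Schur.Alternating

open Subgroup Equiv
open scoped commutatorElement

universe u

section General

variable {X : Type u} [Group X]

/-- The commutator subgroup of a two-generated subgroup is cyclic when the basic commutator spans
an invariant cyclic subgroup. -/
theorem commutator_closure_pair_le (A B : X)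
    (hA : A * ⁅A, B⁆ * A⁻¹ ∈ zpowers ⁅A, B⁆) (hB : B * ⁅A, B⁆ * B⁻¹ ∈ zpowers ⁅A, B⁆)
    [Finite X] :
    ⁅closure ({A, B} : Set X), closure ({A, B} : Set X)⁆ ≤ zpowers ⁅A, B⁆ := by
  set N := zpowers ⁅A, B⁆ with hN
  set M := Subgroup.normalizer (N : Set X)
  have hmem : ∀ g : X, g * ⁅A, B⁆ * g⁻¹ ∈ N → g ∈ M := fun g hg => by
    have hle : N.map (MulAut.conj g).toMonoidHom ≤ N := by
      rw [hN, MonoidHom.map_zpowers, zpowers_le]
      exact hg
    have heq : N.map (MulAut.conj g).toMonoidHom = N := Subgroup.eq_of_le_of_card_ge hle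
      (le_of_eq (Nat.card_congr (N.equivMapOfInjective _ (MulAut.conj g).injective).toEquiv))
    refine mem_normalizer_iff.2 fun x => ?_
    constructor
    · intro hx
      exact hle ⟨x, hx, rfl⟩
    · intro hx
      rw [← heq] at hx
      obtain ⟨y, hy, hyx⟩ := hx
      have : y = x := (MulAut.conj g).injective (by simpa using hyx)
      rwa [← this]
  have hgen : ∀ g ∈ ({A, B} : Set X), g ∈ M := by
    intro g hg
    rcases hg with h | h
    · exact h ▸ hmem A hA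
    · exact (Set.mem_singleton_iff.1 h) ▸ hmem B hB
  have hJ : closure ({A, B} : Set X) ≤ M := (closure_le _).2 hgen
  have hS : ∀ x ∈ M, ∀ S : Set X, (∀ y ∈ S, y ∈ M ∧ ⁅x, y⁆ ∈ N) →
      ∀ y ∈ closure S, ⁅x, y⁆ ∈ N := by
    intro x _ S hS y hy
    refine (closure_induction (p := fun y _ => y ∈ M ∧ ⁅x, y⁆ ∈ N) hS ?_ ?_ ?_ hy).2
    · exact ⟨one_mem _, by rw [commutatorElement_one_right]; exact one_mem _⟩
    · intro a b _ _ ha hb
      refine ⟨mul_mem ha.1 hb.1, ?_⟩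
      rw [show ⁅x, a * b⁆ = ⁅x, a⁆ * (a * ⁅x, b⁆ * a⁻¹) by simp [commutatorElement_def, mul_assoc]]
      exact mul_mem ha.2 ((mem_normalizer_iff.1 ha.1 _).1 hb.2)
    · intro a _ ha
      refine ⟨inv_mem ha.1, ?_⟩
      rw [show ⁅x, a⁻¹⁆ = a⁻¹ * ⁅x, a⁆⁻¹ * a⁻¹⁻¹ by simp [commutatorElement_def, mul_assoc]]
      exact (mem_normalizer_iff.1 (inv_mem ha.1) _).1 (inv_mem ha.2)
  have hflip : ∀ x y : X, ⁅x, y⁆ ∈ N → ⁅y, x⁆ ∈ N := fun x y h => by
    rw [← commutatorElement_inv]; exact inv_mem h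
  have hAA : ⁅A, A⁆ ∈ N := by rw [commutatorElement_self]; exact one_mem _
  have hBB : ⁅B, B⁆ ∈ N := by rw [commutatorElement_self]; exact one_mem _
  have hAB : ⁅A, B⁆ ∈ N := mem_zpowers _
  have h1 : ∀ y ∈ closure ({A, B} : Set X), ⁅A, y⁆ ∈ N := hS A (hgen A (by simp)) _ fun y hy =>
    ⟨hgen y hy, by rcases hy with h | h
                   · exact h ▸ hAA
                   · exact (Set.mem_singleton_iff.1 h) ▸ hAB⟩
  have h2 : ∀ y ∈ closure ({A, B} : Set X), ⁅B, y⁆ ∈ N := hS B (hgen B (by simp)) _ fun y hy =>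
    ⟨hgen y hy, by rcases hy with h | h
                   · exact h ▸ hflip _ _ hAB
                   · exact (Set.mem_singleton_iff.1 h) ▸ hBB⟩
  rw [commutator_le]
  intro x hx y hy
  refine hS x (hJ hx) _ (fun g hg => ⟨hgen g hg, ?_⟩) y hy
  rcases hg with h | h
  · exact h ▸ hflip _ _ (h1 x hx)
  · exact (Set.mem_singleton_iff.1 h) ▸ hflip _ _ (h2 x hx)

variable {Q : Type*} [Group Q] (ξ : X →* Q)

/-- A kernel commutator element, raised to the index, lies in the commutator of the two generators. -/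
theorem pow_index_mem_pair [Finite X] [Finite Q] (hs : Function.Surjective ξ) (hk : ξ.ker ≤ center X)
    {a b : Q} {A B : X} (hA : ξ A = a) (hB : ξ B = b)
    (hA' : A * ⁅A, B⁆ * A⁻¹ ∈ zpowers ⁅A, B⁆) (hB' : B * ⁅A, B⁆ * B⁻¹ ∈ zpowers ⁅A, B⁆)
    {z : X} (hz : z ∈ ξ.ker) (hd : z ∈ commutator X) :
    z ^ (closure ({a, b} : Set Q)).index ∈ zpowers ⁅A, B⁆ := by
  set U := closure ({a, b} : Set Q)
  have h := Bound.pow_index_mem ξ hs U (hk hz) hd
  let η := Subgroup.subtype (closure ({A, B} : Set X))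
  rw [map_subtype_commutator] at h
  have hle : U.comap ξ ≤ closure ({A, B} : Set X) ⊔ ξ.ker := by
    rw [← comap_map_eq, MonoidHom.map_closure, Set.image_pair, hA, hB]
  refine commutator_closure_pair_le A B hA' hB' ((le_trans (commutator_mono hle hle) ?_) h)
  rw [commutator_le]
  intro x hx y hy
  have hN : (ξ.ker).Normal := inferInstance
  obtain ⟨x₁, hx₁, x₂, hx₂, rfl⟩ := mem_sup_of_normal_right.1 hx
  obtain ⟨y₁, hy₁, y₂, hy₂, rfl⟩ := mem_sup_of_normal_right.1 hy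
  have hcx := mem_center_iff.1 (hk hx₂)
  have hcy := mem_center_iff.1 (hk hy₂)
  have : ⁅x₁ * x₂, y₁ * y₂⁆ = ⁅x₁, y₁⁆ := by
    simp only [commutatorElement_def, mul_inv_rev]
    calc x₁ * x₂ * (y₁ * y₂) * (x₂⁻¹ * x₁⁻¹) * (y₂⁻¹ * y₁⁻¹)
        = x₁ * (x₂ * (y₁ * y₂)) * (x₂⁻¹ * x₁⁻¹) * (y₂⁻¹ * y₁⁻¹) := by group
      _ = x₁ * ((y₁ * y₂) * x₂) * (x₂⁻¹ * x₁⁻¹) * (y₂⁻¹ * y₁⁻¹) := by rw [hcx]
      _ = x₁ * y₁ * (y₂ * x₁⁻¹) * (y₂⁻¹ * y₁⁻¹) := by group
      _ = x₁ * y₁ * (x₁⁻¹ * y₂) * (y₂⁻¹ * y₁⁻¹) := by rw [hcy]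
      _ = x₁ * y₁ * x₁⁻¹ * y₁⁻¹ := by group
  rw [this]
  exact commutator_mem_commutator hx₁ hy₁

theorem mem_center_of_map_eq_one (hk : ξ.ker ≤ center X) {c : X} (h : ξ c = 1) : c ∈ center X :=
  hk h

/-- Two commuting involutions. -/
theorem four_bound [Finite X] [Finite Q] (hs : Function.Surjective ξ) (hk : ξ.ker ≤ center X)
    (a b : Q) (ha : a ^ 2 = 1) (hab : a * b = b * a) :
    ∃ W : Subgroup X, Nat.card W ≤ 2 ∧
      ∀ z ∈ ξ.ker ⊓ commutator X, z ^ (closure ({a, b} : Set Q)).index ∈ W := by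
  obtain ⟨A, hA⟩ := hs a
  obtain ⟨B, hB⟩ := hs b
  set d := ⁅A, B⁆ with hd
  have hdk : ξ d = 1 := by
    rw [map_commutatorElement, hA, hB, commutatorElement_eq_one_iff_mul_comm]; exact hab
  have hdc := mem_center_iff.1 (hk hdk)
  have hd2 : d * d = 1 := by
    have hA2 := mem_center_iff.1 (hk (show ξ (A ^ 2) = 1 by rw [map_pow, hA, ha]))
    calc d * d = A * d * A⁻¹ * d := by rw [hdc A]; group
      _ = (A ^ 2) * B * (A ^ 2)⁻¹ * B⁻¹ := by simp [hd, commutatorElement_def, sq, mul_assoc]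
      _ = 1 := by rw [← hA2 B]; group
  refine ⟨zpowers d, ?_, fun z hz => ?_⟩
  · rw [Nat.card_zpowers]
    exact Nat.le_of_dvd two_pos (orderOf_dvd_of_pow_eq_one (by rw [sq, hd2]))
  · refine pow_index_mem_pair ξ hs hk hA hB ?_ ?_ hz.1 hz.2
    · rw [hdc A, mul_inv_cancel_right]; exact mem_zpowers _
    · rw [hdc B, mul_inv_cancel_right]; exact mem_zpowers _

/-- Two commuting elements of order three, one inverted by an element centralizing the other. -/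
theorem nine_bound [Finite X] [Finite Q] (hs : Function.Surjective ξ) (hk : ξ.ker ≤ center X)
    (a b g : Q) (ha : a ^ 3 = 1) (hab : a * b = b * a) (hga : g * a * g⁻¹ = a⁻¹)
    (hgb : g * b * g⁻¹ = b) :
    ∀ z ∈ ξ.ker ⊓ commutator X, z ^ (closure ({a, b} : Set Q)).index = 1 := by
  obtain ⟨A, hA⟩ := hs a
  obtain ⟨B, hB⟩ := hs b
  obtain ⟨G, hG⟩ := hs g
  set d := ⁅A, B⁆ with hd
  have hdk : ξ d = 1 := by
    rw [map_commutatorElement, hA, hB, commutatorElement_eq_one_iff_mul_comm]; exact hab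
  have hdc := mem_center_iff.1 (hk hdk)
  have hc₁ := mem_center_iff.1 (hk (show ξ (A * (G * A * G⁻¹)) = 1 by
    rw [map_mul, map_mul, map_mul, map_inv, hA, hG, hga, mul_inv_cancel]))
  have hc₂ := mem_center_iff.1 (hk (show ξ (B⁻¹ * (G * B * G⁻¹)) = 1 by
    rw [map_mul, map_mul, map_mul, map_inv, map_inv, hB, hG, hgb, inv_mul_cancel]))
  have hA3 := mem_center_iff.1 (hk (show ξ (A ^ 3) = 1 by rw [map_pow, hA, ha]))
  set c₁ := A * (G * A * G⁻¹) with hc₁d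
  set c₂ := B⁻¹ * (G * B * G⁻¹) with hc₂d
  have hd3 : d * d * d = 1 := by
    have hcA : A * d * A⁻¹ = d := by rw [hdc A, mul_inv_cancel_right]
    calc d * d * d = (A * (A * d * A⁻¹) * A⁻¹) * (A * d * A⁻¹) * d := by rw [hcA, hcA]
      _ = A ^ 3 * B * (A ^ 3)⁻¹ * B⁻¹ := by
          simp [hd, commutatorElement_def, pow_succ, mul_assoc]
      _ = 1 := by rw [← hA3 B]; group
  have hd2 : d * d = 1 := by
    have h1 : ⁅G * A * G⁻¹, G * B * G⁻¹⁆ = d := by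
      calc ⁅G * A * G⁻¹, G * B * G⁻¹⁆ = G * d * G⁻¹ := by simp [hd, commutatorElement_def, mul_assoc]
        _ = d := by rw [hdc G, mul_inv_cancel_right]
    rw [show G * A * G⁻¹ = A⁻¹ * c₁ by simp [hc₁d], show G * B * G⁻¹ = B * c₂ by simp [hc₂d]] at h1
    have h2 : ⁅A⁻¹ * c₁, B * c₂⁆ = A⁻¹ * d⁻¹ * A := by
      simp only [hd, commutatorElement_def, mul_inv_rev]
      calc A⁻¹ * c₁ * (B * c₂) * (c₁⁻¹ * A⁻¹⁻¹) * (c₂⁻¹ * B⁻¹)
          = A⁻¹ * (c₁ * (B * c₂)) * (c₁⁻¹ * A) * (c₂⁻¹ * B⁻¹) := by group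
        _ = A⁻¹ * ((B * c₂) * c₁) * (c₁⁻¹ * A) * (c₂⁻¹ * B⁻¹) := by rw [hc₁]
        _ = A⁻¹ * B * (c₂ * A) * (c₂⁻¹ * B⁻¹) := by group
        _ = A⁻¹ * B * (A * c₂) * (c₂⁻¹ * B⁻¹) := by rw [hc₂]
        _ = _ := by group
    have h3 : A⁻¹ * d⁻¹ * A = d⁻¹ := by
      have := hdc A
      calc A⁻¹ * d⁻¹ * A = A⁻¹ * (d⁻¹ * (A * d)) * d⁻¹ := by group
        _ = A⁻¹ * (d⁻¹ * (d * A)) * d⁻¹ := by rw [this]
        _ = d⁻¹ := by group
    rw [h2, h3] at h1
    exact inv_eq_iff_mul_eq_one.1 h1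
  have hd1 : d = 1 := by rw [← hd3, hd2, one_mul]
  intro z hz
  have h := pow_index_mem_pair ξ hs hk hA hB
    (by rw [hd] at hd1; rw [hd1]; simp) (by rw [hd] at hd1; rw [hd1]; simp) hz.1 hz.2
  rw [← hd, hd1, zpowers_one_eq_bot, mem_bot] at h
  exact h

/-- A dihedral pair of order eight. -/
theorem eight_bound [Finite X] [Finite Q] (hs : Function.Surjective ξ) (hk : ξ.ker ≤ center X)
    (a b : Q) (ha : orderOf a = 4) (hba : b * a * b⁻¹ = a⁻¹) :
    ∃ W : Subgroup X, Nat.card W ≤ 2 ∧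
      ∀ z ∈ ξ.ker ⊓ commutator X, z ^ (closure ({a, b} : Set Q)).index ∈ W := by
  obtain ⟨A, hA⟩ := hs a
  obtain ⟨B, hB⟩ := hs b
  have hck : ξ (A * (B * A * B⁻¹)) = 1 := by
    rw [map_mul, map_mul, map_mul, map_inv, hA, hB, hba, mul_inv_cancel]
  set c := A * (B * A * B⁻¹) with hcd
  have hc := mem_center_iff.1 (hk hck)
  have hBA : B * A * B⁻¹ = A⁻¹ * c := by simp [hcd]
  set d := ⁅A, B⁆ with hd
  have hdA : d = A ^ 2 * c⁻¹ := by
    calc d = A * (B * A * B⁻¹)⁻¹ := by simp [hd, commutatorElement_def, mul_assoc]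
      _ = A * (c⁻¹ * A) := by rw [hBA]; group
      _ = A * (A * c⁻¹) := by rw [mem_center_iff.1 (inv_mem (hk hck)) A]
      _ = A ^ 2 * c⁻¹ := by rw [← mul_assoc, sq]
  have hAd : A * d * A⁻¹ = d := by
    rw [hdA]
    calc A * (A ^ 2 * c⁻¹) * A⁻¹ = A ^ 3 * (c⁻¹ * A⁻¹) := by group
      _ = A ^ 3 * (A⁻¹ * c⁻¹) := by rw [← mem_center_iff.1 (inv_mem (hk hck)) A⁻¹]
      _ = A ^ 2 * c⁻¹ := by group
  have hBd : B * d * B⁻¹ = d⁻¹ := by
    have h1 : B * c⁻¹ * B⁻¹ = c⁻¹ := by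
      rw [mem_center_iff.1 (inv_mem (hk hck)) B, mul_inv_cancel_right]
    calc B * d * B⁻¹ = (B * A * B⁻¹) * (B * A * B⁻¹) * (B * c⁻¹ * B⁻¹) := by
          rw [hdA, sq]; simp [mul_assoc]
      _ = A⁻¹ * (c * A⁻¹) * (c * c⁻¹) := by rw [hBA, h1]; group
      _ = A⁻¹ * (A⁻¹ * c) * (c * c⁻¹) := by rw [← hc A⁻¹]
      _ = c * A⁻¹ * A⁻¹ := by rw [mul_inv_cancel, mul_one, ← mul_assoc, hc (A⁻¹ * A⁻¹)]; group
      _ = d⁻¹ := by rw [hdA]; group
  have hd2k : ξ (d ^ 2) = 1 := by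
    rw [map_pow, hdA, map_mul, map_pow, map_inv, hA, hck, inv_one, mul_one, ← pow_mul,
      show 2 * 2 = 4 from rfl, ← ha, pow_orderOf_eq_one]
  have hd4 : (d ^ 2) ^ 2 = 1 := by
    have h1 := mem_center_iff.1 (hk hd2k) B
    have h2 : B * d ^ 2 * B⁻¹ = (d⁻¹) ^ 2 := by rw [← hBd, conj_pow]
    rw [h1, mul_inv_cancel_right, inv_pow] at h2
    rw [sq (d ^ 2)]
    exact mul_eq_one_iff_eq_inv.2 h2
  refine ⟨zpowers (d ^ 2), ?_, fun z hz => ?_⟩
  · rw [Nat.card_zpowers]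
    exact Nat.le_of_dvd two_pos (orderOf_dvd_of_pow_eq_one hd4)
  · have h := pow_index_mem_pair ξ hs hk hA hB (by rw [← hd, hAd]; exact mem_zpowers _)
      (by rw [← hd, hBd]; exact inv_mem (mem_zpowers _)) hz.1 hz.2
    rw [← hd] at h
    obtain ⟨i, hi⟩ := mem_zpowers_iff.1 h
    have h1 : (a ^ 2) ^ i = 1 := by
      have hξd : ξ d = a ^ 2 := by
        rw [hdA, map_mul, map_pow, map_inv, hA, hck, inv_one, mul_one]
      rw [← hξd, ← map_zpow, hi, map_pow, show ξ z = 1 from hz.1, one_pow]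
    have ho : orderOf (a ^ 2) = 2 := by rw [orderOf_pow, ha]; rfl
    obtain ⟨j, rfl⟩ : (2 : ℤ) ∣ i := by
      have := orderOf_dvd_iff_zpow_eq_one.2 h1
      rwa [ho] at this
    refine mem_zpowers_iff.2 ⟨j, ?_⟩
    rw [← hi, zpow_mul, zpow_ofNat]

/-- A pair whose words `a ^ i * b ^ j` form a subgroup. -/
theorem card_closure_pair [Finite Q] [DecidableEq Q] (a b : Q) (m r : ℕ) (hm : 2 ≤ m) (hr : 2 ≤ r)
    (S : Finset Q) (hS : S = (Finset.range m ×ˢ Finset.range r).image fun p => a ^ p.1 * b ^ p.2)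
    (hcl : ∀ x ∈ S, x * a ∈ S ∧ x * b ∈ S) :
    Nat.card (closure ({a, b} : Set Q)) = S.card := by
  have h1 : (1 : Q) ∈ S := by
    rw [hS, Finset.mem_image]
    exact ⟨(0, 0), by simp; omega, by simp⟩
  have heq : (closure ({a, b} : Set Q) : Set Q) = (S : Set Q) := by
    refine Set.Subset.antisymm (fun x hx => ?_) (fun x hx => ?_)
    · rw [SetLike.mem_coe, ← mem_toSubmonoid, closure_toSubmonoid_of_finite] at hx
      induction hx using Submonoid.closure_induction_right with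
      | one => exact h1
      | mul_right x _ y hy ih =>
        rcases hy with h | h
        · exact h ▸ (hcl x ih).1
        · exact (Set.mem_singleton_iff.1 h) ▸ (hcl x ih).2
    · rw [Finset.mem_coe, hS, Finset.mem_image] at hx
      obtain ⟨p, -, rfl⟩ := hx
      exact mul_mem (pow_mem (subset_closure (by simp)) _) (pow_mem (subset_closure (by simp)) _)
  rw [← Nat.card_coe_set_eq (S : Set Q) |>.trans (Set.ncard_coe_finset S), ← heq]
  rfl

theorem mem_of_pow_mem {W : Subgroup X} {z : X} {k m : ℕ} (h : z ^ k ∈ W) (hm : z ^ m = 1)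
    (hkm : Nat.Coprime k m) : z ∈ W := by
  have h1 : ((Nat.gcd k m : ℕ) : ℤ) = k * Nat.gcdA k m + m * Nat.gcdB k m := Nat.gcd_eq_gcd_ab k m
  rw [show Nat.gcd k m = 1 from hkm] at h1
  have h2 : z = (z ^ k) ^ Nat.gcdA k m * (z ^ m) ^ Nat.gcdB k m := by
    rw [← zpow_natCast z k, ← zpow_natCast z m, ← zpow_mul, ← zpow_mul, ← zpow_add, ← h1]
    simp
  rw [h2, hm, one_zpow, mul_one]
  exact zpow_mem h _

end General

end CfsgLib.Schur.Alternating
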