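import Cfsg.Agent.Lib.Schur.Alternating

/-! # Stability and the bound on the multiplier of an alternating group -/

namespace CfsgLib.Schur.Alternating

open Subgroup Equiv Equiv.Perm
open scoped commutatorElement

universe u

variable {n : ℕ}

/-- The even permutations supported in `s`. -/
def altOn (s : Finset (Fin n)) : Subgroup (alternatingGroup (Fin n)) :=
  (alternatingGroup.ofSubtype s).range

theorem mem_altOn {s : Finset (Fin n)} {k : alternatingGroup (Fin n)} :
    k ∈ altOn s ↔ ∀ x ∉ s, (k : Perm (Fin n)) x = x := by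
  rw [altOn, alternatingGroup.mem_range_ofSubtype_iff]
  constructor
  · exact fun h x hx => notMem_support.1 fun h' => hx (h h')
  · exact fun h x hx => by_contra fun h' => (mem_support.1 hx) (h x h')

theorem altOn_perfect {s : Finset (Fin n)} (hs : 5 ≤ s.card) : ⁅altOn s, altOn s⁆ = altOn s := by
  have h := commutator_alternatingGroup_eq_top (α := s) (by simpa using hs)
  rw [altOn, MonoidHom.range_eq_map, ← map_commutator, ← _root_.commutator_def, h]

variable {X : Type u} [Group X] (ξ : X →* alternatingGroup (Fin n))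

/-- The perfect part of the preimage of `altOn s`. -/
def lifts (s : Finset (Fin n)) : Subgroup X := ⁅(altOn s).comap ξ, (altOn s).comap ξ⁆

theorem lifts_mono {s t : Finset (Fin n)} (h : s ⊆ t) : lifts ξ s ≤ lifts ξ t := by
  have : (altOn s).comap ξ ≤ (altOn t).comap ξ :=
    comap_mono fun k hk => mem_altOn.2 fun x hx => mem_altOn.1 hk x fun hxs => hx (h hxs)
  exact commutator_mono this this

theorem exists_mem_lifts (hs : Function.Surjective ξ) {s : Finset (Fin n)} (h5 : 5 ≤ s.card)
    {σ : alternatingGroup (Fin n)} (hσ : σ ∈ altOn s) : ∃ w ∈ lifts ξ s, ξ w = σ := by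
  have : σ ∈ (lifts ξ s).map ξ := by
    rw [lifts, map_commutator, map_comap_eq_self_of_surjective hs, altOn_perfect h5]
    exact hσ
  exact this

theorem map_lifts_le (s : Finset (Fin n)) : (lifts ξ s).map ξ ≤ altOn s := by
  rw [lifts, map_commutator]
  exact (commutator_mono (map_comap_le _ _) (map_comap_le _ _)).trans (commutator_le_self _)

theorem lifts_inf_ker_of_map (hs : Function.Surjective ξ) (hk : ξ.ker ≤ center X) (i j : Fin n)
    (π : alternatingGroup (Fin n)) (hπ : (π : Perm (Fin n)) i = j)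
    (h0 : ∀ z ∈ ξ.ker, z ∈ lifts ξ (Finset.univ.erase i) → z = 1) :
    ∀ z ∈ ξ.ker, z ∈ lifts ξ (Finset.univ.erase j) → z = 1 := by
  intro z hz hzj
  obtain ⟨g, rfl⟩ := hs π
  have hle : (lifts ξ (Finset.univ.erase j)).map (MulAut.conj g⁻¹).toMonoidHom
      ≤ lifts ξ (Finset.univ.erase i) := by
    have : ((altOn (Finset.univ.erase j)).comap ξ).map (MulAut.conj g⁻¹).toMonoidHom
        ≤ (altOn (Finset.univ.erase i)).comap ξ := by
      rintro _ ⟨x, hx, rfl⟩
      rw [mem_comap, show (MulAut.conj g⁻¹).toMonoidHom x = g⁻¹ * x * g⁻¹⁻¹ from rfl, inv_inv, map_mul, map_mul, map_inv]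
      refine mem_altOn.2 fun y hy => ?_
      rw [Finset.mem_erase, not_and_or, not_not] at hy
      rcases hy with hy | hy
      · have hxj : (ξ x : Perm (Fin n)) j = j :=
          mem_altOn.1 hx j (by simp)
        subst hy
        show ((ξ g : Perm (Fin n))⁻¹ * (ξ x : Perm (Fin n)) * (ξ g : Perm (Fin n))) _ = _
        rw [Perm.mul_apply, Perm.mul_apply, hπ, hxj]
        exact Perm.inv_eq_iff_eq.2 hπ.symm
      · exact absurd (Finset.mem_univ y) hy
    rw [lifts, map_commutator]
    exact commutator_mono this this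
  have hfix : MulAut.conj g⁻¹ z = z := by
    rw [MulAut.conj_apply, mem_center_iff.1 (hk hz) g⁻¹, mul_inv_cancel_right]
  exact h0 z hz (hle ⟨z, hzj, hfix⟩)

theorem exists_even_map (hn : 4 ≤ n) (i j : Fin n) :
    ∃ π : alternatingGroup (Fin n), (π : Perm (Fin n)) i = j := by
  by_cases hij : i = j
  · exact ⟨1, by simpa using hij⟩
  obtain ⟨c, hc⟩ : ∃ c, c ∉ ({i, j} : Finset (Fin n)) := by
    by_contra h
    push Not at h
    have h1 : (Finset.univ : Finset (Fin n)).card ≤ ({i, j} : Finset (Fin n)).card :=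
      Finset.card_le_card fun x _ => h x
    have h2 := Finset.card_le_two (a := i) (b := j)
    rw [Finset.card_univ, Fintype.card_fin] at h1; omega
  simp only [Finset.mem_insert, Finset.mem_singleton, not_or] at hc
  refine ⟨⟨swap i c * swap i j,
    (isThreeCycle_swap_mul_swap_same (Ne.symm hc.1) hij hc.2).mem_alternatingGroup⟩, ?_⟩
  show (swap i c * swap i j) i = j
  rw [Perm.mul_apply, swap_apply_left, swap_apply_of_ne_of_ne (Ne.symm hij) (Ne.symm hc.2)]

/-- `x` is the canonical lift of `σ`. -/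
def IsLift (x : X) (σ : alternatingGroup (Fin n)) : Prop :=
  ξ x = σ ∧ ∃ i, (σ : Perm (Fin n)) i = i ∧ x ∈ lifts ξ (Finset.univ.erase i)

theorem mem_altOn_erase {i : Fin n} {σ : alternatingGroup (Fin n)}
    (h : (σ : Perm (Fin n)) i = i) : σ ∈ altOn (Finset.univ.erase i) :=
  mem_altOn.2 fun x hx => by
    rw [Finset.mem_erase, not_and_or, not_not] at hx
    rcases hx with rfl | hx
    · exact h
    · exact absurd (Finset.mem_univ x) hx

theorem fix_of_mem_lifts {i : Fin n} {x : X} (h : x ∈ lifts ξ (Finset.univ.erase i)) :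
    (ξ x : Perm (Fin n)) i = i :=
  mem_altOn.1 (map_lifts_le ξ _ ⟨x, h, rfl⟩) i (by simp)

/-- Preimages of the derived subgroup of a point stabilizer: stability. -/
theorem eq_one_of_inj [Finite X] (hn : 7 ≤ n) (hs : Function.Surjective ξ)
    (hk : ξ.ker ≤ center X) (a₀ : Fin n)
    (h0 : ∀ z ∈ ξ.ker, z ∈ lifts ξ (Finset.univ.erase a₀) → z = 1) :
    ∀ z ∈ ξ.ker ⊓ commutator X, z = 1 := by
  classical
  have hinj : ∀ i : Fin n, ∀ z ∈ ξ.ker, z ∈ lifts ξ (Finset.univ.erase i) → z = 1 := fun i => by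
    obtain ⟨π, hπ⟩ := exists_even_map (by omega) a₀ i
    exact lifts_inf_ker_of_map ξ hs hk a₀ i π hπ h0
  have h5 : ∀ i j : Fin n, 5 ≤ ((Finset.univ.erase i).erase j).card := fun i j => by
    have h1 := Finset.pred_card_le_card_erase (s := Finset.univ.erase i) (a := j)
    rw [Finset.card_erase_of_mem (Finset.mem_univ i), Finset.card_univ, Fintype.card_fin] at h1
    omega
  have hmem : ∀ {x σ}, IsLift ξ x σ → ∀ k, (σ : Perm (Fin n)) k = k →
      x ∈ lifts ξ (Finset.univ.erase k) := by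
    rintro x σ ⟨hx, i, hi, hxi⟩ k hk'
    obtain ⟨w, hw, hwσ⟩ := exists_mem_lifts ξ hs (h5 i k) (σ := σ) (mem_altOn.2 fun y hy => by
      rw [Finset.mem_erase, not_and_or, not_not] at hy
      rcases hy with rfl | hy
      · exact hk'
      · exact mem_altOn.1 (mem_altOn_erase hi) y hy)
    have hwi : w ∈ lifts ξ (Finset.univ.erase i) := lifts_mono ξ (Finset.erase_subset _ _) hw
    have hwk : w ∈ lifts ξ (Finset.univ.erase k) :=
      lifts_mono ξ (fun y hy => by
        rw [Finset.mem_erase] at hy ⊢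
        exact ⟨hy.1, Finset.mem_univ y⟩) hw
    have hwx : x⁻¹ * w = 1 := hinj i _ (by
      rw [MonoidHom.mem_ker, map_mul, map_inv, hx, hwσ, inv_mul_cancel])
      (mul_mem (inv_mem hxi) hwi)
    rwa [show x = w from inv_mul_eq_one.1 hwx]
  have hmk : ∀ σ : alternatingGroup (Fin n), ∀ i, (σ : Perm (Fin n)) i = i →
      ∃ x, IsLift ξ x σ := fun σ i hi => by
    have h' : 5 ≤ (Finset.univ.erase i : Finset (Fin n)).card :=
      (h5 i i).trans (Finset.card_le_card (Finset.erase_subset _ _))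
    obtain ⟨w, hw, hwσ⟩ := exists_mem_lifts ξ hs h' (mem_altOn_erase hi)
    exact ⟨w, hwσ, i, hi, hw⟩
  -- the transversal
  have hT : ∀ j : Fin n, ∃ T : alternatingGroup (Fin n), (T : Perm (Fin n)) j = a₀ ∧
      (j = a₀ → T = 1) ∧ ∃ F : Finset (Fin n), F.card ≤ 1 ∧
        ∀ y, y ≠ j → y ≠ a₀ → y ∉ F → (T : Perm (Fin n)) y = y := by
    intro j
    by_cases hj : j = a₀
    · exact ⟨1, by simp [hj], fun _ => rfl, ∅, by simp, fun y _ _ _ => rfl⟩
    obtain ⟨c, hc⟩ : ∃ c, c ∉ ({j, a₀} : Finset (Fin n)) := by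
      by_contra h
      push Not at h
      have h1 : (Finset.univ : Finset (Fin n)).card ≤ ({j, a₀} : Finset (Fin n)).card :=
        Finset.card_le_card fun x _ => h x
      have h2 := Finset.card_le_two (a := j) (b := a₀)
      rw [Finset.card_univ, Fintype.card_fin] at h1; omega
    simp only [Finset.mem_insert, Finset.mem_singleton, not_or] at hc
    refine ⟨⟨swap j c * swap j a₀,
      (isThreeCycle_swap_mul_swap_same (Ne.symm hc.1) hj hc.2).mem_alternatingGroup⟩,
      ?_, fun h => absurd h hj, {c}, by simp, fun y h1 h2 h3 => ?_⟩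
    · show (swap j c * swap j a₀) j = a₀
      rw [Perm.mul_apply, swap_apply_left, swap_apply_of_ne_of_ne (Ne.symm hj) (Ne.symm hc.2)]
    · show (swap j c * swap j a₀) y = y
      rw [Finset.mem_singleton] at h3
      rw [Perm.mul_apply, swap_apply_of_ne_of_ne h1 h2, swap_apply_of_ne_of_ne h1 h3]
  choose T hTj hT1 hF using hT
  choose F hFc hFfix using hF
  have hfree : ∀ (τ : Perm (Fin n)), τ.IsThreeCycle → ∀ j, ∃ f, τ f = f ∧
      (T j : Perm (Fin n)) f = f ∧ (T (τ⁻¹ j) : Perm (Fin n)) f = f := by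
    intro τ hτ j
    set k := τ⁻¹ j with hk
    have hτk : τ k = j := by rw [hk, Perm.inv_def, Equiv.apply_symm_apply]
    by_cases hkj : k = j
    · obtain ⟨f, hf⟩ : ∃ f, f ∉ τ.support ∪ ({j, a₀} ∪ F j) := by
        by_contra h
        push Not at h
        have h1 := Finset.card_le_card (s := (Finset.univ : Finset (Fin n))) fun x _ => h x
        have h2 := Finset.card_union_le τ.support ({j, a₀} ∪ F j)
        have h3 := Finset.card_union_le ({j, a₀} : Finset (Fin n)) (F j)
        have h4 := Finset.card_le_two (a := j) (b := a₀)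
        have h6 := hFc j
        rw [hτ.card_support] at h2
        rw [Finset.card_univ, Fintype.card_fin] at h1; omega
      simp only [Finset.mem_union, Finset.mem_insert, Finset.mem_singleton, not_or] at hf
      refine ⟨f, notMem_support.1 hf.1, hFfix j f hf.2.1.1 hf.2.1.2 hf.2.2, ?_⟩
      rw [hkj]
      exact hFfix j f hf.2.1.1 hf.2.1.2 hf.2.2
    · obtain ⟨f, hf⟩ : ∃ f, f ∉ τ.support ∪ ({a₀} ∪ (F j ∪ F k)) := by
        by_contra h
        push Not at h
        have h1 := Finset.card_le_card (s := (Finset.univ : Finset (Fin n))) fun x _ => h x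
        have h2 := Finset.card_union_le τ.support ({a₀} ∪ (F j ∪ F k))
        have h3 := Finset.card_union_le ({a₀} : Finset (Fin n)) (F j ∪ F k)
        have h4 := Finset.card_union_le (F j) (F k)
        have h6 := hFc j
        have h7 := hFc k
        rw [hτ.card_support] at h2
        rw [Finset.card_singleton] at h3; rw [Finset.card_univ, Fintype.card_fin] at h1; omega
      simp only [Finset.mem_union, Finset.mem_singleton, not_or] at hf
      have hτf := notMem_support.1 hf.1
      refine ⟨f, hτf, hFfix j f ?_ hf.2.1 hf.2.2.1, hFfix k f ?_ hf.2.1 hf.2.2.2⟩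
      · rintro rfl
        exact hkj (τ.injective (hτk.trans hτf.symm))
      · rintro rfl
        exact hkj (hτf.symm.trans hτk)
  set gens : Set X := {x | ∃ τ : alternatingGroup (Fin n), (τ : Perm (Fin n)).IsThreeCycle ∧ IsLift ξ x τ}
    with hgens
  set K := closure gens with hK
  have hstep : ∀ x ∈ K, ∃ j, ∃ l ∈ lifts ξ (Finset.univ.erase a₀), ∃ t, IsLift ξ t (T j) ∧
      x = l * t := by
    intro x hx
    rw [hK, ← mem_toSubmonoid, closure_toSubmonoid_of_finite] at hx
    induction hx using Submonoid.closure_induction_right with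
    | one =>
      refine ⟨a₀, 1, one_mem _, 1, ⟨?_, a₀, ?_, one_mem _⟩, (one_mul 1).symm⟩
      · rw [map_one, hT1 a₀ rfl]
      · rw [hT1 a₀ rfl]; rfl
    | mul_right x _ y hy ih =>
      obtain ⟨j, l, hl, t, ht, rfl⟩ := ih
      obtain ⟨τ, hτ3, hy⟩ := hy
      set k := (τ : Perm (Fin n))⁻¹ j with hkd
      obtain ⟨f, hf1, hf2, hf3⟩ := hfree _ hτ3 j
      obtain ⟨t', ht'⟩ := hmk (T k) f hf3
      have hu : IsLift ξ (t * y * t'⁻¹) (T j * τ * (T k)⁻¹) :=
        ⟨by rw [map_mul, map_mul, map_inv, ht.1, hy.1, ht'.1], f,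
          by
            show ((T j : Perm (Fin n)) * τ * (T k : Perm (Fin n))⁻¹) f = f
            rw [Perm.mul_apply, Perm.mul_apply, Perm.inv_eq_iff_eq.2 hf3.symm, hf1, hf2],
          mul_mem (mul_mem (hmem ht f hf2) (hmem hy f hf1)) (inv_mem (hmem ht' f hf3))⟩
      have hu0 := hmem hu a₀ (by
        show ((T j : Perm (Fin n)) * τ * (T k : Perm (Fin n))⁻¹) a₀ = a₀
        rw [Perm.mul_apply, Perm.mul_apply, Perm.inv_eq_iff_eq.2 (hTj k).symm]
        rw [hkd, Perm.inv_def, Equiv.apply_symm_apply, hTj j])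
      exact ⟨k, l * (t * y * t'⁻¹), mul_mem hl hu0, t', ht', by group⟩
  have hKmap : K.map ξ = ⊤ := by
    rw [eq_top_iff, ← alternatingGroup.closure_isThreeCycles_eq_top (α := Fin n), closure_le]
    intro τ hτ
    obtain ⟨f, hf⟩ : ∃ f, f ∉ (τ : Perm (Fin n)).support := by
      by_contra h
      push Not at h
      have h1 := Finset.card_le_card (s := (Finset.univ : Finset (Fin n))) fun x _ => h x
      rw [hτ.card_support] at h1
      rw [Finset.card_univ, Fintype.card_fin] at h1; omega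
    obtain ⟨x, hx⟩ := hmk τ f (notMem_support.1 hf)
    exact ⟨x, subset_closure ⟨τ, hτ, hx⟩, hx.1⟩
  have hsup : K.subtype.range ⊔ center X = ⊤ := by
    rw [range_subtype, eq_top_iff, ← comap_top ξ, ← hKmap, comap_map_eq]
    exact sup_le_sup_left hk K
  intro z hz
  obtain ⟨w, -, rfl⟩ := Basic.commutator_le_map_of_sup_center K.subtype hsup hz.2
  obtain ⟨j, l, hl, t, ht, hlt⟩ := hstep _ w.2
  show (w : X) = 1
  have h1 : ξ l * T j = 1 := by
    rw [← ht.1, ← map_mul, ← hlt]
    exact hz.1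
  have hj : j = a₀ := by
    have h2 : ((ξ l * T j : alternatingGroup (Fin n)) : Perm (Fin n)) j = j := by rw [h1]; rfl
    rw [Subgroup.coe_mul, Perm.mul_apply, hTj j, fix_of_mem_lifts ξ hl] at h2
    exact h2.symm
  have htm := hmem ht a₀ (by rw [hT1 j hj]; rfl)
  exact hinj a₀ _ hz.1 (by rw [hlt]; exact mul_mem hl htm)

theorem le_lifts [Finite X] (hn : 7 ≤ n) (hs : Function.Surjective ξ) (hk : ξ.ker ≤ center X)
    (a₀ : Fin n) : ξ.ker ⊓ commutator X ≤ lifts ξ (Finset.univ.erase a₀) := by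
  set N := ξ.ker ⊓ lifts ξ (Finset.univ.erase a₀) with hN
  haveI : N.Normal := ⟨fun z hz g => by
    rwa [mem_center_iff.1 (hk hz.1) g, mul_inv_cancel_right]⟩
  set π := QuotientGroup.mk' N
  have hπs : Function.Surjective π := QuotientGroup.mk'_surjective N
  let ξ' : X ⧸ N →* alternatingGroup (Fin n) := QuotientGroup.lift N ξ fun x hx => hx.1
  have hcomp : ξ'.comp π = ξ := rfl
  have hs' : Function.Surjective ξ' := fun y => by
    obtain ⟨x, rfl⟩ := hs y
    exact ⟨π x, rfl⟩
  have hk' : ξ'.ker ≤ center (X ⧸ N) := by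
    intro q hq
    obtain ⟨x, rfl⟩ := hπs q
    refine mem_center_iff.2 fun r => ?_
    obtain ⟨y, rfl⟩ := hπs r
    rw [← map_mul, ← map_mul, mem_center_iff.1 (hk (show ξ x = 1 from hq)) y]
  have hlift : ∀ s, lifts ξ' s = (lifts ξ s).map π := fun s => by
    rw [lifts, lifts, map_commutator, show (altOn s).comap ξ = ((altOn s).comap ξ').comap π by
      rw [comap_comap, hcomp], map_comap_eq_self_of_surjective hπs]
  intro z hz
  have h1 : π z = 1 := eq_one_of_inj ξ' hn hs' hk' a₀ (fun q hq hql => by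
    rw [hlift] at hql
    obtain ⟨x, hx, rfl⟩ := hql
    exact (QuotientGroup.eq_one_iff x).2 ⟨hq, hx⟩) (π z) ⟨hz.1, by
    have : π z ∈ (commutator X).map π := ⟨z, hz.2, rfl⟩
    rwa [_root_.commutator_def, map_commutator, map_top_of_surjective π hπs,
      ← _root_.commutator_def] at this⟩
  exact ((QuotientGroup.eq_one_iff z).1 h1).2

/-- One step down. -/
theorem exists_smaller [Finite X] {m : ℕ} (hm : n = m + 1) (hn : 7 ≤ n) (hs : Function.Surjective ξ)
    (hk : ξ.ker ≤ center X) :
    ∃ (Y : Subgroup X) (η : Y →* alternatingGroup (Fin m)), Function.Surjective η ∧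
      η.ker ≤ center Y ∧ ξ.ker ⊓ commutator X ≤ (η.ker ⊓ commutator Y).map Y.subtype := by
  obtain ⟨a₀⟩ : Nonempty (Fin n) := ⟨⟨0, by omega⟩⟩
  set s : Finset (Fin n) := Finset.univ.erase a₀ with hs'
  have hcard : s.card = m := by
    rw [hs', Finset.card_erase_of_mem (Finset.mem_univ _), Finset.card_univ, Fintype.card_fin]
    omega
  let e : alternatingGroup (Fin m) ≃* alternatingGroup s :=
    Equiv.altCongrHom (Fintype.equivOfCardEq (by simp [hcard]))
  let f : altOn s ≃* alternatingGroup (Fin m) :=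
    (MonoidHom.ofInjective (alternatingGroup.ofSubtype_injective (s := s))).symm.trans e.symm
  let g : (altOn s).comap ξ →* altOn s :=
    (ξ.comp ((altOn s).comap ξ).subtype).codRestrict (altOn s) fun x => x.2
  refine ⟨(altOn s).comap ξ, f.toMonoidHom.comp g, ?_, ?_, fun z hz => ?_⟩
  · refine f.surjective.comp fun y => ?_
    obtain ⟨x, hx⟩ := hs y
    exact ⟨⟨x, by rw [mem_comap, hx]; exact y.2⟩, Subtype.ext hx⟩
  · intro x hx
    have : g x = 1 := f.injective (hx.trans (map_one f).symm)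
    exact mem_center_iff.2 fun y => Subtype.ext
      (mem_center_iff.1 (hk (show ξ (x : X) = 1 from congrArg Subtype.val this)) y)
  · have h := le_lifts ξ hn hs hk a₀ hz
    rw [lifts, ← map_subtype_commutator] at h
    obtain ⟨y, hy, rfl⟩ := h
    refine ⟨y, ⟨?_, hy⟩, rfl⟩
    show f (g y) = 1
    rw [show g y = 1 from Subtype.ext hz.1, map_one]

theorem closure_index {Q : Type*} [Group Q] [Finite Q] [DecidableEq Q] (a b : Q) (m r e c k : ℕ)
    (hm : 2 ≤ m) (hr : 2 ≤ r) (ha : a ^ m = 1) (hb : b ^ r = 1) (hba : b * a = a ^ e * b)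
    (hc : ((Finset.range m ×ˢ Finset.range r).image (fun p => a ^ p.1 * b ^ p.2)).card = c)
    (hk : Nat.card Q = c * k) (hc0 : c ≠ 0) : (closure ({a, b} : Set Q)).index = k := by
  have hmem : ∀ i j : ℕ, a ^ i * b ^ j ∈
      (Finset.range m ×ˢ Finset.range r).image (fun p => a ^ p.1 * b ^ p.2) := fun i j =>
    Finset.mem_image.2 ⟨(i % m, j % r), by simp [Nat.mod_lt _ (by omega : 0 < m), Nat.mod_lt _ (by omega : 0 < r)],
      by rw [← pow_eq_pow_mod i ha, ← pow_eq_pow_mod j hb]⟩
  have hpow : ∀ j : ℕ, b ^ j * a = a ^ (e ^ j) * b ^ j := by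
    intro j
    induction j with
    | zero => simp
    | succ j ih =>
      have h1 : SemiconjBy b (a ^ (e ^ j)) ((a ^ e) ^ (e ^ j)) := SemiconjBy.pow_right hba _
      calc b ^ (j + 1) * a = b * (b ^ j * a) := by rw [pow_succ', mul_assoc]
        _ = b * a ^ (e ^ j) * b ^ j := by rw [ih, mul_assoc]
        _ = (a ^ e) ^ (e ^ j) * b * b ^ j := by rw [h1.eq]
        _ = _ := by rw [mul_assoc, ← pow_succ', ← pow_mul, ← pow_succ']
  have h := (closure ({a, b} : Set Q)).card_mul_index
  rw [card_closure_pair a b m r hm hr _ rfl (fun x hx => by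
    obtain ⟨⟨i, j⟩, -, rfl⟩ := Finset.mem_image.1 hx
    refine ⟨?_, ?_⟩
    · rw [mul_assoc, hpow, ← mul_assoc, ← pow_add]; exact hmem _ _
    · rw [mul_assoc, ← pow_succ]; exact hmem _ _), hc, hk] at h
  exact Nat.eq_of_mul_eq_mul_left (Nat.pos_of_ne_zero hc0) h

theorem card_alt (n : ℕ) (hn : 2 ≤ n) : Nat.card (alternatingGroup (Fin n)) = n.factorial / 2 := by
  haveI : Nontrivial (Fin n) := Fin.nontrivial_iff_two_le.2 hn
  rw [nat_card_alternatingGroup, Nat.card_eq_fintype_card, Fintype.card_fin]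

theorem pow_eq_one_of_elt [Finite X] (hs : Function.Surjective ξ) (hk : ξ.ker ≤ center X)
    (hn : 2 ≤ n) (c : alternatingGroup (Fin n)) (d k : ℕ) (hd : d ≠ 0)
    (hc : c ^ d = 1) (hc' : ∀ e, e < d → 0 < e → c ^ e ≠ 1)
    (hk' : n.factorial / 2 = d * k) {z : X} (hz : z ∈ ξ.ker ⊓ commutator X) : z ^ k = 1 := by
  have ho : orderOf c = d := (orderOf_eq_iff (Nat.pos_of_ne_zero hd)).2 ⟨hc, hc'⟩
  have hi : (zpowers c).index = k := by
    have h := (zpowers c).card_mul_index
    rw [Nat.card_zpowers, ho, card_alt n hn, hk'] at h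
    exact Nat.eq_of_mul_eq_mul_left (Nat.pos_of_ne_zero hd) h
  rw [← hi]
  exact Bound.pow_index_eq_one_of_cyclic ξ hs hk (zpowers c) hz.1 hz.2

end CfsgLib.Schur.Alternating
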