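import Cfsg.Agent.Lib.Schur.Basic

/-! # Pairs of stem extensions, perfect groups -/

namespace CfsgLib.Schur.Cover

universe u v w

open Subgroup CfsgLib.Schur.Basic
open scoped commutatorElement

/-- A homomorphism from a perfect group with values in an abelian subgroup is trivial. -/
theorem eq_one_of_isPerfect {G : Type u} {D : Type v} [Group G] [Group D] (hG : Group.IsPerfect G)
    (f : G →* D) (hf : ∀ a b, Commute (f a) (f b)) (g : G) : f g = 1 := by
  haveI := hG
  have h1 : commutator G ≤ f.ker := by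
    rw [_root_.commutator_def, commutator_le]
    intro a _ b _
    rw [MonoidHom.mem_ker, map_commutatorElement, commutatorElement_eq_one_iff_mul_comm]
    exact hf a b
  exact h1 ((Group.IsPerfect.commutator_eq_top (G := G)).ge trivial)

/-- Two maps from a perfect group that agree modulo the centre are equal. -/
theorem hom_eq_of_isPerfect {G : Type u} {X : Type v} [Group G] [Group X] (hG : Group.IsPerfect G)
    (f₁ f₂ : G →* X) (h : ∀ g, (f₁ g)⁻¹ * f₂ g ∈ center X) : f₁ = f₂ := by
  let d : G →* center X :=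
    { toFun := fun g => ⟨(f₁ g)⁻¹ * f₂ g, h g⟩
      map_one' := Subtype.ext (by simp)
      map_mul' := fun a b => Subtype.ext (by
        show (f₁ (a * b))⁻¹ * f₂ (a * b) = (f₁ a)⁻¹ * f₂ a * ((f₁ b)⁻¹ * f₂ b)
        have hc := mem_center_iff.mp (h a) (f₁ b)⁻¹
        rw [map_mul, map_mul, mul_inv_rev]
        calc (f₁ b)⁻¹ * (f₁ a)⁻¹ * (f₂ a * f₂ b) = (f₁ b)⁻¹ * ((f₁ a)⁻¹ * f₂ a) * f₂ b := by group
          _ = (f₁ a)⁻¹ * f₂ a * (f₁ b)⁻¹ * f₂ b := by rw [hc]
          _ = _ := by group) }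
  ext g
  have := congrArg Subtype.val
    (eq_one_of_isPerfect hG d (fun a b => Subtype.ext ((mem_center_iff.mp (d b).2) (d a).1)) g)
  exact inv_mul_eq_one.mp this

/-- An element that centralizes a perfect group modulo the centre is central. -/
theorem mem_center_of_isPerfect {G : Type u} [Group G] (hG : Group.IsPerfect G) (x : G)
    (h : ∀ g, x * g * x⁻¹ * g⁻¹ ∈ center G) : x ∈ center G := by
  rw [mem_center_iff]
  intro g
  have e : MonoidHom.id G = (MulAut.conj x).toMonoidHom := hom_eq_of_isPerfect hG _ _ fun a => by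
    have := (show (center G).Normal from inferInstance).conj_mem _ (h a) a⁻¹
    simpa [mul_assoc] using this
  calc g * x = (MulAut.conj x).toMonoidHom g * x := by rw [← e]; rfl
    _ = x * g := by simp

/-- A surjection from a map with smaller kernel. -/
theorem exists_surjective_of_ker_le {M : Type u} {K : Type v} {L : Type w} [Group M] [Group K]
    [Group L] (q₁ : M →* K) (h₁ : Function.Surjective q₁) (q₂ : M →* L)
    (h₂ : Function.Surjective q₂) (h : q₁.ker ≤ q₂.ker) :
    ∃ π : K →* L, Function.Surjective π := by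
  refine ⟨(q₁.liftOfSurjective h₁) ⟨q₂, h⟩, fun y => ?_⟩
  obtain ⟨m, rfl⟩ := h₂ y
  exact ⟨q₁ m, MonoidHom.liftOfRightInverse_comp_apply _ _ _ _ m⟩

/-- Compare the kernels of two stem extensions through the multiplier. -/
theorem exists_surjective_kernels {Q : Type u} [Group Q] {Γ : Type v} [Group Γ] {Δ : Type w}
    [Group Δ] (σ : Γ →* Q) (hσ : Cfsg.IsStemExtension σ) (τ : Δ →* Q)
    (hτ : Cfsg.IsStemExtension τ) (η : Ext (canon Q) →* Γ) (hη : σ.comp η = proj (canon Q))
    (η' : Ext (canon Q) →* Δ) (hη' : τ.comp η' = proj (canon Q))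
    (h : ∀ m ∈ multOf (canon Q), η m = 1 → η' m = 1) :
    ∃ π : σ.ker →* τ.ker, Function.Surjective π := by
  have key : ∀ {X : Type v} [Group X] (ξ : X →* Q) (_ : Cfsg.IsStemExtension ξ)
      (θ : Ext (canon Q) →* X) (_ : ξ.comp θ = proj (canon Q)),
      (multOf (canon Q)).map θ = ξ.ker := fun ξ hξ θ hθ =>
    (map_multOf _ (canon_surjective Q) ξ hξ.2.1 θ hθ).trans (inf_eq_left.mpr hξ.2.2)
  have k1 : (multOf (canon Q)).map η = σ.ker := key σ hσ η hη
  have k2 : (multOf (canon Q)).map η' = τ.ker :=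
    (map_multOf _ (canon_surjective Q) τ hτ.2.1 η' hη').trans (inf_eq_left.mpr hτ.2.2)
  refine exists_surjective_of_ker_le
    ((η.comp (multOf (canon Q)).subtype).codRestrict σ.ker fun m => k1.le ⟨m.1, m.2, rfl⟩) ?_
    ((η'.comp (multOf (canon Q)).subtype).codRestrict τ.ker fun m => k2.le ⟨m.1, m.2, rfl⟩) ?_ ?_
  · intro x
    obtain ⟨m, hm, hx⟩ := k1.ge x.2
    exact ⟨⟨m, hm⟩, Subtype.ext hx⟩
  · intro x
    obtain ⟨m, hm, hx⟩ := k2.ge x.2
    exact ⟨⟨m, hm⟩, Subtype.ext hx⟩
  · intro m hm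
    exact Subtype.ext (h m.1 m.2 (congrArg Subtype.val hm))

end CfsgLib.Schur.Cover
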