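import Mathlib
import Cfsg.Prelude.Def_KGroupFacts

/-!
# The Schur multiplier of a finite group

For a surjection `φ : FreeGroup α →* Q` with kernel `R` the group `F ⧸ ⁅F, R⁆` is a central extension of `Q`,
through which every central extension factors.  Its kernel meets its commutator subgroup in the multiplier.
-/

namespace CfsgLib.Schur.Basic

universe u v w

open Subgroup
open scoped commutatorElement

variable {Q : Type u} [Group Q]

/-- A group whose centre has finite index has a finite commutator subgroup (Schur). -/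
theorem finite_commutator_of_finiteIndex_center {X : Type v} [Group X] [(center X).FiniteIndex] :
    Finite (commutator X) := by
  have : Finite (commutatorSet X) := by
    apply Set.Finite.to_subtype
    refine Set.Finite.subset
      (Set.finite_range fun p : (X ⧸ center X) × (X ⧸ center X) => ⁅p.1.out, p.2.out⁆) ?_
    rintro _ ⟨a, b, rfl⟩
    refine ⟨((a : X ⧸ center X), (b : X ⧸ center X)), ?_⟩
    obtain ⟨z, hz⟩ := QuotientGroup.mk_out_eq_mul (center X) a
    obtain ⟨w, hw⟩ := QuotientGroup.mk_out_eq_mul (center X) b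
    have h1 := mem_center_iff.mp z.2
    have h2 := mem_center_iff.mp w.2
    simp only [hz, hw, commutatorElement_def, mul_inv_rev]
    calc a * z * (b * w) * ((z : X)⁻¹ * a⁻¹) * ((w : X)⁻¹ * b⁻¹)
        = a * ((z : X) * (b * w)) * ((z : X)⁻¹ * a⁻¹) * ((w : X)⁻¹ * b⁻¹) := by group
      _ = a * ((b * w) * z) * ((z : X)⁻¹ * a⁻¹) * ((w : X)⁻¹ * b⁻¹) := by rw [h1]
      _ = a * b * ((w : X) * a⁻¹) * ((w : X)⁻¹ * b⁻¹) := by group
      _ = a * b * (a⁻¹ * w) * ((w : X)⁻¹ * b⁻¹) := by rw [h2]
      _ = a * b * a⁻¹ * b⁻¹ := by group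
  infer_instance

/-- If `X = H · Z(X)` then the commutator subgroup of `X` is that of `H`. -/
theorem commutator_le_map_of_sup_center {E : Type w} {X : Type v} [Group E] [Group X] (η : E →* X)
    (h : η.range ⊔ center X = ⊤) : commutator X ≤ (commutator E).map η := by
  rw [commutator_def, commutator_le]
  intro a _ b _
  have ha : a ∈ ((η.range ⊔ center X : Subgroup X) : Set X) := by rw [h]; trivial
  have hb : b ∈ ((η.range ⊔ center X : Subgroup X) : Set X) := by rw [h]; trivial
  rw [Subgroup.mul_normal] at ha hb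
  obtain ⟨_, ⟨e, rfl⟩, z, hz, rfl⟩ := Set.mem_mul.mp ha
  obtain ⟨_, ⟨f, rfl⟩, w, hw, rfl⟩ := Set.mem_mul.mp hb
  refine ⟨⁅e, f⁆, commutator_mem_commutator (mem_top e) (mem_top f), ?_⟩
  have h1 := mem_center_iff.mp hz
  have h2 := mem_center_iff.mp hw
  rw [map_commutatorElement, commutatorElement_def, commutatorElement_def, mul_inv_rev, mul_inv_rev]
  calc η e * η f * (η e)⁻¹ * (η f)⁻¹
      = η e * η f * ((η e)⁻¹ * w) * (w⁻¹ * (η f)⁻¹) := by group
    _ = η e * η f * (w * (η e)⁻¹) * (w⁻¹ * (η f)⁻¹) := by rw [h2]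
    _ = η e * ((η f * w) * z) * (z⁻¹ * (η e)⁻¹) * (w⁻¹ * (η f)⁻¹) := by group
    _ = η e * (z * (η f * w)) * (z⁻¹ * (η e)⁻¹) * (w⁻¹ * (η f)⁻¹) := by rw [h1]
    _ = η e * z * (η f * w) * (z⁻¹ * (η e)⁻¹) * (w⁻¹ * (η f)⁻¹) := by group

/-- The image of a map lifting the identity, together with a central kernel, is everything. -/
theorem range_sup_center_eq_top {E : Type w} {X : Type v} [Group E] [Group X] (π : E →* Q)
    (hπ : Function.Surjective π) (ξ : X →* Q) (hk : ξ.ker ≤ center X) (η : E →* X)
    (h : ξ.comp η = π) : η.range ⊔ center X = ⊤ := by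
  rw [eq_top_iff]
  intro x _
  obtain ⟨e, he⟩ := hπ (ξ x)
  have hz : (η e)⁻¹ * x ∈ ξ.ker := by
    rw [MonoidHom.mem_ker, map_mul, map_inv, ← MonoidHom.comp_apply, h, he, inv_mul_cancel]
  have := Subgroup.mul_mem_sup (show η e ∈ η.range from ⟨e, rfl⟩) (hk hz)
  rwa [mul_inv_cancel_left] at this

/-! ### The central extension attached to a presentation -/

section
variable {α : Type w} (φ : FreeGroup α →* Q)

/-- The subgroup `⁅F, R⁆`. -/
def commRel : Subgroup (FreeGroup α) := ⁅(⊤ : Subgroup (FreeGroup α)), φ.ker⁆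

instance commRel_normal : (commRel φ).Normal := by unfold commRel; infer_instance

theorem commRel_le_ker : commRel φ ≤ φ.ker := commutator_le_right ⊤ φ.ker

/-- The central extension `F ⧸ ⁅F, R⁆`. -/
abbrev Ext : Type w := FreeGroup α ⧸ commRel φ

/-- The map `F ⧸ ⁅F, R⁆ → Q`. -/
def proj : Ext φ →* Q := QuotientGroup.lift (commRel φ) φ (commRel_le_ker φ)

@[simp] theorem proj_mk (x : FreeGroup α) : proj φ (QuotientGroup.mk x) = φ x := rfl

theorem proj_surjective (hφ : Function.Surjective φ) : Function.Surjective (proj φ) := fun q => by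
  obtain ⟨x, rfl⟩ := hφ q; exact ⟨QuotientGroup.mk x, rfl⟩

theorem ker_proj_le_center : (proj φ).ker ≤ center (Ext φ) := by
  intro x hx
  induction x using QuotientGroup.induction_on with
  | _ a =>
    rw [MonoidHom.mem_ker, proj_mk] at hx
    rw [mem_center_iff]
    intro y
    induction y using QuotientGroup.induction_on with
    | _ b =>
      rw [← commutatorElement_eq_one_iff_mul_comm,
        show ⁅(b : Ext φ), (a : Ext φ)⁆ = QuotientGroup.mk' (commRel φ) ⁅b, a⁆ from
          (map_commutatorElement (QuotientGroup.mk' (commRel φ)) b a).symm,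
        QuotientGroup.mk'_apply, QuotientGroup.eq_one_iff]
      exact commutator_mem_commutator (mem_top b) hx

/-- Every central extension of `Q` receives a map from `F ⧸ ⁅F, R⁆` over `Q`. -/
theorem exists_lift {X : Type v} [Group X] (ξ : X →* Q) (hξ : Function.Surjective ξ)
    (hk : ξ.ker ≤ center X) : ∃ η : Ext φ →* X, ξ.comp η = proj φ := by
  choose s hs using hξ
  let L : FreeGroup α →* X := FreeGroup.lift fun a => s (φ (FreeGroup.of a))
  have hL : ξ.comp L = φ := FreeGroup.ext_hom _ _ fun a => by simp [L, hs]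
  refine ⟨QuotientGroup.lift (commRel φ) L ?_, ?_⟩
  · refine commutator_le.mpr fun a _ b hb => ?_
    rw [MonoidHom.mem_ker, map_commutatorElement, commutatorElement_eq_one_iff_mul_comm]
    exact mem_center_iff.mp (hk (by
      rw [MonoidHom.mem_ker, ← MonoidHom.comp_apply, hL]; exact hb)) _
  · exact QuotientGroup.monoidHom_ext _ hL

/-- The multiplier read off from the presentation. -/
def multOf : Subgroup (Ext φ) := (proj φ).ker ⊓ commutator (Ext φ)

theorem multOf_le_center : multOf φ ≤ center (Ext φ) := inf_le_left.trans (ker_proj_le_center φ)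

theorem finiteIndex_center [Finite Q] : (center (Ext φ)).FiniteIndex := by
  have : (proj φ).ker.FiniteIndex := by
    constructor
    rw [Subgroup.index_ker]
    exact Nat.card_pos.ne'
  exact Subgroup.finiteIndex_of_le (ker_proj_le_center φ)

instance multOf_finite [Finite Q] : Finite (multOf φ) := by
  haveI := finiteIndex_center φ
  haveI := finite_commutator_of_finiteIndex_center (X := Ext φ)
  exact Finite.of_injective _
    (Subgroup.inclusion_injective (inf_le_right : multOf φ ≤ commutator (Ext φ)))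

/-- A central extension's kernel inside the commutator subgroup is the image of the multiplier. -/
theorem map_multOf (hφ : Function.Surjective φ) {X : Type v} [Group X] (ξ : X →* Q)
    (hk : ξ.ker ≤ center X) (η : Ext φ →* X) (h : ξ.comp η = proj φ) :
    (multOf φ).map η = ξ.ker ⊓ commutator X := by
  apply le_antisymm
  · rintro _ ⟨e, ⟨he1, he2⟩, rfl⟩
    refine ⟨?_, ?_⟩
    · show ξ (η e) = 1
      rw [← MonoidHom.comp_apply, h]; exact he1
    · have hle : (commutator (Ext φ)).map η ≤ commutator X := by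
        rw [_root_.commutator_def, _root_.commutator_def, map_commutator]
        exact commutator_mono le_top le_top
      exact hle ⟨e, he2, rfl⟩
  · rintro x ⟨hx1, hx2⟩
    obtain ⟨e, he, rfl⟩ := commutator_le_map_of_sup_center η
      (range_sup_center_eq_top _ (proj_surjective φ hφ) ξ hk η h) hx2
    refine ⟨e, ⟨?_, he⟩, rfl⟩
    show proj φ e = 1
    rw [← h]; exact hx1

/-- The map to a stem extension is onto. -/
theorem lift_surjective (hφ : Function.Surjective φ) {X : Type v} [Group X] (ξ : X →* Q)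
    (hs : Cfsg.IsStemExtension ξ) (η : Ext φ →* X) (h : ξ.comp η = proj φ) :
    Function.Surjective η := by
  intro x
  obtain ⟨e, he⟩ := proj_surjective φ hφ (ξ x)
  have hz : (η e)⁻¹ * x ∈ ξ.ker := by
    rw [MonoidHom.mem_ker, map_mul, map_inv, ← MonoidHom.comp_apply, h, he, inv_mul_cancel]
  obtain ⟨f, -, hf⟩ := (map_multOf φ hφ ξ hs.2.1 η h).ge
    (show (η e)⁻¹ * x ∈ ξ.ker ⊓ commutator X from ⟨hz, hs.2.2 hz⟩)
  exact ⟨e * f, by rw [map_mul, hf, mul_inv_cancel_left]⟩

/-- The kernel of a stem extension is an image of the multiplier. -/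
theorem exists_surjective_ker (hφ : Function.Surjective φ) {X : Type v} [Group X] (ξ : X →* Q)
    (hs : Cfsg.IsStemExtension ξ) :
    ∃ π : multOf φ →* ξ.ker, Function.Surjective π := by
  obtain ⟨η, hη⟩ := exists_lift φ ξ hs.1 hs.2.1
  have hmap := map_multOf φ hφ ξ hs.2.1 η hη
  have key : (multOf φ).map η = ξ.ker := hmap.trans (inf_eq_left.mpr hs.2.2)
  refine ⟨(η.comp (multOf φ).subtype).codRestrict ξ.ker
    fun m => key.le ⟨m.1, m.2, rfl⟩, fun x => ?_⟩
  obtain ⟨e, he, hex⟩ := key.ge x.2
  exact ⟨⟨e, he⟩, Subtype.ext hex⟩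

/-- The abelianization of `F ⧸ ⁅F, R⁆` is that of `F`. -/
def toAb : Ext φ →* Abelianization (FreeGroup α) :=
  QuotientGroup.lift (commRel φ) Abelianization.of (by
    rw [Abelianization.ker_of, commutator_def]; exact commutator_mono le_rfl le_top)

theorem ker_toAb : (toAb φ).ker = commutator (Ext φ) := by
  refine le_antisymm ?_ (Abelianization.commutator_subset_ker _)
  intro x hx
  induction x using QuotientGroup.induction_on with
  | _ a =>
    have ha : a ∈ commutator (FreeGroup α) := by
      rw [← Abelianization.ker_of]; exact hx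
    have h2 : QuotientGroup.mk' (commRel φ) a ∈
        (commutator (FreeGroup α)).map (QuotientGroup.mk' (commRel φ)) := ⟨a, ha, rfl⟩
    rw [commutator_def, map_commutator] at h2
    rw [commutator_def]
    exact commutator_mono le_top le_top h2

/-- In a subgroup of the kernel of `F ⧸ ⁅F, R⁆ → Q` the commutator part splits off. -/
theorem exists_complement_le [Finite α] (L : Subgroup (Ext φ)) (hL : L ≤ (proj φ).ker) :
    ∃ C : Subgroup (Ext φ), C ≤ L ∧ C ⊓ commutator (Ext φ) = ⊥ ∧
      C ⊔ (L ⊓ commutator (Ext φ)) = L := by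
  have := Fintype.ofFinite α
  haveI hc : IsMulCommutative L :=
    ⟨⟨fun a b => Subtype.ext ((mem_center_iff.mp (ker_proj_le_center φ (hL a.2))) b.1).symm⟩⟩
  let K := L
  letI : CommGroup K := { (inferInstance : Group K) with mul_comm := hc.1.1 }
  let f : Additive K →ₗ[ℤ] FreeAbelianGroup α :=
    (MonoidHom.toAdditive ((toAb φ).comp K.subtype)).toIntLinearMap
  haveI : Module.Finite ℤ (FreeAbelianGroup α) :=
    Module.Finite.equiv (FreeAbelianGroup.equivFinsupp α).symm.toIntLinearEquiv
  haveI : Module.Free ℤ (FreeAbelianGroup α) :=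
    Module.Free.of_equiv (FreeAbelianGroup.equivFinsupp α).symm.toIntLinearEquiv
  haveI : Module.Free ℤ (LinearMap.range f) := inferInstance
  obtain ⟨s, hs⟩ := Module.projective_lifting_property f.rangeRestrict LinearMap.id
    f.surjective_rangeRestrict
  let S : Multiplicative (LinearMap.range f) →* K :=
    { toFun := fun y => Additive.toMul (s (Multiplicative.toAdd y))
      map_one' := by simp
      map_mul' := fun a b => by simp }
  have hS : ∀ y, toAb φ (S y : K).1 = Additive.toMul (Multiplicative.toAdd y).1 := fun y =>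
    congrArg (fun z => Additive.toMul z.1) (LinearMap.congr_fun hs (Multiplicative.toAdd y))
  refine ⟨S.range.map K.subtype, ?_, ?_, ?_⟩
  · rintro _ ⟨k, -, rfl⟩; exact k.2
  · rw [eq_bot_iff]
    rintro _ ⟨⟨_, ⟨y, rfl⟩, rfl⟩, hy⟩
    rw [← ker_toAb] at hy
    have : Multiplicative.toAdd y = 0 := Subtype.ext ((hS y).symm.trans hy)
    have : y = 1 := this
    simp [this]
  · refine le_antisymm (sup_le ?_ inf_le_left) fun k hk => ?_
    · rintro _ ⟨k, -, rfl⟩; exact k.2
    let y : Multiplicative (LinearMap.range f) :=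
      Multiplicative.ofAdd (f.rangeRestrict (Additive.ofMul ⟨k, hk⟩))
    have hm : (S y).1⁻¹ * k ∈ L ⊓ commutator (Ext φ) := by
      refine Subgroup.mem_inf.mpr ⟨L.mul_mem (L.inv_mem (S y).2) hk, ?_⟩
      rw [← ker_toAb, MonoidHom.mem_ker, map_mul, map_inv, hS]
      exact inv_mul_cancel _
    have := Subgroup.mul_mem_sup
      (show (S y).1 ∈ S.range.map K.subtype from ⟨S y, ⟨y, rfl⟩, rfl⟩) hm
    rwa [mul_inv_cancel_left] at this

/-- The kernel of `F ⧸ ⁅F, R⁆ → Q` is the multiplier times a subgroup meeting it trivially. -/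
theorem exists_complement [Finite α] :
    ∃ C : Subgroup (Ext φ), C ≤ (proj φ).ker ∧ C ⊓ commutator (Ext φ) = ⊥ ∧
      C ⊔ multOf φ = (proj φ).ker :=
  exists_complement_le φ _ le_rfl

/-- A complement to the multiplier in the kernel gives a covering group. -/
theorem cover_of_complement (hφ : Function.Surjective φ) [Finite Q] (C : Subgroup (Ext φ))
    [C.Normal] (hC : C ≤ (proj φ).ker) (hd : C ⊓ commutator (Ext φ) = ⊥)
    (hj : C ⊔ multOf φ = (proj φ).ker) :
    Finite (Ext φ ⧸ C) ∧ Cfsg.IsStemExtension (QuotientGroup.lift C (proj φ) hC) ∧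
      ∃ e : multOf φ ≃* (QuotientGroup.lift C (proj φ) hC).ker,
        ∀ m, (e m : Ext φ ⧸ C) = QuotientGroup.mk (m : Ext φ) := by
  let σ := QuotientGroup.lift C (proj φ) hC
  have hker : σ.ker = (multOf φ).map (QuotientGroup.mk' C) := by
    apply le_antisymm
    · intro x hx
      induction x using QuotientGroup.induction_on with
      | _ a =>
        have ha : a ∈ ((C ⊔ multOf φ : Subgroup (Ext φ)) : Set (Ext φ)) := by rw [hj]; exact hx
        rw [Subgroup.normal_mul] at ha
        obtain ⟨c, hc, m, hm, rfl⟩ := Set.mem_mul.mp ha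
        exact ⟨m, hm, by simp [(QuotientGroup.eq_one_iff c).mpr hc]⟩
    · rintro _ ⟨m, hm, rfl⟩; exact hm.1
  let f : multOf φ →* σ.ker := ((QuotientGroup.mk' C).comp (multOf φ).subtype).codRestrict _
    fun m => hker.ge ⟨m.1, m.2, rfl⟩
  have hf : Function.Bijective f := by
    refine ⟨(injective_iff_map_eq_one f).mpr fun m hm => ?_, fun x => ?_⟩
    · have h1 : (m : Ext φ) ∈ C := (QuotientGroup.eq_one_iff _).mp (congrArg Subtype.val hm)
      have h2 : (m : Ext φ) ∈ C ⊓ commutator (Ext φ) := ⟨h1, m.2.2⟩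
      rw [hd] at h2
      exact Subtype.ext h2
    · obtain ⟨m, hm, hmx⟩ := hker.le x.2
      exact ⟨⟨m, hm⟩, Subtype.ext hmx⟩
  have hsurj : Function.Surjective σ := fun q => by
    obtain ⟨x, hx⟩ := proj_surjective φ hφ q; exact ⟨QuotientGroup.mk x, hx⟩
  refine ⟨?_, ⟨hsurj, ?_, ?_⟩, MulEquiv.ofBijective f hf, fun m => rfl⟩
  · haveI : Finite σ.ker := Finite.of_surjective f hf.2
    haveI : Finite ((Ext φ ⧸ C) ⧸ σ.ker) :=
      Finite.of_equiv Q (QuotientGroup.quotientKerEquivOfSurjective σ hsurj).symm.toEquiv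
    exact Finite.of_equiv (((Ext φ ⧸ C) ⧸ σ.ker) × σ.ker)
      Subgroup.groupEquivQuotientProdSubgroup.symm
  · show σ.ker ≤ _
    rw [hker]
    rintro _ ⟨m, hm, rfl⟩
    rw [mem_center_iff]
    intro y
    induction y using QuotientGroup.induction_on with
    | _ a => exact congrArg (QuotientGroup.mk (s := C)) (mem_center_iff.mp (multOf_le_center φ hm) a)
  · show σ.ker ≤ _
    rw [hker]
    refine le_trans (Subgroup.map_mono inf_le_right) ?_
    rw [_root_.commutator_def, _root_.commutator_def, map_commutator]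
    exact commutator_mono le_top le_top

theorem normal_of_le_ker {C : Subgroup (Ext φ)} (hC : C ≤ (proj φ).ker) : C.Normal :=
  ⟨fun n hn g => by
    rw [mem_center_iff.mp (ker_proj_le_center φ (hC hn)) g]
    simpa using hn⟩

end

/-! ### The multiplier -/

/-- The presentation on all elements of `Q`. -/
def canon (Q : Type u) [Group Q] : FreeGroup Q →* Q := FreeGroup.lift id

theorem canon_surjective (Q : Type u) [Group Q] : Function.Surjective (canon Q) :=
  fun q => ⟨FreeGroup.of q, by simp [canon]⟩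

/-- The Schur multiplier. -/
abbrev Mult (Q : Type u) [Group Q] : Type u := multOf (canon Q)

theorem mult_comm {α : Type w} (φ : FreeGroup α →* Q) (a b : multOf φ) : a * b = b * a :=
  Subtype.ext ((mem_center_iff.mp (multOf_le_center φ a.2)) b.1).symm

instance commGroupMultOf {α : Type w} (φ : FreeGroup α →* Q) : CommGroup (multOf φ) :=
  { (inferInstance : Group (multOf φ)) with mul_comm := mult_comm φ }

/-- A covering group exists. -/
theorem exists_cover (Q : Type u) [Group Q] [Finite Q] :
    ∃ (Γ : Type u) (_ : Group Γ) (_ : Finite Γ) (σ : Γ →* Q),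
      Cfsg.IsStemExtension σ ∧ Nonempty (σ.ker ≃* Mult Q) := by
  obtain ⟨C, hC, hd, hj⟩ := exists_complement (canon Q)
  haveI := normal_of_le_ker (canon Q) hC
  obtain ⟨hfin, hs, e, -⟩ := cover_of_complement (canon Q) (canon_surjective Q) C hC hd hj
  exact ⟨_, inferInstance, hfin, _, hs, ⟨e.symm⟩⟩

theorem hasSchurMultiplier_mult (Q : Type u) [Group Q] [Finite Q] :
    Cfsg.HasSchurMultiplier Q (Mult Q) :=
  ⟨exists_cover Q, fun _ _ _ σ hσ => exists_surjective_ker _ (canon_surjective Q) σ hσ⟩

/-- Finite groups mapping onto each other are isomorphic. -/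
theorem mulEquiv_of_surjective {A : Type v} {B : Type w} [Group A] [Group B] [Finite A]
    (f : A →* B) (hf : Function.Surjective f) (g : B →* A) (hg : Function.Surjective g) :
    Nonempty (A ≃* B) := by
  haveI := Finite.of_surjective f hf
  exact ⟨MulEquiv.ofBijective f
    ((Nat.bijective_iff_surjective_and_card f).mpr
      ⟨hf, le_antisymm (Nat.card_le_card_of_surjective g hg) (Nat.card_le_card_of_surjective f hf)⟩)⟩

theorem finite_of_hasSchurMultiplier {A : Type v} [CommGroup A]
    (hA : Cfsg.HasSchurMultiplier Q A) : Finite A := by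
  obtain ⟨⟨Γ, _, _, σ, -, ⟨e⟩⟩, -⟩ := hA
  exact Finite.of_equiv _ e.toEquiv

/-- The multiplier is determined up to isomorphism. -/
theorem mult_equiv [Finite Q] {A : Type v} [CommGroup A] (hA : Cfsg.HasSchurMultiplier Q A) :
    Nonempty (Mult Q ≃* A) := by
  obtain ⟨⟨Γ, _, _, σ, hσ, ⟨e⟩⟩, hbound⟩ := hA
  obtain ⟨p, hp⟩ := exists_surjective_ker _ (canon_surjective Q) σ hσ
  obtain ⟨Γ', _, _, σ', hσ', ⟨e'⟩⟩ := exists_cover Q
  obtain ⟨q, hq⟩ := hbound Γ' σ' hσ'
  exact mulEquiv_of_surjective (e.toMonoidHom.comp p) (e.surjective.comp hp)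
    (e'.toMonoidHom.comp q) (e'.surjective.comp hq)

theorem hasSchurMultiplier_congr {A : Type v} {B : Type w} [CommGroup A] [CommGroup B]
    (hA : Cfsg.HasSchurMultiplier Q A) (f : A ≃* B) : Cfsg.HasSchurMultiplier Q B := by
  obtain ⟨⟨Γ, _, _, σ, hσ, ⟨e⟩⟩, hbound⟩ := hA
  refine ⟨⟨Γ, inferInstance, inferInstance, σ, hσ, ⟨e.trans f⟩⟩, fun Δ _ _ τ hτ => ?_⟩
  obtain ⟨q, hq⟩ := hbound Δ τ hτ
  exact ⟨q.comp f.symm.toMonoidHom, hq.comp f.symm.surjective⟩

theorem hasSchurMultiplier_iff [Finite Q] {A : Type v} [CommGroup A] :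
    Cfsg.HasSchurMultiplier Q A ↔ Nonempty (Mult Q ≃* A) :=
  ⟨mult_equiv, fun ⟨e⟩ => hasSchurMultiplier_congr (hasSchurMultiplier_mult Q) e⟩

theorem card_ker_le_card_mult [Finite Q] {X : Type v} [Group X] (ξ : X →* Q)
    (hξ : Cfsg.IsStemExtension ξ) : Finite ξ.ker ∧ Nat.card ξ.ker ∣ Nat.card (Mult Q) := by
  obtain ⟨p, hp⟩ := exists_surjective_ker _ (canon_surjective Q) ξ hξ
  exact ⟨Finite.of_surjective p hp, Subgroup.card_dvd_of_surjective p hp⟩

/-- To compute a multiplier: one stem extension with kernel `A`, and `|A|` bounds every kernel. -/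
theorem hasSchurMultiplier_of_le [Finite Q] {A : Type v} [CommGroup A] {X : Type w} [Group X]
    (ξ : X →* Q) (hξ : Cfsg.IsStemExtension ξ) (e : ξ.ker ≃* A)
    (h : ∀ (Γ : Type u) [Group Γ] [Finite Γ] (σ : Γ →* Q), Cfsg.IsStemExtension σ →
      Nat.card σ.ker ≤ Nat.card A) : Cfsg.HasSchurMultiplier Q A := by
  rw [hasSchurMultiplier_iff]
  obtain ⟨p, hp⟩ := exists_surjective_ker _ (canon_surjective Q) ξ hξ
  obtain ⟨Γ, _, _, σ, hσ, ⟨e'⟩⟩ := exists_cover Q
  have hle := h Γ σ hσ
  rw [Nat.card_congr e'.toEquiv] at hle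
  have hsurj : Function.Surjective (e.toMonoidHom.comp p) := e.surjective.comp hp
  haveI : Finite A := Finite.of_surjective _ hsurj
  exact ⟨MulEquiv.ofBijective _ ((Nat.bijective_iff_surjective_and_card _).mpr
    ⟨hsurj, le_antisymm hle (Nat.card_le_card_of_surjective _ hsurj)⟩)⟩

/-- Trivial multiplier: every stem extension is injective. -/
theorem hasCyclicSchurMultiplier_one_of [Finite Q]
    (h : ∀ (Γ : Type u) [Group Γ] [Finite Γ] (σ : Γ →* Q), Cfsg.IsStemExtension σ → σ.ker = ⊥) :
    Cfsg.HasCyclicSchurMultiplier Q 1 := by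
  refine hasSchurMultiplier_of_le (MonoidHom.id Q) ⟨fun q => ⟨q, rfl⟩, ?_, ?_⟩ ?_ ?_
  · rw [MonoidHom.ker_id]; exact bot_le
  · rw [MonoidHom.ker_id]; exact bot_le
  · haveI : Subsingleton (MonoidHom.id Q).ker := by
      rw [MonoidHom.ker_id]; infer_instance
    exact
      { toFun := fun _ => 1
        invFun := fun _ => 1
        left_inv := fun _ => Subsingleton.elim _ _
        right_inv := fun _ => Subsingleton.elim _ _
        map_mul' := fun _ _ => Subsingleton.elim _ _ }
  · intro Γ _ _ σ hσ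
    rw [h Γ σ hσ]; simp

theorem subsingleton_mult_iff [Finite Q] :
    Cfsg.HasCyclicSchurMultiplier Q 1 ↔ Subsingleton (Mult Q) := by
  constructor
  · intro h
    obtain ⟨e⟩ := mult_equiv h
    exact e.toEquiv.subsingleton
  · intro _
    refine hasSchurMultiplier_congr (hasSchurMultiplier_mult Q) ?_
    exact
      { toFun := fun _ => 1
        invFun := fun _ => 1
        left_inv := fun _ => Subsingleton.elim _ _
        right_inv := fun _ => Subsingleton.elim _ _
        map_mul' := fun _ _ => Subsingleton.elim _ _ }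

/-- With trivial multiplier every central extension's kernel misses the commutator subgroup. -/
theorem ker_inf_commutator_eq_bot [Finite Q] (h : Cfsg.HasCyclicSchurMultiplier Q 1)
    {X : Type v} [Group X] (ξ : X →* Q) (hs : Function.Surjective ξ) (hk : ξ.ker ≤ center X) :
    ξ.ker ⊓ commutator X = ⊥ := by
  haveI := (subsingleton_mult_iff).mp h
  obtain ⟨η, hη⟩ := exists_lift (canon Q) ξ hs hk
  rw [← map_multOf _ (canon_surjective Q) ξ hk η hη]
  rw [eq_bot_iff]
  rintro _ ⟨m, hm, rfl⟩
  have := Subsingleton.elim (⟨m, hm⟩ : Mult Q) 1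
  simp [show m = 1 from congrArg Subtype.val this]

/-- The multiplier may be computed from any finite presentation-map. -/
theorem multOf_equiv [Finite Q] {α : Type w} [Finite α] (φ : FreeGroup α →* Q)
    (hφ : Function.Surjective φ) : Nonempty (Mult Q ≃* multOf φ) := by
  refine mult_equiv ⟨?_, fun _ _ _ σ hσ => exists_surjective_ker φ hφ σ hσ⟩
  obtain ⟨Γ, i1, i2, σ, hσ, ⟨e⟩⟩ := exists_cover Q
  obtain ⟨p, hp⟩ := exists_surjective_ker φ hφ σ hσ
  obtain ⟨η, hη⟩ := exists_lift (canon Q) (proj φ) (proj_surjective φ hφ) (ker_proj_le_center φ)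
  have hmap := map_multOf _ (canon_surjective Q) (proj φ) (ker_proj_le_center φ) η hη
  let q : Mult Q →* multOf φ := (η.comp (multOf (canon Q)).subtype).codRestrict _
    fun m => hmap.le ⟨m.1, m.2, rfl⟩
  have hq : Function.Surjective q := fun x => by
    obtain ⟨m, hm, hmx⟩ := hmap.ge x.2
    exact ⟨⟨m, hm⟩, Subtype.ext hmx⟩
  obtain ⟨f⟩ := mulEquiv_of_surjective q hq (e.toMonoidHom.comp p) (e.surjective.comp hp)
  exact ⟨Γ, i1, i2, σ, hσ, ⟨e.trans f⟩⟩

/-- The multiplier is invariant under isomorphism. -/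
theorem hasSchurMultiplier_of_mulEquiv [Finite Q] {Q' : Type v} [Group Q'] (e : Q ≃* Q')
    {A : Type w} [CommGroup A] (hA : Cfsg.HasSchurMultiplier Q A) :
    Cfsg.HasSchurMultiplier Q' A := by
  haveI : Finite Q' := Finite.of_equiv Q e.toEquiv
  obtain ⟨f⟩ := mult_equiv hA
  refine hasSchurMultiplier_congr ?_ f
  let φ := e.toMonoidHom.comp (canon Q)
  have hφ : Function.Surjective φ := e.surjective.comp (canon_surjective Q)
  have hker : φ.ker = (canon Q).ker := by ext x; simp [φ]
  have hrel : commRel (canon Q) = commRel φ := by unfold commRel; rw [hker]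
  obtain ⟨g⟩ := multOf_equiv φ hφ
  refine hasSchurMultiplier_congr (hasSchurMultiplier_mult Q') (g.trans ?_)
  let i : Ext φ ≃* Ext (canon Q) := QuotientGroup.quotientMulEquivOfEq hrel.symm
  refine (i.subgroupMap (multOf φ)).trans (MulEquiv.subgroupCongr ?_)
  show (multOf φ).map i.toMonoidHom = multOf (canon Q)
  have hp : (proj φ).ker.map i.toMonoidHom = (proj (canon Q)).ker := by
    ext x
    rw [Subgroup.mem_map_equiv]
    induction x using QuotientGroup.induction_on with
    | _ a =>
      show φ a = 1 ↔ canon Q a = 1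
      simp [φ]
  have hcm : (commutator (Ext φ)).map i.toMonoidHom = commutator (Ext (canon Q)) := by
    rw [_root_.commutator_def, _root_.commutator_def, map_commutator, ← MonoidHom.range_eq_map,
      MonoidHom.range_eq_top.mpr i.surjective]
  rw [multOf, Subgroup.map_inf _ _ _ i.injective, hp, hcm]
  rfl

end CfsgLib.Schur.Basic
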