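import Cfsg.Agent.Lib.Schur.TailsBound

/-!
# Combining the bounds at the primes
-/

set_option autoImplicit false

namespace CfsgLib.Schur.Tails

open Subgroup

universe u v

variable {Q : Type v} [Group Q] [Finite Q] {Γ : Type u} [Group Γ] [Finite Γ] (σ : Γ →* Q)

/-- A prime dividing no exponent of the kernel does not divide its order. -/
theorem not_dvd_card_ker {p : ℕ} [Fact p.Prime] {k : ℕ} (hk : ¬ p ∣ k) (h : ∀ z ∈ σ.ker, z ^ k = 1) :
    ¬ p ∣ Nat.card σ.ker := by
  intro hd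
  obtain ⟨z, hz⟩ := exists_prime_orderOf_dvd_card' (G := σ.ker) p hd
  exact hk (hz ▸ orderOf_dvd_of_pow_eq_one (Subtype.ext (by simpa using h z.1 z.2)))

/-- A cyclic Sylow subgroup. -/
theorem factorization_card_ker_of_orderOf (hσ : Cfsg.IsStemExtension σ) {p : ℕ} [hp : Fact p.Prime] (g : Q)
    {k : ℕ} (hg : orderOf g = p ^ k) (hQ : ¬ p ^ (k + 1) ∣ Nat.card Q) :
    (Nat.card σ.ker).factorization p = 0 := by
  refine Nat.factorization_eq_zero_of_not_dvd (not_dvd_card_ker σ (k := (zpowers g).index) (fun hd => hQ ?_)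
    fun z hz => Bound.pow_index_eq_one_of_cyclic σ hσ.1 hσ.2.1 (zpowers g) hz (hσ.2.2 hz))
  rw [← (zpowers g).card_mul_index, Nat.card_zpowers, hg, pow_succ]
  exact Nat.mul_dvd_mul_left _ hd

/-- The order of the kernel from bounds at the primes of the group. -/
theorem card_ker_le (hσ : Cfsg.IsStemExtension σ) {n : ℕ} (hn : n ≠ 0)
    (h : ∀ p : ℕ, p.Prime → p ∣ Nat.card Q → (Nat.card σ.ker).factorization p ≤ n.factorization p) :
    Nat.card σ.ker ≤ n := by
  refine Nat.le_of_dvd (Nat.pos_of_ne_zero hn) ((Nat.factorization_le_iff_dvd Nat.card_pos.ne' hn).1 fun p => ?_)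
  by_cases hp : p.Prime
  swap
  · simp [Nat.factorization_eq_zero_of_not_prime _ hp]
  haveI := Fact.mk hp
  by_cases hd : p ∣ Nat.card Q
  · exact h p hp hd
  rw [Nat.factorization_eq_zero_of_not_dvd (not_dvd_card_ker σ hd fun z hz =>
    Bound.pow_card_eq_one σ hσ.1 hσ.2.1 hz (hσ.2.2 hz))]
  exact Nat.zero_le _

end CfsgLib.Schur.Tails
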