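import Cfsg.Agent.Lib.Schur.TailsPerm
import Cfsg.Agent.Lib.Schur.TailsCombine

/-!
# Tables of elements built from a few generators, and the bound at one prime for a group of permutations
-/

set_option autoImplicit false

namespace CfsgLib.Schur.Tails

open CfsgLib.Sporadic.OutCert

variable (w N : ℕ)

/-- Every entry after the first `nb` is the product of earlier entries. -/
noncomputable def slpK (nb : ℕ) (tab : List ℕ) (ws : List (List ℕ)) : Bool :=
  decide (tab.length = nb + ws.length) && (List.range ws.length).all fun i =>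
    Cert.lettersIn (ws.getD i []) 0 (nb + i) && tab.getD (nb + i) (oneK w N) == prodK w N tab (ws.getD i [])

/-- The entries at given places. -/
noncomputable def pickK (tab : List ℕ) (ids : List ℕ) (kk : List ℕ) : Bool :=
  ids.map (fun i => tab.getD i (oneK w N)) == kk

variable {w N}
variable {Q : Type*} [Group Q] (ψ : Q →* Equiv.Perm (Fin N)) (hw : N ≤ 2 ^ w)

include hw in
theorem exists_slp {nb : ℕ} {tab : List ℕ} {ws : List (List ℕ)}
    (hb : ∀ i < nb, ∃ q, Rep w N (tab.getD i (oneK w N)) (ψ q)) (h : slpK w N nb tab ws = true) :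
    ∀ i, ∃ q, Rep w N (tab.getD i (oneK w N)) (ψ q) := by
  simp only [slpK, Bool.and_eq_true, decide_eq_true_eq, List.all_eq_true, List.mem_range, beq_iff_eq,
    lettersIn_iff] at h
  intro i
  induction i using Nat.strong_induction_on with
  | _ i ih =>
    by_cases hi : i < nb
    · exact hb i hi
    by_cases hi' : i < nb + ws.length
    swap
    · exact ⟨1, by rw [List.getD_eq_default _ _ (by omega), map_one]; exact rep_one hw⟩
    obtain ⟨hlt, heq⟩ := h.2 (i - nb) (by omega)
    rw [Nat.add_sub_cancel' (by omega)] at heq hlt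
    have key : ∀ l : List ℕ, (∀ x ∈ l, x < i) → ∃ q, Rep w N (prodK w N tab l) (ψ q) := by
      intro l hl
      induction l with
      | nil => exact ⟨1, by rw [map_one]; exact rep_one hw⟩
      | cons x l ihl =>
        obtain ⟨q, hq⟩ := ih x (hl x List.mem_cons_self)
        obtain ⟨q', hq'⟩ := ihl fun y hy => hl y (List.mem_cons_of_mem _ hy)
        exact ⟨q * q', by rw [map_mul]; exact rep_comp hw hq hq'⟩
    rw [heq]
    exact key _ fun x hx => (hlt x hx).2

theorem exists_pick {tab ids kk : List ℕ} (hw : N ≤ 2 ^ w)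
    (ht : ∀ i, ∃ q, Rep w N (tab.getD i (oneK w N)) (ψ q)) (h : pickK w N tab ids kk = true) (i : ℕ) :
    ∃ q, Rep w N (kk.getD i (oneK w N)) (ψ q) := by
  rw [pickK, beq_iff_eq] at h
  subst h
  by_cases hi : i < ids.length
  · rw [List.getD_eq_getElem _ _ (by simpa using hi), List.getElem_map]
    exact ht _
  · exact ⟨1, by rw [List.getD_eq_default _ _ (by simpa using hi), map_one]; exact rep_one hw⟩

include hw in
/-- The bound at one prime for a group given inside the permutations. -/
theorem factorization_of_perm [Finite Q] (hψ : Function.Injective ψ) (D : Cert)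
    {kk gk pts ptsin : List ℕ} {ws wsin : List (List ℕ)}
    (hkk : ∀ i, ∃ q, Rep w N (kk.getD i (oneK w N)) (ψ q))
    (hgk : ∀ i, ∃ q, Rep w N (gk.getD i (oneK w N)) (ψ q))
    (he : D.eqsOK = true) (hc : D.combOK = true) (hs : D.shapeOK = true)
    (hr : relK w N kk D = true) (hf : fusK w N kk gk D = true) {p : ℕ} [Fact p.Prime] (hDp : D.p = p)
    (hm : ¬ p ∣ D.m) (ha : wordsOK w N kk pts ws 0 D.r = true) (hal : ws.length = p ^ D.r)
    (hi : wordsOK w N kk ptsin wsin D.a D.r = true) (hil : wsin.length = p ^ (D.r - D.a)) {c : ℕ}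
    (hcard : Nat.card Q = c) (hQ : ¬ p ^ (D.r + 1) ∣ c) (Γ : Type*) [Group Γ] [Finite Γ] (σ : Γ →* Q)
    (hσ : Cfsg.IsStemExtension σ) : (Nat.card σ.ker).factorization p ≤ D.b.factorization p := by
  choose y hy using hkk
  choose g hg using hgk
  refine factorization_card_ker_le D he hc hs hDp hm y (rel_of_check ψ hψ hw hy hr) g
    (fus_of_check ψ hψ hw hy hg hf) ?_ ?_ (hcard ▸ hQ) Γ σ hσ
  · rw [← hal]; exact card_tailGen_ge ψ hy ha
  · rw [← hil]; exact card_tailGen_ge ψ hy hi

include hw in
/-- The order of an element given by a number. -/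
theorem exists_orderOf (hψ : Function.Injective ψ) {n : ℕ} (hn : ∃ q, Rep w N n (ψ q)) {p : ℕ} [Fact p.Prime]
    (ht : testK w N [n] p = true) (hne : n ≠ oneK w N) (hcanon : n = pkF w (lk w n) N 0) :
    ∃ q : Q, orderOf q = p := by
  obtain ⟨q, hq⟩ := hn
  refine ⟨q, orderOf_eq_prime (hψ ?_) fun h => hne ?_⟩
  · have := (test_iff (List.Forall₂.cons hq List.Forall₂.nil) p).1 ht
    simpa [map_pow] using this
  · subst h
    rw [map_one] at hq
    rw [hcanon, oneK, pkF_range, pkF_range]
    exact congrArg (pk w) (List.map_congr_left fun i hi => hq ⟨i, List.mem_range.1 hi⟩)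

end CfsgLib.Schur.Tails
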