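import Cfsg.Agent.Lib.Schur.TailsBound

/-!
# The bound given by a certificate with two surviving classes
-/

set_option autoImplicit false

namespace CfsgLib.Schur.Tails

open Subgroup
open scoped commutatorElement

universe u v

/-- A second surviving class beside that of a certificate. -/
structure Second where
  /-- The class. -/
  gen : Form
  /-- Its order. -/
  b : ℕ
  /-- The combination killing it. -/
  genC : List (ℤ × ℕ)
  /-- Its coefficients in the targets, in their order. -/
  coef : List ℤ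

namespace Second

variable (S : Second) (D : Cert)

/-- The form that vanishes for a target. -/
def form (q : ℕ × ℤ × List (ℤ × ℕ)) (c : ℤ) : Form :=
  scaleF D.m (D.newTail q.1) ++ scaleF (-q.2.1) D.gen ++ scaleF (-c) S.gen ++ scaleF (-1) (D.combF q.2.2)

/-- The combinations are right. -/
def combOK : Bool :=
  decide (0 < S.b) &&
    (List.range D.targets.length).all
      (fun i => zeroF D.nv (S.form D (D.targets.getD i (0, 0, [])) (S.coef.getD i 0))) &&
    zeroF D.nv (scaleF ((D.m * D.b : ℕ) : ℤ) D.gen ++ scaleF (-1) (D.combF D.genC)) &&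
    zeroF D.nv (scaleF ((D.m * S.b : ℕ) : ℤ) S.gen ++ scaleF (-1) (D.combF S.genC))

end Second

/-- Equations, combinations and shape all hold. -/
theorem factorization_card_ker_le_two (D : Cert) (S : Second) (he : D.eqsOK = true) (hco : S.combOK D = true)
    (hsh : D.shapeOK = true) {p : ℕ} [hp : Fact p.Prime] (hDp : D.p = p) (hm : ¬ p ∣ D.m)
    {Q : Type v} [Group Q] [Finite Q] (y : ℕ → Q)
    (hrel : ∀ R ∈ D.rules, valW y R.1 = valW y R.2) (g : ℕ → Q)
    (hfus : ∀ j < D.fus.length, ∀ s < (D.fus.getD j ⟨[], [], []⟩).us.length,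
      g j * valW y ((D.fus.getD j ⟨[], [], []⟩).us.getD s []) =
        valW y ((D.fus.getD j ⟨[], [], []⟩).vs.getD s []) * g j)
    (hU : p ^ D.r ≤ Nat.card (tailGen y D.r 0)) (hV : p ^ (D.r - D.a) ≤ Nat.card (tailGen y D.r D.a))
    (hQ : ¬ p ^ (D.r + 1) ∣ Nat.card Q)
    (Γ : Type u) [Group Γ] [Finite Γ] (σ : Γ →* Q) (hσ : Cfsg.IsStemExtension σ) :
    (Nat.card σ.ker).factorization p ≤ (D.b * S.b).factorization p := by
  classical
  obtain ⟨hs, hk, hd⟩ := hσ
  letI : CommGroup σ.ker :=
    { (inferInstance : Group σ.ker) with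
      mul_comm := fun a b => Subtype.ext (mem_center_iff.1 (hk b.2) a.1) }
  set z : Additive σ.ker → Γ := fun a => ((Additive.toMul a : σ.ker) : Γ) with hzdef
  have hz : ∀ a b, z (a + b) = z a * z b := fun a b => rfl
  have hc : ∀ a g, g * z a = z a * g := fun a g => mem_center_iff.1 (hk (Additive.toMul a).2) g
  have hi : Function.Injective z := fun a b h => Additive.toMul.injective (Subtype.ext h)
  choose lift hlift using hs
  let x : ℕ → Γ := fun i => lift (y i)
  have hyx : (fun i => σ (x i)) = y := funext fun i => hlift _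
  have hval : ∀ w, σ (valW x w) = valW y w := fun w => by rw [map_valW, hyx]
  -- the unknowns
  let el : ℕ → Γ := fun i =>
    if i < D.rules.length then (valW x (D.rules.getD i ([], [])).2)⁻¹ * valW x (D.rules.getD i ([], [])).1
    else
      (valW x ((D.fus.getD ((i - D.rules.length) / D.width) ⟨[], [], []⟩).vs.getD
          ((i - D.rules.length) % D.width) []))⁻¹ *
        (lift (g ((i - D.rules.length) / D.width)) *
          valW x ((D.fus.getD ((i - D.rules.length) / D.width) ⟨[], [], []⟩).us.getD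
            ((i - D.rules.length) % D.width) []) * (lift (g ((i - D.rules.length) / D.width)))⁻¹)
  let t : ℕ → Additive σ.ker := fun i => if h : el i ∈ σ.ker then Additive.ofMul ⟨el i, h⟩ else 0
  have hzt : ∀ i, el i ∈ σ.ker → z (t i) = el i := fun i h => by simp only [t, dif_pos h]; rfl
  have ht : Tailed z D.rules x t := fun k hk' => by
    have he' : el k = (valW x (D.rules.getD k ([], [])).2)⁻¹ * valW x (D.rules.getD k ([], [])).1 :=
      if_pos hk'
    have hmem : el k ∈ σ.ker := by
      rw [he', MonoidHom.mem_ker, map_mul, map_inv, hval, hval, hrel _ ?_, inv_mul_cancel]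
      rw [List.getD_eq_getElem _ _ hk']
      exact List.getElem_mem hk'
    rw [hzt k hmem, he', mul_inv_cancel_left]
  simp only [Cert.shapeOK, Bool.and_eq_true, decide_eq_true_eq, List.all_eq_true, List.mem_range] at hsh
  obtain ⟨⟨⟨⟨har, hb⟩, hw⟩, hfw⟩, hpc⟩ := hsh
  -- every equation vanishes
  have heq : ∀ j, evF t (D.eqs.getD j []) = 0 := by
    intro j
    by_cases hj : j < D.eqs.length
    swap
    · rw [List.getD_eq_default _ _ (by omega), evF_nil]
    have hmem : some (D.eqs.getD j []) ∈ D.allEqs := by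
      rw [show D.allEqs = D.eqs.map some from beq_iff_eq.1 he, List.getD_eq_getElem _ _ hj]
      exact List.mem_map.2 ⟨_, List.getElem_mem hj, rfl⟩
    simp only [Cert.allEqs, List.mem_append, List.mem_map, List.mem_flatMap, List.mem_range] at hmem
    rcases hmem with ⟨o, -, ho⟩ | ⟨i, hil, R, hR, hRe⟩
    · exact D.overEq_sound hz hc hi ht ho
    · have hFm : D.fus.getD i ⟨[], [], []⟩ ∈ D.fus := by
        rw [List.getD_eq_getElem _ _ hil]; exact List.getElem_mem hil
      obtain ⟨hlen, hrels⟩ := hfw _ hFm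
      have hR' := hrels R hR
      simp only [lettersIn_iff] at hR'
      refine D.fusEq_sound hz hc hi ht (j := i) (g := lift (g i)) (fun s hs' => ?_)
        (fun s hs' => (hR'.1 s hs').2) (fun s hs' => (hR'.2 s hs').2) hRe
      have hq : (D.rules.length + i * D.width + s - D.rules.length) / D.width = i ∧
          (D.rules.length + i * D.width + s - D.rules.length) % D.width = s := by
        rw [Nat.add_assoc, Nat.add_sub_cancel_left, Nat.mul_comm i D.width]
        exact ⟨by rw [Nat.mul_add_div hw, Nat.div_eq_of_lt (by omega), Nat.add_zero],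
          by rw [Nat.mul_add_mod, Nat.mod_eq_of_lt (by omega)]⟩
      have he' : el (D.rules.length + i * D.width + s) =
          (valW x ((D.fus.getD i ⟨[], [], []⟩).vs.getD s []))⁻¹ *
            (lift (g i) * valW x ((D.fus.getD i ⟨[], [], []⟩).us.getD s []) * (lift (g i))⁻¹) := by
        simp only [el, if_neg (show ¬ D.rules.length + i * D.width + s < D.rules.length by omega), hq.1, hq.2]
      have hmem' : el (D.rules.length + i * D.width + s) ∈ σ.ker := by
        rw [he', MonoidHom.mem_ker, map_mul, map_inv, map_mul, map_mul, map_inv, hval, hval, hlift,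
          hfus i hil s hs', mul_inv_cancel_right, inv_mul_cancel]
      rw [hzt _ hmem', he', mul_inv_cancel_left]
  have hcomb : ∀ cs, evF t (D.combF cs) = 0 := by
    intro cs
    induction cs with
    | nil => rfl
    | cons q cs ih =>
      simp only [Cert.combF, List.flatMap_cons, evF_append, evF_scale, heq, smul_zero, zero_add] at ih ⊢
      exact ih
  simp only [Second.combOK, Bool.and_eq_true, List.all_eq_true, List.mem_range,
    decide_eq_true_eq] at hco
  obtain ⟨⟨⟨hb2, hco1⟩, hco2⟩, hco3⟩ := hco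
  set t0 : σ.ker := Additive.toMul (evF t D.gen) with ht0
  have hgen : t0 ^ (D.m * D.b) = 1 := by
    have h := evF_eq_zero t hco2
    rw [evF_append, evF_scale, evF_scale, hcomb, smul_zero, add_zero, natCast_zsmul] at h
    rw [ht0, ← toMul_nsmul, h, toMul_zero]
  set t1 : σ.ker := Additive.toMul (evF t S.gen) with ht1
  have hgen1 : t1 ^ (D.m * S.b) = 1 := by
    have h := evF_eq_zero t hco3
    rw [evF_append, evF_scale, evF_scale, hcomb, smul_zero, add_zero, natCast_zsmul] at h
    rw [ht1, ← toMul_nsmul, h, toMul_zero]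
  let T : Subgroup σ.ker := (zpowers t0 ⊔ zpowers t1).comap (powMonoidHom D.m)
  let T' : Subgroup Γ := T.map σ.ker.subtype
  have hT'c : T' ≤ center Γ := by rintro _ ⟨q, -, rfl⟩; exact hk q.2
  haveI : T'.Normal := ⟨fun q hq a => by rwa [mem_center_iff.1 (hT'c hq) a, mul_inv_cancel_right]⟩
  -- the new lifts
  let x' : ℕ → Γ := fun i => x i * z (-evF t (D.lam.getD i []))
  let q : Γ →* Γ ⧸ T' := QuotientGroup.mk' T'
  let X : ℕ → Γ ⧸ T' := fun i => q (x' i)
  have hTle : T' ≤ σ.ker := by rintro _ ⟨a, -, rfl⟩; exact a.2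
  let π' : Γ ⧸ T' →* Q := QuotientGroup.lift T' σ hTle
  have hX : (fun i => π' (X i)) = y := funext fun i => by
    show σ (x i * z _) = y i
    rw [map_mul, show σ (z (-evF t (D.lam.getD i []))) = 1 from (Additive.toMul (-evF t (D.lam.getD i []))).2,
      mul_one]
    exact hlift _
  have htgt : ∀ k, k < D.rules.length → (D.targets.map Prod.fst).contains k = true →
      valW X (D.rules.getD k ([], [])).1 = valW X (D.rules.getD k ([], [])).2 := by
    intro k hk' hk2
    obtain ⟨c, hc', hck⟩ := List.mem_map.1 (List.contains_iff_mem.1 hk2)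
    subst hck
    obtain ⟨i, hi', hic⟩ := List.mem_iff_getElem.1 hc'
    have h := evF_eq_zero t (hco1 i hi')
    rw [List.getD_eq_getElem _ _ hi', hic] at h
    simp only [Second.form, evF_append, evF_scale, hcomb, smul_zero, add_zero, natCast_zsmul,
      neg_smul] at h
    rw [add_assoc, ← neg_add, ← sub_eq_add_neg, sub_eq_zero] at h
    have hin : z (evF t (D.newTail c.1)) ∈ T' := by
      refine ⟨Additive.toMul (evF t (D.newTail c.1)), ?_, rfl⟩
      show _ ^ D.m ∈ zpowers t0 ⊔ zpowers t1
      rw [← toMul_nsmul, h, toMul_add, toMul_zsmul, toMul_zsmul]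
      exact Subgroup.mul_mem _ (mem_sup_left (zpow_mem_zpowers _ _))
        (mem_sup_right (zpow_mem_zpowers _ _))
    rw [← map_valW q, ← map_valW q, newTail_spec hz hc D ht hk', map_mul]
    simp only [q, QuotientGroup.mk'_apply]
    rw [(QuotientGroup.eq_one_iff _).2 hin, mul_one]
  have hpow : ∀ i < D.r, ∃ w : List ℕ, (∀ l ∈ w, i + 1 ≤ l ∧ l < D.r) ∧
      y i ^ p = valW y w ∧ (D.a ≤ i → X i ^ p = valW X w) := by
    intro i hir
    have h := (hpc i hir).1
    simp only [Cert.powOK, Bool.and_eq_true, decide_eq_true_eq, beq_iff_eq, lettersIn_iff,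
      Bool.or_eq_true] at h
    obtain ⟨⟨⟨h1, h2⟩, h3⟩, h4⟩ := h
    have hrep : valW y (List.replicate D.p i) = y i ^ p := by simp [valW, hDp]
    have hrep' : valW X (List.replicate D.p i) = X i ^ p := by simp [valW, hDp]
    refine ⟨_, h3, ?_, fun hai => ?_⟩
    · rw [← hrep, ← h2]
      exact hrel _ (by rw [List.getD_eq_getElem _ _ h1]; exact List.getElem_mem h1)
    · rw [← hrep', ← h2]
      exact htgt _ h1 (h4.resolve_left (by omega))
  have hcom : ∀ i j, i < j → j < D.r → ∃ w : List ℕ, (∀ l ∈ w, i + 1 ≤ l ∧ l < D.r) ∧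
      (D.a ≤ j → ∀ l ∈ w, D.a ≤ l) ∧
      (j < D.a → ∃ w', w = j :: w' ∧ ∀ l ∈ w', D.a ≤ l ∧ l < D.r) ∧
      (y i)⁻¹ * y j * y i = valW y w ∧ (X i)⁻¹ * X j * X i = valW X w := by
    intro i j hij hjr
    have h : D.comOK i j = true := by
      have := (hpc i (by omega)).2 j hjr
      simpa [hij] using this
    simp only [Cert.comOK, Bool.and_eq_true, decide_eq_true_eq, beq_iff_eq, List.head?_eq_some_iff] at h
    obtain ⟨⟨⟨⟨h1, h2⟩, w, h3⟩, h4⟩, h5⟩ := h
    rw [h3] at h4
    simp only [List.tail_cons] at h4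
    have hy := hrel _ (show D.rules.getD (D.idx j i) ([], []) ∈ D.rules by
      rw [List.getD_eq_getElem _ _ h1]; exact List.getElem_mem h1)
    have hx := htgt _ h1 h5
    rw [h2, h3] at hy hx
    simp only [valW_cons, valW_nil, mul_one] at hy hx
    refine ⟨w, ?_, ?_, ?_, by rw [mul_assoc, hy, inv_mul_cancel_left],
      by rw [mul_assoc, hx, inv_mul_cancel_left]⟩
    · split_ifs at h4 with hja
      · simp only [Bool.and_eq_true, beq_iff_eq, lettersIn_iff, List.head?_eq_some_iff] at h4
        obtain ⟨⟨w', rfl⟩, h6⟩ := h4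
        intro l hl
        rcases List.mem_cons.1 hl with rfl | hl
        · omega
        · have := h6 l hl; omega
      · rw [lettersIn_iff] at h4
        intro l hl; have := h4 l hl; omega
    · intro haj
      rw [if_neg (by omega), lettersIn_iff] at h4
      intro l hl; have := h4 l hl; omega
    · intro hja
      rw [if_pos hja] at h4
      simp only [Bool.and_eq_true, beq_iff_eq, lettersIn_iff, List.head?_eq_some_iff] at h4
      obtain ⟨⟨w', rfl⟩, h6⟩ := h4
      exact ⟨w', rfl, h6⟩
  -- orders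
  have hUle : Nat.card (tailGen y D.r 0) ≤ p ^ D.r := by
    refine card_tailGen_le y D.r 0 p hp.out.pos (fun i _ hir => ?_) (fun i j _ hij hjr => ?_) D.r 0 le_rfl
      (by omega)
    · obtain ⟨w, hw', h, -⟩ := hpow i hir
      exact h ▸ valW_mem_tailGen hw'
    · obtain ⟨w, hw', -, -, h, -⟩ := hcom i j hij hjr
      exact h ▸ valW_mem_tailGen hw'
  have hXle : Nat.card (tailGen X D.r D.a) ≤ p ^ (D.r - D.a) := by
    refine card_tailGen_le X D.r D.a p hp.out.pos (fun i hai hir => ?_) (fun i j _ hij hjr => ?_) (D.r - D.a) D.a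
      le_rfl (by omega)
    · obtain ⟨w, hw', -, h⟩ := hpow i hir
      exact (h hai) ▸ valW_mem_tailGen hw'
    · obtain ⟨w, hw', -, -, -, h⟩ := hcom i j hij hjr
      exact h ▸ valW_mem_tailGen hw'
  have hinj : ∀ a ∈ tailGen X D.r D.a, π' a = 1 → a = 1 := by
    intro a ha ha1
    have hmap : (tailGen X D.r D.a).map π' = tailGen y D.r D.a := by rw [map_tailGen, hX]
    have hcard : Nat.card (tailGen X D.r D.a) = Nat.card ((tailGen X D.r D.a).map π') :=
      le_antisymm (by rw [hmap]; exact hXle.trans hV)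
        (Nat.card_le_card_of_surjective _ (π'.subgroupMap_surjective _))
    have hbij := (Nat.bijective_iff_surjective_and_card (π'.subgroupMap (tailGen X D.r D.a))).2
      ⟨π'.subgroupMap_surjective _, hcard⟩
    exact congrArg Subtype.val (hbij.1 (a₁ := ⟨a, ha⟩) (a₂ := 1) (Subtype.ext (by simpa using ha1)))
  set U := tailGen y D.r 0 with hUdef
  -- commutators
  have hcommE : ∀ c ∈ tailGen X D.r 0, ∀ d ∈ tailGen X D.r 0, ⁅c, d⁆ ∈ tailGen X D.r D.a := by
    intro c hc' d hd'
    have hnorm : ∀ i < D.r, ∀ n ∈ tailGen X D.r D.a, (X i)⁻¹ * n * X i ∈ tailGen X D.r D.a := by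
      intro i hir n hn
      refine conj_mem_closure ?_ hn
      rintro _ ⟨j, ⟨haj, hjr⟩, rfl⟩
      rcases lt_trichotomy i j with hij | rfl | hij
      · obtain ⟨w, hw', hwa, -, -, h⟩ := hcom i j hij hjr
        rw [h]
        exact valW_mem_tailGen fun l hl => ⟨hwa haj l hl, (hw' l hl).2⟩
      · rw [inv_mul_cancel, one_mul]; exact mem_tailGen haj hjr
      · exact mul_mem (mul_mem (inv_mem (mem_tailGen (haj.trans hij.le) hir)) (mem_tailGen haj hjr))
          (mem_tailGen (haj.trans hij.le) hir)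
    refine commutator_mem_of_generators ?_ ?_ hc' hd'
    · rintro _ ⟨i, ⟨-, hir⟩, rfl⟩ n hn; exact hnorm i hir n hn
    · rintro _ ⟨i, ⟨-, hir⟩, rfl⟩ _ ⟨j, ⟨-, hjr⟩, rfl⟩
      have hlt : ∀ i j, i < j → j < D.r → ⁅X i, X j⁆ ∈ tailGen X D.r D.a := by
        intro i j hij hjr
        obtain ⟨w, hw', hwa, hwb, -, h⟩ := hcom i j hij hjr
        by_cases haj : D.a ≤ j
        · rw [show ⁅X i, X j⁆ = ((X i) * X j * (X i)⁻¹) * (X j)⁻¹ by rw [commutatorElement_def]]
          refine mul_mem ?_ (inv_mem (mem_tailGen haj hjr))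
          exact (mem_normalizer_iff.1 (normalizer_of_conj (hnorm i (hij.trans hjr))) (X j)).1
            (mem_tailGen haj hjr)
        · obtain ⟨w', rfl, hw''⟩ := hwb (by omega)
          have hv : valW X w' ∈ tailGen X D.r D.a := valW_mem_tailGen hw''
          rw [valW_cons] at h
          have e2 : X j * X i = X i * (X j * valW X w') := by rw [← h]; group
          have e3 : ⁅X i, X j⁆ = X i * X j * (valW X w')⁻¹ * (X j)⁻¹ * (X i)⁻¹ := by
            rw [commutatorElement_def, ← mul_right_inj (X i * X j)⁻¹]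
            have : (X i)⁻¹ * (X j)⁻¹ = (X j * X i)⁻¹ := by group
            rw [mul_assoc (X i * X j), this, e2]
            group
          have hnj := normalizer_of_conj (hnorm j hjr)
          have hni := normalizer_of_conj (hnorm i (by omega))
          have := (mem_normalizer_iff.1 hni _).1 ((mem_normalizer_iff.1 hnj _).1 (inv_mem hv))
          rw [e3]
          simpa only [mul_assoc] using this
      rcases lt_trichotomy i j with hij | rfl | hij
      · exact hlt i j hij hjr
      · rw [commutatorElement_self]; exact one_mem _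
      · rw [← commutatorElement_inv]; exact inv_mem (hlt j i hij hir)
  have hsplit : ∀ u ∈ U.comap σ, ∃ e ∈ tailGen X D.r 0, ∃ k ∈ center (Γ ⧸ T'), q u = e * k := by
    intro u hu
    have hmap : (tailGen x' D.r 0).map σ = U := by rw [map_tailGen]; exact congrArg (tailGen · D.r 0) hX
    obtain ⟨e, he', hee⟩ : σ u ∈ (tailGen x' D.r 0).map σ := hmap ▸ hu
    have hker : e⁻¹ * u ∈ center Γ := hk (by rw [MonoidHom.mem_ker, map_mul, map_inv, hee, inv_mul_cancel])
    refine ⟨q e, ?_, q (e⁻¹ * u), ?_, by rw [← map_mul, mul_inv_cancel_left]⟩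
    · exact map_tailGen q x' D.r 0 ▸ ⟨e, he', rfl⟩
    · rw [mem_center_iff]
      intro a
      induction a using QuotientGroup.induction_on with
      | _ a => exact congrArg q (mem_center_iff.1 hker a)
  have hcomap : ⁅U.comap σ, U.comap σ⁆ ≤ (tailGen X D.r D.a).comap q := by
    rw [commutator_le]
    intro a ha b hb
    obtain ⟨e1, he1, k1, hk1, ea⟩ := hsplit a ha
    obtain ⟨e2, he2, k2, hk2, eb⟩ := hsplit b hb
    rw [mem_comap, map_commutatorElement, ea, eb]
    have : ⁅e1 * k1, e2 * k2⁆ = ⁅e1, e2⁆ := by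
      have c1 := mem_center_iff.1 hk1
      have c2 := mem_center_iff.1 hk2
      simp only [commutatorElement_def, mul_inv_rev]
      calc e1 * k1 * (e2 * k2) * (k1⁻¹ * e1⁻¹) * (k2⁻¹ * e2⁻¹)
          = e1 * (k1 * (e2 * k2)) * k1⁻¹ * e1⁻¹ * k2⁻¹ * e2⁻¹ := by group
        _ = e1 * ((e2 * k2) * k1) * k1⁻¹ * e1⁻¹ * k2⁻¹ * e2⁻¹ := by rw [← c1]
        _ = e1 * e2 * (k2 * e1⁻¹) * k2⁻¹ * e2⁻¹ := by group
        _ = e1 * e2 * (e1⁻¹ * k2) * k2⁻¹ * e2⁻¹ := by rw [← c2]
        _ = _ := by group
    rw [this]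
    exact hcommE e1 he1 e2 he2
  have hidx : ¬ p ∣ U.index := fun hdiv => hQ (by
    rw [← U.card_mul_index, le_antisymm hUle hU, pow_succ]
    exact Nat.mul_dvd_mul_left _ hdiv)
  have hfinal : ∀ w : σ.ker, w ^ (U.index * D.m) ∈ zpowers t0 ⊔ zpowers t1 := by
    intro w
    have h := CfsgLib.Schur.Bound.pow_index_mem σ (fun g => ⟨lift g, hlift g⟩) U (hk w.2) (hd w.2)
    rw [map_subtype_commutator] at h
    have h2 := hinj _ (hcomap h) (show σ ((w : Γ) ^ U.index) = 1 by rw [map_pow, w.2, one_pow])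
    obtain ⟨a, ha, hae⟩ := (QuotientGroup.eq_one_iff _).1 h2
    have : a = w ^ U.index := Subtype.ext (by simpa using hae)
    subst this
    rw [pow_mul]
    exact ha
  have hord : Nat.card (zpowers t0 ⊔ zpowers t1 : Subgroup σ.ker) ∣ D.m * D.m * (D.b * S.b) := by
    let F : zpowers t0 × zpowers t1 →* σ.ker :=
      MonoidHom.coprod (zpowers t0).subtype (zpowers t1).subtype
    have hr : F.range = zpowers t0 ⊔ zpowers t1 := by
      ext w
      rw [mem_sup]
      exact ⟨fun ⟨⟨a, b⟩, h⟩ => ⟨a, a.2, b, b.2, h⟩, fun ⟨a, ha, b, hb, h⟩ => ⟨(⟨a, ha⟩, ⟨b, hb⟩), h⟩⟩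
    rw [← hr]
    refine (card_range_dvd F).trans ?_
    rw [Nat.card_prod, Nat.card_zpowers, Nat.card_zpowers, mul_mul_mul_comm D.m D.m]
    exact mul_dvd_mul (orderOf_dvd_of_pow_eq_one hgen) (orderOf_dvd_of_pow_eq_one hgen1)
  obtain ⟨P⟩ : Nonempty (Sylow p σ.ker) := inferInstance
  have hPle : (P : Subgroup σ.ker) ≤ zpowers t0 ⊔ zpowers t1 := by
    intro w hw'
    obtain ⟨k, hk'⟩ := IsPGroup.iff_orderOf.1 P.isPGroup' ⟨w, hw'⟩
    have hcop : (U.index * D.m).Coprime (orderOf w) := by
      rw [← Subgroup.orderOf_mk w hw', hk']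
      exact (Nat.Coprime.pow_left k ((hp.out.coprime_iff_not_dvd).2 fun h =>
        (hp.out.dvd_mul.1 h).elim hidx hm)).symm
    obtain ⟨e, he'⟩ := exists_pow_eq_self_of_coprime hcop
    exact he' ▸ Subgroup.pow_mem _ (hfinal w) e
  have hPd : p ^ (Nat.card σ.ker).factorization p ∣ D.m * D.m * (D.b * S.b) :=
    (P.card_eq_multiplicity ▸ Subgroup.card_dvd_of_le hPle).trans hord
  have := ((hp.out.coprime_iff_not_dvd).2 hm).pow_left ((Nat.card σ.ker).factorization p)
  exact (hp.out.pow_dvd_iff_le_factorization (Nat.mul_pos hb hb2).ne').1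
    ((this.mul_right this).dvd_of_dvd_mul_left hPd)

end CfsgLib.Schur.Tails
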