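import Cfsg.Agent.Lib.Schur.Bound

/-! # Stem extensions of two-generator groups with `b a b⁻¹ = a ^ r` -/

namespace CfsgLib.Schur.Metacyclic

universe u v

open Subgroup
open scoped commutatorElement

/-- If `X` is generated by `a`, `b` modulo its centre and `⁅b, a⁆` generates a normal subgroup, that
subgroup is the commutator subgroup. -/
theorem commutator_le_of_normal {X : Type u} [Group X] (a b : X)
    (hgen : closure {a, b} ⊔ center X = ⊤) (K : Subgroup X) [K.Normal] (hK : ⁅b, a⁆ ∈ K) :
    commutator X ≤ K := by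
  have hab : QuotientGroup.mk' K b * QuotientGroup.mk' K a
      = QuotientGroup.mk' K a * QuotientGroup.mk' K b := by
    rw [← commutatorElement_eq_one_iff_mul_comm, ← map_commutatorElement, QuotientGroup.mk'_apply,
      QuotientGroup.eq_one_iff]
    exact hK
  have h : ∀ x ∈ ({a, b} : Set X), ∀ y : X,
      QuotientGroup.mk' K x * QuotientGroup.mk' K y = QuotientGroup.mk' K y * QuotientGroup.mk' K x := by
    intro x hx y
    have htop : (⊤ : Subgroup X) ≤ (centralizer {QuotientGroup.mk' K x}).comap (QuotientGroup.mk' K) := by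
      rw [← hgen, sup_le_iff, closure_le]
      refine ⟨?_, fun z hz => ?_⟩
      · intro w hw
        simp only [SetLike.mem_coe, mem_comap, mem_centralizer_singleton_iff]
        rcases hx with rfl | rfl <;> rcases hw with rfl | rfl <;>
          first | rfl | exact hab | exact hab.symm
      · simp only [mem_comap, mem_centralizer_singleton_iff]
        rw [← map_mul, ← map_mul, mem_center_iff.mp hz]
    exact (mem_centralizer_singleton_iff.mp (htop (mem_top y))).symm
  rw [_root_.commutator_def, commutator_le]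
  intro x _ y _
  rw [← QuotientGroup.eq_one_iff, ← QuotientGroup.mk'_apply, map_commutatorElement,
    commutatorElement_eq_one_iff_mul_comm]
  have hy : (⊤ : Subgroup X) ≤ (centralizer {QuotientGroup.mk' K y}).comap (QuotientGroup.mk' K) := by
    rw [← hgen, sup_le_iff, closure_le]
    refine ⟨fun w hw => ?_, fun z hz => ?_⟩
    · simp only [SetLike.mem_coe, mem_comap, mem_centralizer_singleton_iff]
      exact h w hw y
    · simp only [mem_comap, mem_centralizer_singleton_iff]
      rw [← map_mul, ← map_mul, mem_center_iff.mp hz]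
  exact mem_centralizer_singleton_iff.mp (hy (mem_top x))

/-- The relations forced on `⁅b, a⁆` in a central extension. -/
theorem commutator_pow_eq_one {Q : Type u} [Group Q] {X : Type v} [Group X] (ξ : X →* Q)
    (hk : ξ.ker ≤ center X) (A B : Q) (a b : X) (ha : ξ a = A) (hb : ξ b = B) (r m n t : ℕ)
    (hr : B * A * B⁻¹ = A ^ r) (hm : A ^ m = 1) (hn : B ^ n = A ^ t) :
    ⁅b, a⁆ * a = a * ⁅b, a⁆ ∧ b * ⁅b, a⁆ * b⁻¹ = ⁅b, a⁆ ^ r ∧
    ⁅b, a⁆ ^ m = 1 ∧ ⁅b, a⁆ ^ (∑ i ∈ Finset.range n, r ^ i) = 1 ∧ ⁅b, a⁆ ^ t = 1 := by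
  set c := ⁅b, a⁆ with hcdef
  have hconj : b * a * b⁻¹ = c * a := by rw [hcdef, commutatorElement_def]; group
  have hz : (a ^ r)⁻¹ * (b * a * b⁻¹) ∈ center X := hk (by
    rw [MonoidHom.mem_ker, map_mul, map_inv, map_pow, map_mul, map_mul, map_inv, ha, hb, hr,
      inv_mul_cancel])
  have hcomm : Commute a (b * a * b⁻¹) := by
    have : Commute a (a ^ r * ((a ^ r)⁻¹ * (b * a * b⁻¹))) :=
      (Commute.pow_right (Commute.refl a) r).mul_right (mem_center_iff.mp hz a)
    rwa [mul_inv_cancel_left] at this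
  have hca : Commute c a := by
    have h1 : Commute (b * a * b⁻¹ * a⁻¹) a :=
      hcomm.symm.mul_left (Commute.refl a).inv_left
    exact h1
  have hbc : b * c * b⁻¹ = c ^ r := by
    set z := (a ^ r)⁻¹ * (b * a * b⁻¹) with hzdef
    have hbaz : b * a * b⁻¹ = a ^ r * z := by rw [hzdef, mul_inv_cancel_left]
    have hz1 : ∀ y, Commute z y := fun y => (mem_center_iff.mp hz y).symm
    have haz : a ^ r * z = c * a := hbaz.symm.trans hconj
    -- `c * a = a ^ r * z`; conjugate by `b`
    have key : b * (c * a) * b⁻¹ = (c * a) ^ r * z := by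
      calc b * (c * a) * b⁻¹ = b * (a ^ r * z) * b⁻¹ := by rw [haz]
        _ = b * a ^ r * b⁻¹ * z := by
          rw [mul_assoc b, mul_assoc (a ^ r) z, (hz1 b⁻¹).eq]; group
        _ = (c * a) ^ r * z := by rw [← conj_pow, hconj]
    rw [hca.mul_pow, mul_assoc (c ^ r), haz] at key
    have e : b * (c * a) * b⁻¹ = b * c * b⁻¹ * (c * a) := by
      conv_rhs => rw [← hconj]
      group
    rw [e] at key
    exact mul_right_cancel key
  have hcentral : ∀ y : X, ξ y = 1 → ∀ w, Commute y w := fun y hy w =>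
    (mem_center_iff.mp (hk hy) w).symm
  refine ⟨hca, hbc, ?_, ?_, ?_⟩
  · have h1 : b * a ^ m * b⁻¹ = a ^ m := by
      rw [mul_assoc, (hcentral (a ^ m) (by rw [map_pow, ha, hm]) b⁻¹).eq, mul_inv_cancel_left]
    rw [← conj_pow, hconj, hca.mul_pow] at h1
    exact mul_eq_right.mp h1
  · have hpow : ∀ i : ℕ, b ^ i * a * (b ^ i)⁻¹ = c ^ (∑ j ∈ Finset.range i, r ^ j) * a := by
      intro i
      induction i with
      | zero => simp
      | succ i ih =>
        rw [pow_succ', mul_inv_rev,
          show b * b ^ i * a * ((b ^ i)⁻¹ * b⁻¹) = b * (b ^ i * a * (b ^ i)⁻¹) * b⁻¹ by group, ih,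
          show b * (c ^ (∑ j ∈ Finset.range i, r ^ j) * a) * b⁻¹
            = b * c ^ (∑ j ∈ Finset.range i, r ^ j) * b⁻¹ * (b * a * b⁻¹) by group,
          ← conj_pow, hbc, hconj, ← mul_assoc, ← pow_mul, ← pow_succ]
        congr 2
        rw [Finset.mul_sum, Finset.sum_range_succ']
        simp [pow_succ, mul_comm]
    have h1 : Commute ((a ^ t)⁻¹ * b ^ n) a :=
      hcentral _ (by rw [map_mul, map_inv, map_pow, map_pow, ha, hb, hn, inv_mul_cancel]) a
    have h2 : Commute (b ^ n) a := by
      have := (Commute.pow_left (Commute.refl a) t).mul_left h1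
      rwa [mul_inv_cancel_left] at this
    have := hpow n
    rw [h2.eq, mul_inv_cancel_right] at this
    exact mul_eq_right.mp this.symm
  · have h1 : Commute ((b ^ n)⁻¹ * a ^ t) b :=
      hcentral _ (by rw [map_mul, map_inv, map_pow, map_pow, ha, hb, hn, inv_mul_cancel]) b
    have h2 : Commute (a ^ t) b := by
      have := (Commute.pow_left (Commute.refl b) n).mul_left h1
      rwa [mul_inv_cancel_left] at this
    have h3 : b * a ^ t * b⁻¹ = a ^ t := by rw [← h2.eq, mul_inv_cancel_right]
    rw [← conj_pow, hconj, hca.mul_pow] at h3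
    exact mul_eq_right.mp h3

/-- The kernel of a stem extension of such a group is small. -/
theorem card_ker_mul_dvd {Q : Type u} [Group Q] {X : Type v} [Group X] [Finite X] (σ : X →* Q)
    (hσ : Cfsg.IsStemExtension σ) (A B : Q) (hgen : closure {A, B} = ⊤) (r m n t : ℕ)
    (hr : B * A * B⁻¹ = A ^ r) (hm : A ^ m = 1) (hn : B ^ n = A ^ t) :
    Nat.card σ.ker * orderOf ⁅B, A⁆ ∣ Nat.gcd m (Nat.gcd (∑ i ∈ Finset.range n, r ^ i) t) := by
  obtain ⟨hs, hk, hd⟩ := hσ
  obtain ⟨a, rfl⟩ := hs A
  obtain ⟨b, rfl⟩ := hs B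
  obtain ⟨hca, hbc, h1, h2, h3⟩ := commutator_pow_eq_one σ hk (σ a) (σ b) a b rfl rfl r m n t hr hm hn
  set c := ⁅b, a⁆ with hc
  have hgen' : closure {a, b} ⊔ center X = ⊤ := by
    rw [eq_top_iff]
    intro x _
    have hx : σ x ∈ (closure ({a, b} : Set X)).map σ := by
      rw [MonoidHom.map_closure, Set.image_insert_eq, Set.image_singleton, hgen]; trivial
    obtain ⟨y, hy, hyx⟩ := hx
    have : y⁻¹ * x ∈ center X := hk (by simp [hyx])
    simpa using mul_mem_sup hy this
  haveI : (zpowers c).Normal := by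
    rw [← normalizer_eq_top_iff, eq_top_iff, ← hgen', sup_le_iff, closure_le]
    refine ⟨?_, fun z hz => ?_⟩
    · intro x hx
      simp only [SetLike.mem_coe]
      have key : MulAut.conj x c ∈ zpowers c := by
        rcases hx with rfl | rfl
        · exact ⟨1, by simp [MulAut.conj_apply, ← hca]⟩
        · exact ⟨r, by simp [MulAut.conj_apply, hbc]⟩
      refine mem_normalizer_fintype (S := (zpowers c : Set X)) ?_
      rintro _ ⟨k, rfl⟩
      have h5 := Subgroup.zpow_mem _ key k
      rw [← map_zpow, MulAut.conj_apply] at h5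
      exact h5
    · refine mem_normalizer_iff.mpr fun h => ?_
      rw [← mem_center_iff.mp hz h, mul_inv_cancel_right]
  have hle : σ.ker ≤ zpowers c :=
    hd.trans (commutator_le_of_normal a b hgen' (zpowers c) (mem_zpowers c))
  have hord : Nat.card σ.ker * orderOf (σ c) = orderOf c := by
    have hcard := Subgroup.card_eq_card_quotient_mul_card_subgroup (σ.ker.subgroupOf (zpowers c))
    rw [Nat.card_zpowers] at hcard
    rw [hcard, mul_comm]
    congr 1
    · rw [← Nat.card_zpowers, ← MonoidHom.map_zpowers, ← Subgroup.index_eq_card]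
      exact (Subgroup.relIndex_ker (K := zpowers c) σ).symm
    · exact (Nat.card_congr (Subgroup.subgroupOfEquivOfLe hle).toEquiv).symm
  rw [← map_commutatorElement, hord]
  exact Nat.dvd_gcd (orderOf_dvd_of_pow_eq_one h1)
    (Nat.dvd_gcd (orderOf_dvd_of_pow_eq_one h2) (orderOf_dvd_of_pow_eq_one h3))

end CfsgLib.Schur.Metacyclic
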