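import Cfsg.Agent.Lib.Schur.Metacyclic

/-! # Multipliers of dihedral and dicyclic groups -/

namespace CfsgLib.Schur.Dihedral

open Subgroup
open scoped commutatorElement

theorem closure_dihedral (n : ℕ) [NeZero n] :
    closure ({DihedralGroup.r 1, DihedralGroup.sr 0} : Set (DihedralGroup n)) = ⊤ := by
  rw [eq_top_iff]
  intro x _
  have hr : ∀ i : ZMod n, DihedralGroup.r i ∈
      closure ({DihedralGroup.r 1, DihedralGroup.sr 0} : Set (DihedralGroup n)) := fun i => by
    rw [← ZMod.natCast_zmod_val i, ← DihedralGroup.r_one_pow]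
    exact pow_mem (subset_closure (by simp)) _
  cases x with
  | r i => exact hr i
  | sr i =>
    have : DihedralGroup.sr i = DihedralGroup.sr 0 * DihedralGroup.r i := by simp
    rw [this]
    exact mul_mem (subset_closure (by simp)) (hr i)

theorem closure_quaternion (n : ℕ) [NeZero n] :
    closure ({QuaternionGroup.a 1, QuaternionGroup.xa 0} : Set (QuaternionGroup n)) = ⊤ := by
  rw [eq_top_iff]
  intro x _
  have hr : ∀ i : ZMod (2 * n), QuaternionGroup.a i ∈
      closure ({QuaternionGroup.a 1, QuaternionGroup.xa 0} : Set (QuaternionGroup n)) := fun i => by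
    rw [← ZMod.natCast_zmod_val i, ← QuaternionGroup.a_one_pow]
    exact pow_mem (subset_closure (by simp)) _
  cases x with
  | a i => exact hr i
  | xa i =>
    have : QuaternionGroup.xa i = QuaternionGroup.xa 0 * QuaternionGroup.a i := by simp
    rw [this]
    exact mul_mem (subset_closure (by simp)) (hr i)

theorem inv_xa (n : ℕ) (i : ZMod (2 * n)) :
    (QuaternionGroup.xa i)⁻¹ = QuaternionGroup.xa ((n : ZMod (2 * n)) + i) := rfl

theorem inv_a (n : ℕ) (i : ZMod (2 * n)) :
    (QuaternionGroup.a i)⁻¹ = QuaternionGroup.a (-i) := rfl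

theorem natCast_add_self (n : ℕ) : (n : ZMod (2 * n)) + n = 0 := by
  rw [← Nat.cast_add, ← two_mul, ZMod.natCast_self]

theorem quaternion_bound (n : ℕ) [NeZero n] {X : Type} [Group X] [Finite X]
    (σ : X →* QuaternionGroup n) (hσ : Cfsg.IsStemExtension σ) : σ.ker = ⊥ := by
  have hn : 0 < n := Nat.pos_of_neZero n
  have h := Metacyclic.card_ker_mul_dvd σ hσ (QuaternionGroup.a 1) (QuaternionGroup.xa 0)
    (closure_quaternion n) (2 * n - 1) (2 * n) 2 n ?_ ?_ ?_
  · have hc : ⁅QuaternionGroup.xa (0 : ZMod (2 * n)), QuaternionGroup.a 1⁆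
        = (QuaternionGroup.a (-1) : QuaternionGroup n) ^ 2 := by
      simp [commutatorElement_def, sq, inv_xa, inv_a]
      linear_combination natCast_add_self n
    have ho : orderOf ((QuaternionGroup.a (-1) : QuaternionGroup n) ^ 2) = n := by
      rw [orderOf_pow]
      have : orderOf (QuaternionGroup.a (-1) : QuaternionGroup n) = 2 * n := by
        rw [show (QuaternionGroup.a (-1) : QuaternionGroup n) = (QuaternionGroup.a 1)⁻¹ from rfl,
          orderOf_inv, QuaternionGroup.orderOf_a_one]
      rw [this, Nat.gcd_eq_right (Dvd.intro n rfl), Nat.mul_div_cancel_left _ (by norm_num)]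
    rw [hc, ho] at h
    have h2 : Nat.card σ.ker * n ∣ n := h.trans ((Nat.gcd_dvd_right _ _).trans (Nat.gcd_dvd_right _ _))
    have h3 : Nat.card σ.ker = 1 := by
      have := Nat.le_of_dvd hn h2
      have hpos : 0 < Nat.card σ.ker := Nat.card_pos
      nlinarith
    exact Subgroup.eq_bot_of_card_eq _ h3
  · rw [QuaternionGroup.a_one_pow, Nat.cast_sub (by omega : 1 ≤ 2 * n)]
    simp [inv_xa]
    linear_combination natCast_add_self n
  · exact QuaternionGroup.a_one_pow_n
  · rw [QuaternionGroup.a_one_pow, sq]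
    simp

theorem dihedral_bound (n : ℕ) [NeZero n] {X : Type} [Group X] [Finite X]
    (σ : X →* DihedralGroup n) (hσ : Cfsg.IsStemExtension σ) :
    Nat.card σ.ker * (n / Nat.gcd n 2) ∣ n := by
  have hn : 0 < n := Nat.pos_of_neZero n
  have h := Metacyclic.card_ker_mul_dvd σ hσ (DihedralGroup.r 1) (DihedralGroup.sr 0)
    (closure_dihedral n) (n - 1) n 2 0 ?_ ?_ ?_
  · have hc : ⁅DihedralGroup.sr (0 : ZMod n), DihedralGroup.r 1⁆
        = (DihedralGroup.r 1 : DihedralGroup n)⁻¹ ^ 2 := by
      simp [commutatorElement_def, sq]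
    rw [hc, orderOf_pow, orderOf_inv, DihedralGroup.orderOf_r_one] at h
    exact h.trans (Nat.gcd_dvd_left _ _)
  · rw [DihedralGroup.r_one_pow, Nat.cast_sub (by omega : 1 ≤ n)]
    simp
  · exact DihedralGroup.r_one_pow_n
  · simp [sq]

end CfsgLib.Schur.Dihedral
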