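import Cfsg.Agent.Lib.Schur.Basic

/-! # Central extensions of abelian groups from two characters -/

namespace CfsgLib.Schur.Bilinear

universe u

open Subgroup
open scoped commutatorElement

/-- The Heisenberg-type group of two homomorphisms `f g : G → ℤ/n`. -/
@[ext] structure Heis {G : Type u} [CommGroup G] {n : ℕ}
    (f g : G →* Multiplicative (ZMod n)) where
  /-- the image in `G` -/
  fst : G
  /-- the central coordinate -/
  snd : ZMod n

namespace Heis

variable {G : Type u} [CommGroup G] {n : ℕ} {f g : G →* Multiplicative (ZMod n)}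

/-- The cocycle. -/
def coc (f g : G →* Multiplicative (ZMod n)) (x y : G) : ZMod n :=
  Multiplicative.toAdd (f x) * Multiplicative.toAdd (g y)

theorem coc_mul_left (x x' y : G) : coc f g (x * x') y = coc f g x y + coc f g x' y := by
  simp [coc, add_mul]

theorem coc_mul_right (x y y' : G) : coc f g x (y * y') = coc f g x y + coc f g x y' := by
  simp [coc, mul_add]

theorem coc_one_left (y : G) : coc f g 1 y = 0 := by simp [coc]

theorem coc_one_right (x : G) : coc f g x 1 = 0 := by simp [coc]

theorem coc_inv_left (x y : G) : coc f g x⁻¹ y = -coc f g x y := by simp [coc]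

theorem coc_inv_right (x y : G) : coc f g x y⁻¹ = -coc f g x y := by simp [coc]

instance instGroup : Group (Heis f g) where
  mul p q := ⟨p.fst * q.fst, p.snd + q.snd + coc f g p.fst q.fst⟩
  one := ⟨1, 0⟩
  inv p := ⟨p.fst⁻¹, -p.snd + coc f g p.fst p.fst⟩
  mul_assoc p q r := by
    refine Heis.ext (mul_assoc _ _ _) ?_
    show (p.snd + q.snd + coc f g p.fst q.fst) + r.snd + coc f g (p.fst * q.fst) r.fst
      = p.snd + (q.snd + r.snd + coc f g q.fst r.fst) + coc f g p.fst (q.fst * r.fst)
    rw [coc_mul_left, coc_mul_right]; ring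
  one_mul p := by
    refine Heis.ext (one_mul _) ?_
    show (0 : ZMod n) + p.snd + coc f g 1 p.fst = p.snd
    rw [coc_one_left]; ring
  mul_one p := by
    refine Heis.ext (mul_one _) ?_
    show p.snd + 0 + coc f g p.fst 1 = p.snd
    rw [coc_one_right]; ring
  inv_mul_cancel p := by
    refine Heis.ext (inv_mul_cancel _) ?_
    show (-p.snd + coc f g p.fst p.fst) + p.snd + coc f g p.fst⁻¹ p.fst = 0
    rw [coc_inv_left]; ring

/-- Projection to `G`. -/
def proj (f g : G →* Multiplicative (ZMod n)) : Heis f g →* G where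
  toFun p := p.fst
  map_one' := rfl
  map_mul' _ _ := rfl

theorem ker_le_center : (proj f g).ker ≤ center (Heis f g) := by
  intro p hp
  have hp1 : p.fst = 1 := hp
  rw [mem_center_iff]
  intro q
  refine Heis.ext (mul_comm _ _) ?_
  show q.snd + p.snd + coc f g q.fst p.fst = p.snd + q.snd + coc f g p.fst q.fst
  rw [hp1, coc_one_left, coc_one_right]; ring

/-- The kernel is `ℤ/n`. -/
def kerEquiv (f g : G →* Multiplicative (ZMod n)) : (proj f g).ker ≃* Multiplicative (ZMod n) where
  toFun p := Multiplicative.ofAdd p.1.snd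
  invFun a := ⟨⟨1, Multiplicative.toAdd a⟩, rfl⟩
  left_inv p := Subtype.ext (Heis.ext (show p.1.fst = 1 from p.2).symm rfl)
  right_inv _ := rfl
  map_mul' p q := by
    show p.1.snd + q.1.snd + coc f g p.1.fst q.1.fst = p.1.snd + q.1.snd
    rw [show p.1.fst = 1 from p.2, coc_one_left, add_zero]

theorem proj_surjective : Function.Surjective (proj f g) := fun x => ⟨⟨x, 0⟩, rfl⟩

/-- If the alternating form attains `1`, this is a stem extension. -/
theorem isStemExtension (x y : G) (h : coc f g x y - coc f g y x = 1) :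
    Cfsg.IsStemExtension (proj f g) := by
  refine ⟨proj_surjective, ker_le_center, fun p hp => ?_⟩
  have hc : (⟨1, 1⟩ : Heis f g) ∈ commutator (Heis f g) := by
    have : (⟨1, 1⟩ : Heis f g) = ⁅(⟨x, 0⟩ : Heis f g), ⟨y, 0⟩⁆ := by
      rw [commutatorElement_def]
      refine Heis.ext ?_ ?_
      · show (1 : G) = x * y * x⁻¹ * y⁻¹
        rw [mul_comm x y, mul_inv_cancel_right, mul_inv_cancel]
      · show (1 : ZMod n) = ((0 + 0 + coc f g x y) + (-0 + coc f g x x) + coc f g (x * y) x⁻¹)
            + (-0 + coc f g y y) + coc f g (x * y * x⁻¹) y⁻¹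
        simp only [coc_mul_left, coc_inv_left, coc_inv_right]
        linear_combination -h
    rw [this]
    exact commutator_mem_commutator (mem_top _) (mem_top _)
  have hpow : ∀ k : ℕ, ((⟨1, 1⟩ : Heis f g) ^ k) = ⟨1, k⟩ := by
    intro k
    induction k with
    | zero => exact Heis.ext (by simp; rfl) (by simp; rfl)
    | succ k ih =>
      rw [pow_succ, ih]
      refine Heis.ext (one_mul 1) ?_
      show (k : ZMod n) + 1 + coc f g 1 1 = ((k + 1 : ℕ) : ZMod n)
      rw [coc_one_left, add_zero, Nat.cast_succ]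
  have hp1 : p.fst = 1 := hp
  obtain ⟨k, hk⟩ := ZMod.intCast_surjective p.snd
  rcases k.natAbs_eq with hk' | hk'
  · have : p = (⟨1, 1⟩ : Heis f g) ^ k.natAbs := by
      rw [hpow]
      refine Heis.ext hp1 ?_
      show p.snd = (k.natAbs : ZMod n)
      rw [← hk]; conv_lhs => rw [hk']
      simp
    rw [this]; exact pow_mem hc _
  · have : p = ((⟨1, 1⟩ : Heis f g) ^ k.natAbs)⁻¹ := by
      rw [hpow]
      refine Heis.ext (by show p.fst = (1 : G)⁻¹; rw [inv_one]; exact hp1) ?_
      show p.snd = -(k.natAbs : ZMod n) + coc f g 1 1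
      rw [coc_one_left, add_zero, ← hk]; conv_lhs => rw [hk']
      simp
    rw [this]; exact inv_mem (pow_mem hc _)

instance instFinite [Finite G] [NeZero n] : Finite (Heis f g) :=
  Finite.of_injective (fun p => (p.fst, p.snd)) fun p q h =>
    Heis.ext (congrArg Prod.fst h) (congrArg Prod.snd h)

end Heis

end CfsgLib.Schur.Bilinear
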