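import Mathlib

/-! # Extension of characters to the divisible group `ℂˣ` -/

namespace CfsgLib.Schur.Character

universe u v

noncomputable instance divisibleAdditiveUnitsComplex : DivisibleBy (Additive ℂˣ) ℤ :=
  haveI : DivisibleBy (Additive ℂˣ) ℕ := divisibleByOfSMulRightSurj (Additive ℂˣ) ℕ fun {n} hn x => by
    obtain ⟨z, hz⟩ := IsAlgClosed.exists_pow_nat_eq ((Additive.toMul x : ℂˣ) : ℂ) (Nat.pos_of_ne_zero hn)
    have hz0 : z ≠ 0 := fun h => (Additive.toMul x : ℂˣ).ne_zero (by rw [← hz, h, zero_pow hn])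
    exact ⟨Additive.ofMul (Units.mk0 z hz0), by
      show Additive.ofMul (Units.mk0 z hz0 ^ n) = x
      exact congrArg Additive.ofMul (Units.ext hz)⟩
  AddGroup.divisibleByIntOfDivisibleByNat _

/-- A homomorphism into `ℂˣ` extends along an injective map of abelian groups. -/
theorem exists_extension {A : Type u} {B : Type v} [CommGroup A] [CommGroup B] (f : A →* B)
    (hf : Function.Injective f) (χ : A →* ℂˣ) : ∃ ψ : B →* ℂˣ, ψ.comp f = χ := by
  obtain ⟨h, hh⟩ := (Module.Baer.of_divisible (Additive ℂˣ)).extension_property_addMonoidHom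
    (MonoidHom.toAdditive f) (fun a b hab => hf hab) (MonoidHom.toAdditive χ)
  exact ⟨MonoidHom.toAdditive.symm h, MonoidHom.ext fun a => congrArg (fun g => Additive.toMul (g (Additive.ofMul a))) hh⟩

/-- A character of a subgroup of an abelian group extends. -/
theorem exists_extension_subgroup {B : Type v} [CommGroup B] (A : Subgroup B) (χ : A →* ℂˣ) :
    ∃ ψ : B →* ℂˣ, ∀ a : A, ψ a = χ a := by
  obtain ⟨ψ, hψ⟩ := exists_extension A.subtype A.subtype_injective χ
  exact ⟨ψ, fun a => congrArg (fun g : A →* ℂˣ => g a) hψ⟩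

end CfsgLib.Schur.Character
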