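import Cfsg.Agent.Lib.Schur.TailsDenseBound
import Cfsg.Agent.Lib.Schur.TailsCombine
import Cfsg.Agent.Lib.Sporadic.OutCert.Perm

/-!
# The hypotheses of a certificate checked on matrices over the field with two elements

A square matrix is given by the number with its columns as digits in base `2 ^ n`; it acts on the numbers below
`2 ^ n`, read as vectors of bits.
-/

set_option autoImplicit false

namespace CfsgLib.Schur.Tails.Mat

open CfsgLib.Sporadic.OutCert Subgroup

/-- The image of a vector under a matrix, using the first `k` columns. -/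
noncomputable def mappTo (n c x k : ℕ) : ℕ :=
  Nat.rec 0 (fun i ih => Nat.xor (cond (Nat.testBit x i) (lk n c i) 0) ih) k

/-- The image of a vector under a matrix. -/
noncomputable def mapp (n c x : ℕ) : ℕ := mappTo n c x n

/-- The product of two matrices. -/
noncomputable def mmul (n c d : ℕ) : ℕ := pkF n (fun i => mapp n c (lk n d i)) n 0

/-- The identity matrix. -/
noncomputable def oneM (n : ℕ) : ℕ := pkF n (fun i => 2 ^ i) n 0

/-- A number represents a permutation of the vectors. -/
def RepM (n c : ℕ) (g : Equiv.Perm (Fin (2 ^ n))) : Prop := ∀ x : Fin (2 ^ n), mapp n c x = (g x : ℕ)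

variable {n : ℕ}

theorem lk_lt (c i : ℕ) : lk n c i < 2 ^ n := Nat.mod_lt _ (Nat.two_pow_pos n)

theorem mappTo_lt (c x : ℕ) : ∀ k, mappTo n c x k < 2 ^ n
  | 0 => Nat.two_pow_pos n
  | k + 1 => Nat.xor_lt_two_pow (by cases Nat.testBit x k <;> simp [lk_lt]) (mappTo_lt c x k)

theorem mapp_lt (c x : ℕ) : mapp n c x < 2 ^ n := mappTo_lt c x n

theorem mappTo_xor (c a b : ℕ) : ∀ k, mappTo n c (a ^^^ b) k = mappTo n c a k ^^^ mappTo n c b k
  | 0 => by simp [mappTo]
  | k + 1 => by
    show (cond (Nat.testBit (a ^^^ b) k) (lk n c k) 0) ^^^ mappTo n c (a ^^^ b) k =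
      ((cond (Nat.testBit a k) (lk n c k) 0) ^^^ mappTo n c a k) ^^^
        ((cond (Nat.testBit b k) (lk n c k) 0) ^^^ mappTo n c b k)
    rw [mappTo_xor c a b k, Nat.testBit_xor]
    cases Nat.testBit a k <;> cases Nat.testBit b k <;>
      simp [Nat.xor_left_comm, Nat.xor_assoc, ← Nat.xor_assoc (lk n c k) (lk n c k)]

theorem mapp_zero (c : ℕ) : mapp n c 0 = 0 := by
  have : ∀ k, mappTo n c 0 k = 0 := by
    intro k
    induction k with
    | zero => rfl
    | succ k ih =>
      show (cond (Nat.testBit 0 k) (lk n c k) 0) ^^^ mappTo n c 0 k = 0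
      rw [ih]; simp
  exact this n

theorem lk_mmul (c d : ℕ) {i : ℕ} (hi : i < n) : lk n (mmul n c d) i = mapp n c (lk n d i) := by
  rw [mmul, pkF_range, lk_pk n (fun x hx => ?_) (by simpa using hi)]
  · simp
  · obtain ⟨j, -, rfl⟩ := List.mem_map.1 hx
    exact mapp_lt _ _

theorem mapp_mmul (c d x : ℕ) : mapp n (mmul n c d) x = mapp n c (mapp n d x) := by
  have : ∀ k ≤ n, mappTo n (mmul n c d) x k = mapp n c (mappTo n d x k) := by
    intro k
    induction k with
    | zero => intro _; exact (mapp_zero c).symm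
    | succ k ih =>
      intro hk
      show (cond (Nat.testBit x k) (lk n (mmul n c d) k) 0) ^^^ mappTo n (mmul n c d) x k =
        mapp n c ((cond (Nat.testBit x k) (lk n d k) 0) ^^^ mappTo n d x k)
      rw [ih (by omega), lk_mmul c d (by omega)]
      show _ = mappTo n c _ n
      rw [mappTo_xor]
      cases Nat.testBit x k
      · simp only [cond_false]
        rw [show mappTo n c 0 n = 0 from mapp_zero c]
        rfl
      · rfl
  exact this n le_rfl

theorem mapp_oneM {x : ℕ} (hx : x < 2 ^ n) : mapp n (oneM n) x = x := by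
  have : ∀ k ≤ n, mappTo n (oneM n) x k = x % 2 ^ k := by
    intro k
    induction k with
    | zero => intro _; simp [mappTo, Nat.mod_one]
    | succ k ih =>
      intro hk
      show (cond (Nat.testBit x k) (lk n (oneM n) k) 0) ^^^ mappTo n (oneM n) x k = _
      rw [ih (by omega), oneM, pkF_range, lk_pk n (fun v hv => ?_) (show k < _ by simp; omega)]
      · simp only [List.getElem_map, List.getElem_range]
        apply Nat.eq_of_testBit_eq
        intro i
        rw [Nat.testBit_xor, Nat.testBit_mod_two_pow, Nat.testBit_mod_two_pow]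
        rcases lt_trichotomy i k with h | rfl | h
        · cases hb : Nat.testBit x k <;>
            simp [Nat.testBit_two_pow_of_ne (show k ≠ i by omega), h, Nat.lt_succ_of_lt h]
        · cases hb : Nat.testBit x i <;> simp [Nat.testBit_two_pow_self]
        · cases hb : Nat.testBit x k <;>
            simp [Nat.testBit_two_pow_of_ne (show k ≠ i by omega), show ¬ i < k by omega,
              show ¬ i < k + 1 by omega]
      · obtain ⟨j, hj, rfl⟩ := List.mem_map.1 hv
        exact Nat.pow_lt_pow_right (by norm_num) (List.mem_range.1 hj)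
  exact (this n le_rfl).trans (Nat.mod_eq_of_lt hx)

theorem rep_oneM : RepM n (oneM n) 1 := fun x => mapp_oneM x.2

theorem rep_mmul {c d : ℕ} {g h : Equiv.Perm (Fin (2 ^ n))} (hc : RepM n c g) (hd : RepM n d h) :
    RepM n (mmul n c d) (g * h) := fun x => by rw [mapp_mmul, hd x, hc (h x)]; rfl

theorem RepM.inj {c : ℕ} {g h : Equiv.Perm (Fin (2 ^ n))} (hg : RepM n c g) (hh : RepM n c h) : g = h :=
  Equiv.ext fun x => Fin.ext ((hg x).symm.trans (hh x))

variable (n)

/-- The matrix of a word in listed matrices. -/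
noncomputable def prodM (kk : List ℕ) (l : List ℕ) : ℕ :=
  l.foldr (fun i acc => mmul n (kk.getD i (oneM n)) acc) (oneM n)

/-- The rules hold. -/
noncomputable def relM (kk : List ℕ) (D : Cert) : Bool :=
  D.rules.all fun R => prodM n kk R.1 == prodM n kk R.2

/-- The fusions hold. -/
noncomputable def fusM (kk gk : List ℕ) (D : Cert) : Bool :=
  (List.range D.fus.length).all fun j =>
    let F := D.fus.getD j ⟨[], [], []⟩
    (List.range F.us.length).all fun s =>
      mmul n (gk.getD j (oneM n)) (prodM n kk (F.us.getD s [])) ==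
        mmul n (prodM n kk (F.vs.getD s [])) (gk.getD j (oneM n))

/-- Every entry after the first `nb` is the product of earlier entries. -/
noncomputable def slpM (nb : ℕ) (tab : List ℕ) (ws : List (List ℕ)) : Bool :=
  decide (tab.length = nb + ws.length) && (List.range ws.length).all fun i =>
    Cert.lettersIn (ws.getD i []) 0 (nb + i) && tab.getD (nb + i) (oneM n) == prodM n tab (ws.getD i [])

/-- The entries at given places. -/
noncomputable def pickM (tab ids kk : List ℕ) : Bool := ids.map (fun i => tab.getD i (oneM n)) == kk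

/-- An orbit: every point is new and is the image of an earlier one. -/
noncomputable def orbM (gens : List ℕ) : List (ℕ × ℕ × ℕ) → List ℕ → Bool
  | [], _ => true
  | e :: l, seen => Nat.blt e.2.2 gens.length && (seen.any (Nat.beq e.2.1) &&
      (Nat.beq (mapp n (gens.getD e.2.2 0) e.2.1) e.1 && (!(seen.any (Nat.beq e.1)) && orbM gens l (e.1 :: seen))))

/-- A chain of orbits, each level given by base point, words of its elements and the orbit. -/
noncomputable def chainM (kk : List ℕ) : List (ℕ × List (List ℕ) × List (ℕ × ℕ × ℕ)) → Bool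
  | [] => true
  | L :: r => Nat.blt L.1 (2 ^ n) && (orbM n (L.2.1.map (prodM n kk)) L.2.2 [L.1] &&
      ((r.all fun M => M.2.1.all fun g => Nat.beq (mapp n (prodM n kk g) L.1) L.1) && chainM kk r))

/-- The size given by a chain, with the words in a range of letters. -/
noncomputable def chainOK (kk : List ℕ) (lv : List (ℕ × List (List ℕ) × List (ℕ × ℕ × ℕ))) (lo hi m : ℕ) :
    Bool :=
  (lv.all fun L => L.2.1.all fun g => Cert.lettersIn g lo hi) &&
    (chainM n kk lv && decide (m ≤ (lv.map fun L => L.2.2.length + 1).prod))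

variable {n}
variable {Q : Type*} [Group Q] (ψ : Q →* Equiv.Perm (Fin (2 ^ n)))

theorem rep_prodM {kk : List ℕ} {y : ℕ → Q} (hy : ∀ i, RepM n (kk.getD i (oneM n)) (ψ (y i))) (l : List ℕ) :
    RepM n (prodM n kk l) (ψ (valW y l)) := by
  induction l with
  | nil => simpa [prodM] using (rep_oneM (n := n))
  | cons i l ih =>
    show RepM n (mmul n (kk.getD i (oneM n)) (prodM n kk l)) _
    rw [valW_cons, map_mul]
    exact rep_mmul (hy i) ih

theorem rel_of_check (hψ : Function.Injective ψ) {kk : List ℕ} {y : ℕ → Q}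
    (hy : ∀ i, RepM n (kk.getD i (oneM n)) (ψ (y i))) {D : Cert} (h : relM n kk D = true) :
    ∀ R ∈ D.rules, valW y R.1 = valW y R.2 := by
  intro R hR
  have := beq_iff_eq.1 (List.all_eq_true.1 h R hR)
  refine hψ ((rep_prodM ψ hy R.1).inj ?_)
  rw [this]
  exact rep_prodM ψ hy R.2

theorem fus_of_check (hψ : Function.Injective ψ) {kk gk : List ℕ} {y g : ℕ → Q}
    (hy : ∀ i, RepM n (kk.getD i (oneM n)) (ψ (y i))) (hg : ∀ j, RepM n (gk.getD j (oneM n)) (ψ (g j)))
    {D : Cert} (h : fusM n kk gk D = true) :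
    ∀ j < D.fus.length, ∀ s < (D.fus.getD j ⟨[], [], []⟩).us.length,
      g j * valW y ((D.fus.getD j ⟨[], [], []⟩).us.getD s []) =
        valW y ((D.fus.getD j ⟨[], [], []⟩).vs.getD s []) * g j := by
  intro j hj s hs
  simp only [fusM, List.all_eq_true, List.mem_range, beq_iff_eq] at h
  have e := h j hj s hs
  refine hψ ?_
  rw [map_mul, map_mul]
  refine (rep_mmul (hg j) (rep_prodM ψ hy _)).inj ?_
  rw [e]
  exact rep_mmul (rep_prodM ψ hy _) (hg j)

theorem exists_slp {nb : ℕ} {tab : List ℕ} {ws : List (List ℕ)}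
    (hb : ∀ i < nb, ∃ q, RepM n (tab.getD i (oneM n)) (ψ q)) (h : slpM n nb tab ws = true) :
    ∀ i, ∃ q, RepM n (tab.getD i (oneM n)) (ψ q) := by
  simp only [slpM, Bool.and_eq_true, decide_eq_true_eq, List.all_eq_true, List.mem_range, beq_iff_eq,
    lettersIn_iff] at h
  intro i
  induction i using Nat.strong_induction_on with
  | _ i ih =>
    by_cases hi : i < nb
    · exact hb i hi
    by_cases hi' : i < nb + ws.length
    swap
    · exact ⟨1, by rw [List.getD_eq_default _ _ (by omega), map_one]; exact rep_oneM⟩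
    obtain ⟨hlt, heq⟩ := h.2 (i - nb) (by omega)
    rw [Nat.add_sub_cancel' (by omega)] at heq hlt
    have key : ∀ l : List ℕ, (∀ x ∈ l, x < i) → ∃ q, RepM n (prodM n tab l) (ψ q) := by
      intro l hl
      induction l with
      | nil => exact ⟨1, by rw [map_one]; exact rep_oneM⟩
      | cons x l ihl =>
        obtain ⟨q, hq⟩ := ih x (hl x List.mem_cons_self)
        obtain ⟨q', hq'⟩ := ihl fun y hy => hl y (List.mem_cons_of_mem _ hy)
        exact ⟨q * q', by rw [map_mul]; exact rep_mmul hq hq'⟩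
    rw [heq]
    exact key _ fun x hx => (hlt x hx).2

theorem exists_pick {tab ids kk : List ℕ} (ht : ∀ i, ∃ q, RepM n (tab.getD i (oneM n)) (ψ q))
    (h : pickM n tab ids kk = true) (i : ℕ) : ∃ q, RepM n (kk.getD i (oneM n)) (ψ q) := by
  rw [pickM, beq_iff_eq] at h
  subst h
  by_cases hi : i < ids.length
  · rw [List.getD_eq_getElem _ _ (by simpa using hi), List.getElem_map]
    exact ht _
  · exact ⟨1, by rw [List.getD_eq_default _ _ (by simpa using hi), map_one]; exact rep_oneM⟩

theorem orbM_spec {K : Subgroup (Equiv.Perm (Fin (2 ^ n)))} {b : Fin (2 ^ n)} {gens : List ℕ}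
    (hg : ∀ g ∈ gens, ∃ x ∈ K, RepM n g x) : ∀ {l : List (ℕ × ℕ × ℕ)} {seen : List ℕ},
    orbM n gens l seen = true → seen.Nodup → (∀ p ∈ seen, ∃ y ∈ MulAction.orbit K b, (y : ℕ) = p) →
    ∃ all : List ℕ, all.Nodup ∧ all.length = seen.length + l.length ∧
      ∀ p ∈ all, ∃ y ∈ MulAction.orbit K b, (y : ℕ) = p
  | [], seen, _, hn, hm => ⟨seen, hn, by simp, hm⟩
  | e :: l, seen, h, hn, hm => by
    simp only [orbM, Bool.and_eq_true, Bool.not_eq_true', Nat.blt_eq, Nat.beq_eq, List.any_eq_true,
      List.any_eq_false] at h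
    obtain ⟨hlt, ⟨par, hpar, hpe⟩, himg, hnew, hrest⟩ := h
    obtain ⟨y, hy, hye⟩ := hm _ hpar
    obtain ⟨x, hx, hxr⟩ := hg _ (List.getElem_mem hlt)
    have hz : ∃ z ∈ MulAction.orbit K b, (z : ℕ) = e.1 := by
      refine ⟨x y, MulAction.mem_orbit_of_mem_orbit (⟨x, hx⟩ : K) hy, ?_⟩
      rw [← himg, hpe, ← hye, List.getD_eq_getElem _ _ hlt]
      exact (hxr y).symm
    obtain ⟨all, h1, h2, h3⟩ := orbM_spec hg hrest (List.nodup_cons.2 ⟨fun he => hnew _ he rfl, hn⟩)
      (fun p hp => by
        rcases List.mem_cons.1 hp with rfl | hp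
        · exact hz
        · exact hm p hp)
    exact ⟨all, h1, by rw [h2]; simp only [List.length_cons]; omega, h3⟩

theorem card_ge_chain {kk : List ℕ} {y : ℕ → Q} (hy : ∀ i, RepM n (kk.getD i (oneM n)) (ψ (y i))) :
    ∀ (lv : List (ℕ × List (List ℕ) × List (ℕ × ℕ × ℕ))) (K : Subgroup (Equiv.Perm (Fin (2 ^ n)))),
    chainM n kk lv = true → (∀ L ∈ lv, ∀ g ∈ L.2.1, ψ (valW y g) ∈ K) →
    (lv.map fun L => L.2.2.length + 1).prod ≤ Nat.card K
  | [], K, _, _ => by simpa using Nat.one_le_iff_ne_zero.2 Nat.card_pos.ne'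
  | L :: r, K, h, hg => by
    classical
    simp only [chainM, Bool.and_eq_true, Nat.blt_eq, List.all_eq_true, Nat.beq_eq] at h
    obtain ⟨hb, horb, hfix, hr⟩ := h
    let b : Fin (2 ^ n) := ⟨L.1, hb⟩
    obtain ⟨all, hnd, hlen, hall⟩ := orbM_spec (K := K) (b := b)
      (fun g hg' => by
        obtain ⟨w', hw, rfl⟩ := List.mem_map.1 hg'
        exact ⟨_, hg L List.mem_cons_self w' hw, rep_prodM ψ hy w'⟩) horb (List.nodup_singleton _)
      (fun p hp => ⟨b, MulAction.mem_orbit_self b, (List.mem_singleton.1 hp).symm⟩)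
    have hle : L.2.2.length + 1 ≤ (MulAction.orbit K b).ncard := by
      have hsub : (all.toFinset : Set ℕ) ⊆ Fin.val '' MulAction.orbit K b := by
        intro v hv
        rw [Finset.mem_coe, List.mem_toFinset] at hv
        obtain ⟨z, hz, rfl⟩ := hall v hv
        exact ⟨z, hz, rfl⟩
      have := Set.ncard_le_ncard hsub (Set.toFinite _)
      rw [Set.ncard_coe_finset, List.toFinset_card_of_nodup hnd, hlen,
        Set.ncard_image_of_injective _ Fin.val_injective] at this
      simpa [Nat.add_comm] using this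
    let K' : Subgroup (Equiv.Perm (Fin (2 ^ n))) := K ⊓ MulAction.stabilizer (Equiv.Perm (Fin (2 ^ n))) b
    have hK' : Nat.card K' = Nat.card (MulAction.stabilizer K b) :=
      Nat.card_congr
        { toFun := fun g => ⟨⟨g.1, g.2.1⟩, g.2.2⟩
          invFun := fun g => ⟨g.1.1, g.1.2, g.2⟩
          left_inv := fun _ => rfl
          right_inv := fun _ => rfl }
    have ih := card_ge_chain hy r K' hr fun M hM g hgM =>
      ⟨hg M (List.mem_cons_of_mem _ hM) g hgM,
        Fin.ext (((rep_prodM ψ hy g) b).symm.trans (hfix M hM g hgM))⟩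
    have hmul := (MulAction.stabilizer K b).index_mul_card
    rw [MulAction.index_stabilizer] at hmul
    rw [List.map_cons, List.prod_cons, ← hmul]
    exact Nat.mul_le_mul hle (ih.trans hK'.le)

theorem card_tailGen_ge (hψ : Function.Injective ψ) {kk : List ℕ} {y : ℕ → Q}
    (hy : ∀ i, RepM n (kk.getD i (oneM n)) (ψ (y i))) {lv : List (ℕ × List (List ℕ) × List (ℕ × ℕ × ℕ))}
    {lo hi m : ℕ} (h : chainOK n kk lv lo hi m = true) : m ≤ Nat.card (tailGen y hi lo) := by
  simp only [chainOK, Bool.and_eq_true, decide_eq_true_eq, List.all_eq_true, lettersIn_iff] at h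
  obtain ⟨hlet, hch, hm⟩ := h
  rw [Nat.card_congr ((tailGen y hi lo).equivMapOfInjective ψ hψ).toEquiv]
  exact hm.trans (card_ge_chain ψ hy lv _ hch fun L hL g hg =>
    ⟨valW y g, valW_mem_tailGen (hlet L hL g hg), rfl⟩)

/-- The bound at one prime from a packed certificate for a group given by matrices. -/
theorem factorization_of_mat [Finite Q] (hψ : Function.Injective ψ) (D : Cert) (E : Dense) {kk gk : List ℕ}
    {lv lvin : List (ℕ × List (List ℕ) × List (ℕ × ℕ × ℕ))}
    (hkk : ∀ i, ∃ q, RepM n (kk.getD i (oneM n)) (ψ q))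
    (hgk : ∀ i, ∃ q, RepM n (gk.getD i (oneM n)) (ψ q))
    (he : Dense.eqsOK D E = true) (hc : Dense.combOK D E = true) (hs : D.shapeOK = true)
    (hr : relM n kk D = true) (hf : fusM n kk gk D = true) {p : ℕ} [Fact p.Prime] (hDp : D.p = p)
    {r r' : ℕ} (hDr : D.r = r) (hDa : D.r - D.a = r')
    (ha : chainOK n kk lv 0 D.r (p ^ r) = true) (hi : chainOK n kk lvin D.a D.r (p ^ r') = true)
    {m c₀ : ℕ} (hcard : Nat.card Q = m) (hQ : ¬ p ^ (r + 1) ∣ m) (hm : ¬ p ∣ c₀) (hqc : m ∣ E.q * c₀)
    (Γ : Type*) [Group Γ] [Finite Γ] (σ : Γ →* Q) (hσ : Cfsg.IsStemExtension σ) :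
    (Nat.card σ.ker).factorization p ≤ E.b.factorization p := by
  choose y hy using hkk
  choose g hg using hgk
  subst hDr hDa
  exact factorization_card_ker_le_dense D E he hc hm hs hDp y (rel_of_check ψ hψ hy hr) g
    (fus_of_check ψ hψ hy hg hf) (card_tailGen_ge ψ hψ hy ha)
    (card_tailGen_ge ψ hψ hy hi) (hcard ▸ hQ) (hcard ▸ hqc) Γ σ hσ

/-- The order of an element given by a matrix. -/
theorem exists_orderOf (hψ : Function.Injective ψ) {c : ℕ} (hc : ∃ q, RepM n c (ψ q)) {p : ℕ} [Fact p.Prime]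
    (ht : prodM n [c] (List.replicate p 0) = oneM n) (hne : mapp n c (2 ^ n - 1) ≠ 2 ^ n - 1) :
    ∃ q : Q, orderOf q = p := by
  obtain ⟨q, hq⟩ := hc
  refine ⟨q, orderOf_eq_prime (hψ ?_) fun h => hne ?_⟩
  · have hy : ∀ i, RepM n (([c] : List ℕ).getD i (oneM n)) (ψ ((fun i : ℕ => if i = 0 then q else 1) i)) := by
      intro i
      cases i with
      | zero => simpa using hq
      | succ i => simpa using (rep_oneM (n := n))
    have := rep_prodM ψ hy (List.replicate p 0)
    rw [ht] at this
    rw [map_one, (rep_oneM (n := n)).inj this]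
    simp [valW]
  · subst h
    rw [map_one] at hq
    exact hq ⟨2 ^ n - 1, Nat.sub_lt (Nat.two_pow_pos n) Nat.one_pos⟩

end CfsgLib.Schur.Tails.Mat
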