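import Cfsg.Agent.Lib.Schur.TailsDenseBound
import Cfsg.Agent.Lib.Schur.TailsSLP
import Cfsg.Agent.Lib.Sporadic.OutCert.OrbitBound

/-!
# Orders of subgroups from orbits, and the bound at one prime from a packed certificate
-/

set_option autoImplicit false

namespace CfsgLib.Schur.Tails

open CfsgLib.Sporadic.OutCert

variable (w N : ℕ) (kk : List ℕ)

/-- The elements of the levels are products of the given words in the letters from `lo` to `hi`, and the
orbits multiply to at least `n`. -/
noncomputable def chainK (lv : List Level) (lw : List (List (List ℕ))) (lo hi n : ℕ) : Bool :=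
  (lv.map (fun L => L.gens) == lw.map fun ws => ws.map (prodK w N kk)) &&
    ((lw.all fun ws => ws.all fun l => Cert.lettersIn l lo hi) &&
      (levelsK w N lv && decide (n ≤ (lv.map fun L => L.orb.length + 1).prod)))

/-- The products of a table in a range of places. -/
noncomputable def slpPartK (nb : ℕ) (tab : List ℕ) (ws : List (List ℕ)) (lo cnt : ℕ) : Bool :=
  (List.range cnt).all fun i => Cert.lettersIn (ws.getD (lo + i) []) 0 (nb + (lo + i)) &&
    tab.getD (nb + (lo + i)) (oneK w N) == prodK w N tab (ws.getD (lo + i) [])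

variable {w N kk}

theorem slpK_of_parts {nb C K : ℕ} {tab : List ℕ} {ws : List (List ℕ)} (hlen : tab.length = nb + ws.length)
    (hK : ws.length ≤ K * C) (h : ∀ k < K, slpPartK w N nb tab ws (k * C) C = true) :
    slpK w N nb tab ws = true := by
  simp only [slpK, Bool.and_eq_true, decide_eq_true_eq, List.all_eq_true, List.mem_range]
  refine ⟨hlen, fun i hi => ?_⟩
  have hC : 0 < C := by
    rcases Nat.eq_zero_or_pos C with rfl | hC
    · simp at hK; simp [hK] at hi
    · exact hC
  have := List.all_eq_true.1 (h (i / C) ((Nat.div_lt_iff_lt_mul hC).2 (lt_of_lt_of_le hi hK))) (i % C)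
    (List.mem_range.2 (Nat.mod_lt _ hC))
  rwa [Nat.mul_comm, Nat.div_add_mod, Bool.and_eq_true] at this
variable {Q : Type*} [Group Q] (ψ : Q →* Equiv.Perm (Fin N)) (hw : N ≤ 2 ^ w)
  {y : ℕ → Q} (hy : ∀ i, Rep w N (kk.getD i (oneK w N)) (ψ (y i)))

include hw hy in
theorem card_tailGen_ge_of_chain [Finite Q] (hψ : Function.Injective ψ) {lv : List Level}
    {lw : List (List (List ℕ))} {lo hi n : ℕ} (h : chainK w N kk lv lw lo hi n = true) :
    n ≤ Nat.card (tailGen y hi lo) := by
  simp only [chainK, Bool.and_eq_true, decide_eq_true_eq, beq_iff_eq, List.all_eq_true, lettersIn_iff] at h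
  obtain ⟨hmap, hlet, hlv, hn⟩ := h
  rw [Nat.card_congr ((tailGen y hi lo).equivMapOfInjective ψ hψ).toEquiv]
  refine hn.trans (card_ge_levels lv _ hlv fun L hL g hg => ?_)
  have hmem : L.gens ∈ lw.map fun ws => ws.map (prodK w N kk) := hmap ▸ List.mem_map.2 ⟨L, hL, rfl⟩
  obtain ⟨ws, hws, he⟩ := List.mem_map.1 hmem
  rw [← he] at hg
  obtain ⟨l, hl, rfl⟩ := List.mem_map.1 hg
  exact ⟨_, ⟨valW y l, valW_mem_tailGen (hlet ws hws l hl), rfl⟩, rep_prodK ψ hw hy l⟩

include hw in
/-- The bound at one prime from a packed certificate for a group given inside the permutations. -/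
theorem factorization_of_perm_dense [Finite Q] (hψ : Function.Injective ψ) (D : Cert) (E : Dense)
    {kk gk : List ℕ} {lv lvin : List Level} {lw lwin : List (List (List ℕ))}
    (hkk : ∀ i, ∃ q, Rep w N (kk.getD i (oneK w N)) (ψ q))
    (hgk : ∀ i, ∃ q, Rep w N (gk.getD i (oneK w N)) (ψ q))
    (he : Dense.eqsOK D E = true) (hc : Dense.combOK D E = true) (hs : D.shapeOK = true)
    (hr : relK w N kk D = true) (hf : fusK w N kk gk D = true) {p : ℕ} [Fact p.Prime] (hDp : D.p = p)
    {r r' : ℕ} (hDr : D.r = r) (hDa : D.r - D.a = r')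
    (ha : chainK w N kk lv lw 0 D.r (p ^ r) = true) (hi : chainK w N kk lvin lwin D.a D.r (p ^ r') = true)
    {n c₀ : ℕ} (hcard : Nat.card Q = n) (hQ : ¬ p ^ (r + 1) ∣ n) (hm : ¬ p ∣ c₀) (hqc : n ∣ E.q * c₀)
    (Γ : Type*) [Group Γ] [Finite Γ] (σ : Γ →* Q) (hσ : Cfsg.IsStemExtension σ) :
    (Nat.card σ.ker).factorization p ≤ E.b.factorization p := by
  choose y hy using hkk
  choose g hg using hgk
  subst hDr hDa
  exact factorization_card_ker_le_dense D E he hc hm hs hDp y (rel_of_check ψ hψ hw hy hr) g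
    (fus_of_check ψ hψ hw hy hg hf) (card_tailGen_ge_of_chain ψ hw hy hψ ha)
    (card_tailGen_ge_of_chain ψ hw hy hψ hi) (hcard ▸ hQ) (hcard ▸ hqc) Γ σ hσ

end CfsgLib.Schur.Tails
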