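import Mathlib

/-! # A quotient of a finite abelian group embeds into it -/

namespace CfsgLib.Schur.Dual

universe u v

/-- A finite abelian quotient of a finite abelian group is isomorphic to a subgroup. -/
theorem exists_injective_of_surjective {B : Type u} {D : Type v} [CommGroup B] [Finite B]
    [CommGroup D] (p : B →* D) (hp : Function.Surjective p) :
    ∃ i : D →* B, Function.Injective i := by
  haveI : Finite D := Finite.of_surjective p hp
  obtain ⟨eD⟩ := CommGroup.monoidHom_mulEquiv_of_hasEnoughRootsOfUnity D ℂ
  obtain ⟨eB⟩ := CommGroup.monoidHom_mulEquiv_of_hasEnoughRootsOfUnity B ℂ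
  let c : (D →* ℂˣ) →* (B →* ℂˣ) :=
    { toFun := fun f => f.comp p, map_one' := rfl, map_mul' := fun _ _ => rfl }
  have hc : Function.Injective c := fun f g h => MonoidHom.ext fun d => by
    obtain ⟨b, rfl⟩ := hp d
    exact congrArg (fun k : B →* ℂˣ => k b) h
  exact ⟨eB.toMonoidHom.comp (c.comp eD.symm.toMonoidHom),
    eB.injective.comp (hc.comp eD.symm.injective)⟩

end CfsgLib.Schur.Dual
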