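import Cfsg.Agent.Lib.Schur.TailsBound

/-!
# Certificates with packed equations

The linear algebra of a certificate carried out modulo a number `q`, with the vectors of coefficients packed into
natural numbers in base `2 ^ 64`.
-/

set_option autoImplicit false

namespace CfsgLib.Schur.Tails

/-- The base for packing. -/
def dB : ℕ := 18446744073709551616

/-- The digits below `N` of two numbers agree modulo `q`. -/
def digEq (q : ℕ) : ℕ → ℕ → ℕ → Bool
  | 0, _, _ => true
  | N + 1, x, y => Nat.beq (x % dB % q) (y % dB % q) && digEq q N (x / dB) (y / dB)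

/-- The digits below `N` are below `q`. -/
def digLow (q : ℕ) : ℕ → ℕ → Bool
  | 0, _ => true
  | N + 1, x => Nat.blt (x % dB) q && digLow q N (x / dB)

/-- A linear combination of numbers. -/
def linN : List ℕ → List ℕ → ℕ
  | c :: cs, n :: ns => c * n + linN cs ns
  | _, _ => 0

/-- A form with residues as coefficients, packed. -/
def packF (q : ℕ) : Form → ℕ
  | [] => 0
  | e :: l => (e.1 % (q : ℤ)).toNat * dB ^ e.2 + packF q l

/-- A form is small enough for packing. -/
def formFits (q N : ℕ) (l : Form) : Bool :=
  Nat.ble (l.length * q * 2) dB && l.all fun e => Nat.blt e.2 N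

section Eval

variable {A : Type*} [AddCommGroup A]

/-- The value of a packed vector. -/
def evN : (ℕ → A) → ℕ → ℕ → A
  | _, 0, _ => 0
  | t, N + 1, n => (n % dB) • t 0 + evN (fun i => t (i + 1)) N (n / dB)

theorem evN_zero : ∀ (N : ℕ) (t : ℕ → A), evN t N 0 = 0
  | 0, _ => rfl
  | N + 1, t => by simp [evN, evN_zero N]

theorem evN_congr (q : ℕ) : ∀ (N : ℕ) (t : ℕ → A) (x y : ℕ), (∀ i, q • t i = 0) → digEq q N x y = true →
    evN t N x = evN t N y
  | 0, _, _, _, _, _ => rfl
  | N + 1, t, x, y, hq, h => by
    simp only [digEq, Bool.and_eq_true, Nat.beq_eq] at h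
    have key : ∀ a : ℕ, a • t 0 = (a % q) • t 0 := fun a => by
      conv_lhs => rw [← Nat.div_add_mod a q, add_smul, mul_comm, mul_smul, hq, smul_zero, zero_add]
    simp only [evN]
    rw [key (x % dB), key (y % dB), h.1, evN_congr q N _ _ _ (fun i => hq (i + 1)) h.2]

/-- The value of a combination of vectors with low digits. -/
theorem evN_combination (q : ℕ) : ∀ (N : ℕ) (t : ℕ → A) (L : List (ℕ × ℕ)),
    (∀ e ∈ L, digLow q N e.2 = true) → (L.map Prod.fst).sum * q ≤ dB →
    evN t N (L.map fun e => e.1 * e.2).sum = (L.map fun e => e.1 • evN t N e.2).sum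
  | 0, t, L, _, _ => by simp [evN]
  | N + 1, t, L, hlow, hsum => by
    have hpos : 0 < dB := by simp [dB]
    simp only [digLow, Bool.and_eq_true, Nat.blt_eq] at hlow
    have split : ∀ M : List (ℕ × ℕ), (M.map fun e => e.1 * e.2).sum =
        (M.map fun e => e.1 * (e.2 % dB)).sum + dB * (M.map fun e => e.1 * (e.2 / dB)).sum := by
      intro M
      induction M with
      | nil => simp
      | cons e M ih =>
        simp only [List.map_cons, List.sum_cons, ih]
        conv_lhs => rw [← Nat.mod_add_div e.2 dB]
        ring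
    have bound : ∀ M : List (ℕ × ℕ), (∀ e ∈ M, e.2 % dB < q) →
        (M.map fun e => e.1 * (e.2 % dB)).sum ≤ (M.map Prod.fst).sum * (q - 1) := by
      intro M hM
      induction M with
      | nil => simp
      | cons e M ih =>
        simp only [List.map_cons, List.sum_cons, add_mul]
        exact Nat.add_le_add (Nat.mul_le_mul le_rfl (Nat.le_sub_one_of_lt (hM e List.mem_cons_self)))
          (ih fun f hf => hM f (List.mem_cons_of_mem _ hf))
    have hlt : (L.map fun e => e.1 * (e.2 % dB)).sum < dB := by
      have hb := bound L fun e he => (hlow e he).1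
      rcases Nat.eq_zero_or_pos (L.map Prod.fst).sum with h0 | h0
      · rw [h0, Nat.zero_mul] at hb; omega
      rcases Nat.eq_zero_or_pos q with hq0 | hq0
      · subst hq0; simp at hb; omega
      · have : (L.map Prod.fst).sum * (q - 1) < (L.map Prod.fst).sum * q :=
          Nat.mul_lt_mul_of_pos_left (by omega) h0
        omega
    have ihL := evN_combination q N (fun i => t (i + 1)) (L.map fun e => (e.1, e.2 / dB))
      (by
        intro e he
        obtain ⟨f, hf, rfl⟩ := List.mem_map.1 he
        exact (hlow f hf).2)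
      (by simpa [List.map_map, Function.comp_def] using hsum)
    simp only [List.map_map, Function.comp_def] at ihL
    simp only [evN]
    rw [split L, Nat.add_mul_mod_self_left, Nat.mod_eq_of_lt hlt, Nat.add_mul_div_left _ _ hpos,
      Nat.div_eq_of_lt hlt, Nat.zero_add, ihL]
    clear hlt ihL hsum hlow bound split
    induction L with
    | nil => simp
    | cons e L ih =>
      simp only [List.map_cons, List.sum_cons]
      rw [← ih, add_smul, mul_smul, smul_add]
      abel

theorem evN_pow : ∀ (N i : ℕ) (t : ℕ → A), i < N → evN t N (dB ^ i) = t i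
  | 0, i, _, h => absurd h (Nat.not_lt_zero i)
  | N + 1, 0, t, _ => by
    have h1 : 1 % dB = 1 := Nat.mod_eq_of_lt (by simp [dB])
    have h2 : 1 / dB = 0 := Nat.div_eq_of_lt (by simp [dB])
    simp [evN, h1, h2, evN_zero]
  | N + 1, i + 1, t, h => by
    simp [evN, pow_succ, Nat.mul_mod_left, Nat.mul_div_cancel _ (show 0 < dB by simp [dB]),
      evN_pow N i (fun j => t (j + 1)) (Nat.lt_of_succ_lt_succ h)]

theorem digLow_zero (q : ℕ) (hq : 0 < q) : ∀ N, digLow q N 0 = true
  | 0 => rfl
  | N + 1 => by simp [digLow, digLow_zero q hq N, hq]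

theorem digLow_pow (q : ℕ) (hq : 1 < q) : ∀ N i, digLow q N (dB ^ i) = true
  | 0, _ => rfl
  | N + 1, 0 => by
    have h1 : 1 % dB = 1 := Nat.mod_eq_of_lt (by simp [dB])
    have h2 : 1 / dB = 0 := Nat.div_eq_of_lt (by simp [dB])
    simp [digLow, h1, h2, hq, digLow_zero q (by omega) N]
  | N + 1, i + 1 => by
    simp [digLow, pow_succ, Nat.mul_mod_left, Nat.mul_div_cancel _ (show 0 < dB by simp [dB]),
      digLow_pow q hq N i, show 0 < q by omega]

theorem evN_packF {q N : ℕ} (hq : 1 < q) (t : ℕ → A) (ht : ∀ i, q • t i = 0) {l : Form}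
    (h : formFits q N l = true) : evN t N (packF q l) = evF t l := by
  simp only [formFits, Bool.and_eq_true, Nat.ble_eq, List.all_eq_true, Nat.blt_eq] at h
  set L : List (ℕ × ℕ) := l.map fun e => ((e.1 % (q : ℤ)).toNat, dB ^ e.2) with hL
  have h1 : packF q l = (L.map fun e => e.1 * e.2).sum := by
    rw [hL]; clear h hL L
    induction l with
    | nil => rfl
    | cons e l ih => simp [packF, ih]
  have low : ∀ e ∈ L, digLow 2 N e.2 = true := by
    intro e he
    obtain ⟨f, -, rfl⟩ := List.mem_map.1 he
    exact digLow_pow 2 (by omega) N f.2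
  have hsum2 : (L.map Prod.fst).sum * 2 ≤ dB := by
    refine le_trans (Nat.mul_le_mul ?_ le_rfl) h.1
    rw [hL]; clear h h1 hL L low
    induction l with
    | nil => simp
    | cons e l ih =>
      simp only [List.map_cons, List.sum_cons, List.length_cons, add_mul, one_mul]
      have : (e.1 % (q : ℤ)).toNat ≤ q := by
        have := Int.emod_lt_of_pos e.1 (show (0 : ℤ) < q by omega)
        omega
      omega
  rw [h1, evN_combination 2 N t L low hsum2, hL]
  replace h := h.2
  clear h1 low hsum2 hL L
  induction l with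
  | nil => simp
  | cons e l ih =>
    rw [List.map_cons, List.map_cons, List.sum_cons, ih fun f hf => h f (List.mem_cons_of_mem _ hf),
      evN_pow N e.2 t (h e List.mem_cons_self), evF_cons]
    congr 1
    rw [← natCast_zsmul, Int.toNat_of_nonneg (Int.emod_nonneg _ (by omega))]
    conv_rhs => rw [← Int.emod_add_mul_ediv e.1 q, add_smul, mul_comm, mul_smul, natCast_zsmul, ht, smul_zero,
      add_zero]

theorem linN_eq : ∀ cs ns : List ℕ, linN cs ns = ((cs.zip ns).map fun e => e.1 * e.2).sum
  | [], _ => by simp [linN]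
  | _ :: _, [] => by simp [linN]
  | c :: cs, n :: ns => by simp [linN, linN_eq cs ns]

theorem evN_linN_eq_zero {q N : ℕ} (t : ℕ → A) {cs ns : List ℕ} (hlow : ∀ n ∈ ns, digLow q N n = true)
    (hns : ∀ n ∈ ns, evN t N n = 0) (hsum : cs.sum * q ≤ dB) : evN t N (linN cs ns) = 0 := by
  rw [linN_eq, evN_combination q N t _ (fun e he => hlow _ (List.of_mem_zip he).2) (le_trans ?_ hsum)]
  · refine List.sum_eq_zero fun a ha => ?_
    obtain ⟨e, he, rfl⟩ := List.mem_map.1 ha
    rw [hns _ (List.of_mem_zip he).2, smul_zero]
  · refine Nat.mul_le_mul ?_ le_rfl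
    clear hlow hns hsum
    induction cs generalizing ns with
    | nil => simp
    | cons c cs ih => cases ns <;> simp [ih]

end Eval

/-- Packed equations modulo `q` and combinations of them. -/
structure Dense where
  /-- The modulus. -/
  q : ℕ
  /-- The equations. -/
  pe : List ℕ
  /-- The possibly surviving class. -/
  gen : ℕ
  /-- Its order. -/
  b : ℕ
  /-- The combination killing the surviving class. -/
  genC : List ℕ
  /-- The inner rules with their combinations. -/
  targets : List (ℕ × ℕ × List ℕ)

namespace Dense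

variable (D : Cert) (E : Dense)

/-- A computed equation is the packed one. -/
def eqOK (q : ℕ) : Option Form → ℕ → Bool
  | some f, n => formFits q D.nv f && digEq q D.nv (packF q f) n && digLow q D.nv n
  | none, _ => false

/-- All packed equations are right. -/
def eqsOK : Bool := decide (D.allEqs.length = E.pe.length) &&
  (D.allEqs.zip E.pe).all fun e => eqOK D E.q e.1 e.2

/-- A target holds. -/
def targetOK (tg : ℕ × ℕ × List ℕ) : Bool :=
  formFits E.q D.nv (D.newTail tg.1) &&
    (Nat.ble ((tg.2.1 + tg.2.2.sum) * E.q) dB &&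
      digEq E.q D.nv (packF E.q (D.newTail tg.1)) (linN (tg.2.1 :: tg.2.2) (E.gen :: E.pe)))

/-- The combinations are right. -/
def combOK : Bool :=
  decide (1 < E.q) && (E.targets.map Prod.fst == D.targets.map Prod.fst) &&
    (digLow E.q D.nv E.gen && (decide (0 < E.b) && (Nat.ble (E.b * E.q) dB &&
      (Nat.ble (E.genC.sum * E.q) dB && (digEq E.q D.nv (linN [E.b] [E.gen]) (linN E.genC E.pe) &&
        E.targets.all (targetOK D E))))))

end Dense

end CfsgLib.Schur.Tails
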