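import Cfsg.Agent.Lib.Schur.Basic

/-!
# The fibre product of two stem extensions with kernels of coprime order
-/

set_option autoImplicit false

namespace CfsgLib.Schur.StemFiber

universe u v w

open Subgroup

variable {Q : Type u} [Group Q] {X : Type v} [Group X] {Y : Type w} [Group Y] (σ : X →* Q) (τ : Y →* Q)

/-- The fibre product. -/
def fib : Subgroup (X × Y) where
  carrier := {p | σ p.1 = τ p.2}
  one_mem' := by simp
  mul_mem' {a b} (ha : σ a.1 = τ a.2) (hb : σ b.1 = τ b.2) := by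
    show σ (a.1 * b.1) = τ (a.2 * b.2)
    rw [map_mul, map_mul, ha, hb]
  inv_mem' {a} (ha : σ a.1 = τ a.2) := by
    show σ a.1⁻¹ = τ a.2⁻¹
    rw [map_inv, map_inv, ha]

/-- Its map to the common quotient. -/
def proj : fib σ τ →* Q := σ.comp ((MonoidHom.fst X Y).comp (fib σ τ).subtype)

variable {σ τ}

theorem mem_ker {z : fib σ τ} : z ∈ (proj σ τ).ker ↔ z.1.1 ∈ σ.ker ∧ z.1.2 ∈ τ.ker := by
  have h : σ z.1.1 = τ z.1.2 := z.2
  simp only [MonoidHom.mem_ker]
  exact ⟨fun e => ⟨e, h.symm.trans e⟩, fun e => e.1⟩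

/-- The kernel is the product of the kernels. -/
def kerEquiv : (proj σ τ).ker ≃* σ.ker × τ.ker where
  toFun z := (⟨z.1.1.1, (mem_ker.1 z.2).1⟩, ⟨z.1.1.2, (mem_ker.1 z.2).2⟩)
  invFun p := ⟨⟨(p.1.1, p.2.1),
    (show σ p.1.1 = τ p.2.1 from (MonoidHom.mem_ker.1 p.1.2).trans (MonoidHom.mem_ker.1 p.2.2).symm)⟩,
    mem_ker.2 ⟨p.1.2, p.2.2⟩⟩
  left_inv _ := rfl
  right_inv _ := rfl
  map_mul' _ _ := rfl

theorem isCyclic_ker [IsCyclic σ.ker] [IsCyclic τ.ker] [Finite σ.ker] [Finite τ.ker]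
    (hc : Nat.Coprime (Nat.card σ.ker) (Nat.card τ.ker)) : IsCyclic (proj σ τ).ker := by
  haveI : IsCyclic (σ.ker × τ.ker) := Group.isCyclic_prod_iff.2 ⟨inferInstance, inferInstance, hc⟩
  exact isCyclic_of_surjective (kerEquiv (σ := σ) (τ := τ)).symm.toMonoidHom
    (kerEquiv (σ := σ) (τ := τ)).symm.surjective

theorem isStem (hσ : Cfsg.IsStemExtension σ) (hτ : Cfsg.IsStemExtension τ) [Finite X] [Finite Y]
    (hc : Nat.Coprime (Nat.card σ.ker) (Nat.card τ.ker)) : Cfsg.IsStemExtension (proj σ τ) := by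
  obtain ⟨hs, hk, hd⟩ := hσ
  obtain ⟨ts, tk, td⟩ := hτ
  have hfs : Function.Surjective ((MonoidHom.fst X Y).comp (fib σ τ).subtype) := fun x => by
    obtain ⟨y, hy⟩ := ts (σ x)
    exact ⟨⟨(x, y), hy.symm⟩, rfl⟩
  have hss : Function.Surjective ((MonoidHom.snd X Y).comp (fib σ τ).subtype) := fun y => by
    obtain ⟨x, hx⟩ := hs (τ y)
    exact ⟨⟨(x, y), hx⟩, rfl⟩
  refine ⟨hs.comp hfs, fun z hz => mem_center_iff.2 fun g => ?_, fun z hz => ?_⟩
  · obtain ⟨h1, h2⟩ := mem_ker.1 hz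
    exact Subtype.ext (Prod.ext (mem_center_iff.1 (hk h1) g.1.1) (mem_center_iff.1 (tk h2) g.1.2))
  · let K : Subgroup (σ.ker × τ.ker) :=
      ((commutator ↥(fib σ τ)).subgroupOf (proj σ τ).ker).map
        (kerEquiv (σ := σ) (τ := τ)).toMonoidHom
    have h1 : (K.map (MonoidHom.fst σ.ker τ.ker)) = ⊤ := by
      refine eq_top_iff.2 fun a _ => ?_
      have ha : a.1 ∈ (commutator ↥(fib σ τ)).map ((MonoidHom.fst X Y).comp (fib σ τ).subtype) := by
        rw [commutator_def, map_commutator, map_top_of_surjective _ hfs, ← commutator_def]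
        exact hd a.2
      obtain ⟨c, hcm, e⟩ := mem_map.1 ha
      have hck : c ∈ (proj σ τ).ker := by
        show σ c.1.1 = 1
        rw [show c.1.1 = a.1 from e]
        exact a.2
      exact ⟨_, ⟨⟨c, hck⟩, hcm, rfl⟩, Subtype.ext e⟩
    have h2 : (K.map (MonoidHom.snd σ.ker τ.ker)) = ⊤ := by
      refine eq_top_iff.2 fun a _ => ?_
      have ha : a.1 ∈ (commutator ↥(fib σ τ)).map ((MonoidHom.snd X Y).comp (fib σ τ).subtype) := by
        rw [commutator_def, map_commutator, map_top_of_surjective _ hss, ← commutator_def]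
        exact td a.2
      obtain ⟨c, hcm, e⟩ := mem_map.1 ha
      have hck : c ∈ (proj σ τ).ker := by
        show σ c.1.1 = 1
        rw [show σ c.1.1 = τ c.1.2 from c.2, show c.1.2 = a.1 from e]
        exact a.2
      exact ⟨_, ⟨⟨c, hck⟩, hcm, rfl⟩, Subtype.ext e⟩
    have d1 : Nat.card σ.ker ∣ Nat.card K := by
      have h := card_map_dvd K (MonoidHom.fst σ.ker τ.ker)
      rwa [h1, card_top] at h
    have d2 : Nat.card τ.ker ∣ Nat.card K := by
      have h := card_map_dvd K (MonoidHom.snd σ.ker τ.ker)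
      rwa [h2, card_top] at h
    have hK : K = ⊤ := eq_top_of_card_eq _ (le_antisymm (card_le_card_group _) (by
      rw [Nat.card_prod]
      exact Nat.le_of_dvd Nat.card_pos (hc.mul_dvd_of_dvd_of_dvd d1 d2)))
    have hmem : kerEquiv (σ := σ) (τ := τ) ⟨z, hz⟩ ∈ K := hK ▸ mem_top _
    obtain ⟨c, hc', e⟩ := mem_map.1 hmem
    have : c = ⟨z, hz⟩ := (kerEquiv (σ := σ) (τ := τ)).injective e
    subst this
    exact hc'

end CfsgLib.Schur.StemFiber
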