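import Cfsg.Agent.Lib.Schur.TailsBound
import Cfsg.Agent.Lib.Sporadic.OutCert.Perm

/-!
# Checking the hypotheses of a certificate on permutations given by numbers
-/

set_option autoImplicit false

namespace CfsgLib.Schur.Tails

open CfsgLib.Sporadic.OutCert Subgroup

variable (w N : ℕ) (kk : List ℕ)

/-- The number of a word in listed permutations. -/
noncomputable def prodK (l : List ℕ) : ℕ :=
  l.foldr (fun i acc => compK w N (kk.getD i (oneK w N)) acc) (oneK w N)

/-- The rules hold. -/
noncomputable def relK (D : Cert) : Bool := D.rules.all fun R => prodK w N kk R.1 == prodK w N kk R.2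

/-- The fusions hold. -/
noncomputable def fusK (gk : List ℕ) (D : Cert) : Bool :=
  (List.range D.fus.length).all fun j =>
    let F := D.fus.getD j ⟨[], [], []⟩
    (List.range F.us.length).all fun s =>
      compK w N (gk.getD j (oneK w N)) (prodK w N kk (F.us.getD s [])) ==
        compK w N (prodK w N kk (F.vs.getD s [])) (gk.getD j (oneK w N))

/-- The images of some points under a word. -/
noncomputable def keyK (pts : List ℕ) (l : List ℕ) : ℕ :=
  pk w (pts.map fun x => appK w (l.map fun i => kk.getD i (oneK w N)) x)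

/-- Words with distinct values in the letters from `lo` on. -/
noncomputable def wordsOK (pts : List ℕ) (ws : List (List ℕ)) (lo hi : ℕ) : Bool :=
  decide (List.IsChain (· < ·) (ws.map (keyK w N kk pts))) && (pts.all fun x => decide (x < N)) &&
    ws.all fun l => Cert.lettersIn l lo hi

variable {w N kk}
variable {Q : Type*} [Group Q] (ψ : Q →* Equiv.Perm (Fin N)) (hψ : Function.Injective ψ) (hw : N ≤ 2 ^ w)
  {y : ℕ → Q} (hy : ∀ i, Rep w N (kk.getD i (oneK w N)) (ψ (y i)))

include hw hy in
theorem rep_prodK (l : List ℕ) : Rep w N (prodK w N kk l) (ψ (valW y l)) := by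
  induction l with
  | nil => simpa [prodK] using rep_one (w := w) hw
  | cons i l ih =>
    show Rep w N (compK w N (kk.getD i (oneK w N)) (prodK w N kk l)) _
    rw [valW_cons, map_mul]
    exact rep_comp hw (hy i) ih

include hψ hw hy in
theorem rel_of_check {D : Cert} (h : relK w N kk D = true) : ∀ R ∈ D.rules, valW y R.1 = valW y R.2 := by
  intro R hR
  have := beq_iff_eq.1 (List.all_eq_true.1 h R hR)
  refine hψ ((rep_prodK ψ hw hy R.1).inj ?_)
  rw [this]
  exact rep_prodK ψ hw hy R.2

include hψ hw hy in
theorem fus_of_check {D : Cert} {gk : List ℕ} {g : ℕ → Q}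
    (hg : ∀ j, Rep w N (gk.getD j (oneK w N)) (ψ (g j))) (h : fusK w N kk gk D = true) :
    ∀ j < D.fus.length, ∀ s < (D.fus.getD j ⟨[], [], []⟩).us.length,
      g j * valW y ((D.fus.getD j ⟨[], [], []⟩).us.getD s []) =
        valW y ((D.fus.getD j ⟨[], [], []⟩).vs.getD s []) * g j := by
  intro j hj s hs
  simp only [fusK, List.all_eq_true, List.mem_range, beq_iff_eq] at h
  have e := h j hj s hs
  refine hψ ?_
  rw [map_mul, map_mul]
  refine (rep_comp hw (hg j) (rep_prodK ψ hw hy _)).inj ?_
  rw [e]
  exact rep_comp hw (rep_prodK ψ hw hy _) (hg j)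

include hy in
theorem card_tailGen_ge [Finite Q] {pts : List ℕ} {ws : List (List ℕ)} {lo hi : ℕ}
    (h : wordsOK w N kk pts ws lo hi = true) : ws.length ≤ Nat.card (tailGen y hi lo) := by
  simp only [wordsOK, Bool.and_eq_true, decide_eq_true_eq, List.all_eq_true, lettersIn_iff] at h
  obtain ⟨⟨hchain, hpts⟩, hl⟩ := h
  let f : Fin ws.length → tailGen y hi lo := fun i =>
    ⟨valW y ws[i], valW_mem_tailGen (hl _ (List.getElem_mem i.2))⟩
  let key : Q → ℕ := fun q => pk w (pts.map fun x => if hx : x < N then (ψ q ⟨x, hx⟩ : ℕ) else 0)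
  have hkey : ∀ l : List ℕ, key (valW y l) = keyK w N kk pts l := by
    intro l
    have hrep : List.Forall₂ (Rep w N) (l.map fun i => kk.getD i (oneK w N)) (l.map fun i => ψ (y i)) := by
      induction l with
      | nil => exact List.Forall₂.nil
      | cons a l ih => exact List.Forall₂.cons (hy a) ih
    refine congrArg (pk w) (List.map_congr_left fun x hx => ?_)
    rw [dif_pos (hpts x hx), app_eq hrep ⟨x, hpts x hx⟩, map_valW]
    rfl
  have hnd : (ws.map (keyK w N kk pts)).Nodup :=
    ((List.isChain_iff_pairwise).1 hchain).imp fun h => ne_of_lt h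
  have hinj : Function.Injective f := by
    intro i j e
    have h1 : keyK w N kk pts ws[i] = keyK w N kk pts ws[j] := by
      rw [← hkey, ← hkey]; exact congrArg (fun q : tailGen y hi lo => key q) e
    have h2 := (List.Nodup.getElem_inj_iff hnd (hi := by simpa using i.2) (hj := by simpa using j.2)).1
      (show (ws.map (keyK w N kk pts))[(i : ℕ)] = (ws.map (keyK w N kk pts))[(j : ℕ)] by
        rw [List.getElem_map, List.getElem_map]; exact h1)
    exact Fin.ext h2
  simpa using Nat.card_le_card_of_injective f hinj

end CfsgLib.Schur.Tails
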