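import Cfsg.Agent.Lib.Char.AltCover.Main
import Cfsg.Agent.Lib.Schur.Basic

/-!
# Lifting groups of even permutations to the double cover of the alternating group

A product of `k` disjoint transpositions, `k ≡ 2 mod 4`, lifts to elements whose square is `-1`.
-/

set_option autoImplicit false

namespace CfsgLib.Schur.SpinLift

open CliffordAlgebra CfsgLib.AltCover Equiv

variable {n : ℕ}

/-- The product of the transpositions. -/
def swapProd (L : List (Fin n × Fin n)) : Equiv.Perm (Fin n) := (L.map fun s => Equiv.swap s.1 s.2).prod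

/-- The product of the unit vectors. -/
noncomputable def vecProd (L : List (Fin n × Fin n)) : Alg n := (L.map fun s => rootVec s.1 s.2).prod

theorem rootVec_anticomm {i j k l : Fin n} (hik : i ≠ k) (hil : i ≠ l) (hjk : j ≠ k) (hjl : j ≠ l) :
    rootVec i j * rootVec k l = -(rootVec k l * rootVec i j) := by
  refine eq_neg_of_add_eq_zero_left ?_
  show ι (sq n) _ * ι (sq n) _ + ι (sq n) _ * ι (sq n) _ = 0
  rw [ι_mul_ι_add_swap, polar_sq, Finset.sum_eq_zero fun m _ => ?_, mul_zero, map_zero]
  rcases eq_or_ne m i with rfl | hmi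
  · simp [hik, hil]
  rcases eq_or_ne m j with rfl | hmj
  · simp [hjk, hjl]
  · simp [hmi, hmj]

theorem vecProd_spec : ∀ L : List (Fin n × Fin n), (L.flatMap fun s => [s.1, s.2]).Nodup →
    vecProd L ∈ evenOdd (sq n) (L.length : ZMod 2) ∧ vecProd L * reverse (vecProd L) = 1 ∧
    (∀ l, vecProd L * e l = ((-1 : ℤ) ^ L.length) • (e (swapProd L l) * vecProd L)) ∧
    Equiv.Perm.sign (swapProd L) = (-1) ^ L.length ∧
    vecProd L * vecProd L = ((-1 : ℤ) ^ L.length.choose 2) • 1 ∧
    ∀ i j : Fin n, (∀ s ∈ L, i ≠ s.1 ∧ i ≠ s.2 ∧ j ≠ s.1 ∧ j ≠ s.2) →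
      rootVec i j * vecProd L = ((-1 : ℤ) ^ L.length) • (vecProd L * rootVec i j)
  | [], _ => ⟨by simpa [vecProd] using SetLike.one_mem_graded (evenOdd (sq n)), by simp [vecProd],
      fun l => by simp [vecProd, swapProd], by simp [swapProd], by simp [vecProd],
      fun i j _ => by simp [vecProd]⟩
  | s :: L, hnd => by
    obtain ⟨i, j⟩ := s
    have hnd' : ((i, j).1 :: (i, j).2 :: L.flatMap fun s => [s.1, s.2]).Nodup := by simpa using hnd
    simp only [List.nodup_cons, List.mem_cons, List.mem_flatMap, List.not_mem_nil, or_false, not_or,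
      not_exists, not_and] at hnd'
    obtain ⟨⟨hij, hi⟩, hj, hL⟩ := hnd'
    obtain ⟨h1, h2, h3, h4, h5, h6⟩ := vecProd_spec L hL
    have hv : vecProd ((i, j) :: L) = rootVec i j * vecProd L := by simp [vecProd]
    have hs : swapProd ((i, j) :: L) = Equiv.swap i j * swapProd L := by simp [swapProd]
    have hcomm := h6 i j fun s hs' => ⟨(hi s hs').1, (hi s hs').2, (hj s hs').1, (hj s hs').2⟩
    refine ⟨?_, ?_, fun l => ?_, ?_, ?_, fun a b hab => ?_⟩
    · rw [hv]
      have := SetLike.mul_mem_graded (rootVec_odd i j) h1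
      rwa [List.length_cons, Nat.cast_succ, add_comm]
    · rw [hv, reverse.map_mul, reverse_rootVec, mul_assoc, ← mul_assoc (vecProd L), h2, one_mul,
        rootVec_sq hij]
    · rw [hv, mul_assoc, h3, mul_smul_comm, ← mul_assoc, rootVec_e hij, neg_mul, smul_neg, List.length_cons,
        pow_succ, mul_neg_one, neg_smul, hs, Equiv.Perm.mul_apply, mul_assoc]
    · rw [hs, map_mul, Equiv.Perm.sign_swap hij, h4, List.length_cons, pow_succ']
    · rw [hv, mul_assoc, ← mul_assoc (vecProd L), show vecProd L * rootVec i j =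
          ((-1 : ℤ) ^ L.length) • (rootVec i j * vecProd L) by
          rw [hcomm, smul_smul, ← pow_add, Even.neg_one_pow ⟨L.length, rfl⟩, one_smul],
        smul_mul_assoc, mul_smul_comm, mul_assoc, h5, mul_smul_comm, mul_smul_comm, mul_one, rootVec_sq hij,
        smul_smul, ← pow_add, List.length_cons, Nat.choose_succ_succ', Nat.choose_one_right]
    · obtain ⟨a1, a2, a3, a4⟩ := hab (i, j) List.mem_cons_self
      rw [hv, ← mul_assoc, rootVec_anticomm a1 a2 a3 a4, neg_mul, mul_assoc,
        h6 a b fun s hs' => hab s (List.mem_cons_of_mem _ hs'), mul_smul_comm, ← smul_neg, List.length_cons,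
        pow_succ, mul_neg_one, neg_smul, ← smul_neg, mul_assoc]

/-- A perfect group of even permutations with such an element has a stem extension with kernel of order two. -/
theorem exists_double_cover {H : Subgroup (Equiv.Perm (Fin n))} (hperf : Group.IsPerfect H)
    (heven : H ≤ Equiv.Perm.sign.ker) (L : List (Fin n × Fin n))
    (hnd : (L.flatMap fun s => [s.1, s.2]).Nodup) (h4 : L.length % 4 = 2) (hmem : swapProd L ∈ H) :
    ∃ (Γ : Type) (_ : Group Γ) (_ : Finite Γ) (σ : Γ →* H),
      Cfsg.IsStemExtension σ ∧ Nat.card σ.ker = 2 := by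
  classical
  let ιH : H →* alternatingGroup (Fin n) := Subgroup.inclusion (fun g hg => Equiv.Perm.mem_alternatingGroup.2 (heven hg))
  let Γ : Subgroup (cover n) := ιH.range.comap (proj n)
  let eH : H ≃* ιH.range := MonoidHom.ofInjective (Subgroup.inclusion_injective _)
  let σ : Γ →* H := eH.symm.toMonoidHom.comp (((proj n).comp Γ.subtype).codRestrict ιH.range fun x => x.2)
  have hσ : ∀ x : Γ, σ x = 1 ↔ proj n (x : cover n) = 1 := fun x => by
    show eH.symm _ = 1 ↔ _
    rw [map_eq_one_iff _ eH.symm.injective]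
    exact ⟨fun h => congrArg Subtype.val h, fun h => Subtype.ext h⟩
  have hsurj : Function.Surjective σ := by
    intro h
    obtain ⟨x, hx⟩ := proj_surjective (n := n) (ιH h)
    refine ⟨⟨x, h, hx.symm⟩, eH.injective ?_⟩
    show eH (eH.symm _) = eH h
    rw [MulEquiv.apply_symm_apply]
    exact Subtype.ext hx
  haveI : Finite (cover n) := finite_cover
  let m : Γ := ⟨minusOne n, by
    refine ⟨1, ?_⟩
    rw [map_one, MonoidHom.mem_ker.1 (ker_proj (n := n) ▸ Subgroup.mem_zpowers (minusOne n))]⟩
  have hm : orderOf m = 2 := by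
    rw [← orderOf_injective Γ.subtype Subtype.coe_injective]
    exact orderOf_minusOne
  have hker : σ.ker = Subgroup.zpowers m := by
    refine le_antisymm (fun x hx => ?_) (Subgroup.zpowers_le.2 ?_)
    · have h1 : (x : cover n) ∈ Subgroup.zpowers (minusOne n) := by
        rw [← ker_proj]; exact (hσ x).1 hx
      obtain ⟨k, hk⟩ := h1
      exact ⟨k, Subtype.ext (by simpa [m] using hk)⟩
    · exact (hσ m).2 (MonoidHom.mem_ker.1 (ker_proj (n := n) ▸ Subgroup.mem_zpowers (minusOne n)))
  have hcard : Nat.card σ.ker = 2 := by rw [hker, Nat.card_zpowers, hm]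
  have hcen : σ.ker ≤ Subgroup.center Γ := by
    rw [hker, Subgroup.zpowers_le, Subgroup.mem_center_iff]
    exact fun g => Subtype.ext (Subgroup.mem_center_iff.1 (minusOne_mem_center (n := n)) (g : cover n))
  have htwo : ∀ x ∈ σ.ker, x * x = 1 := fun x hx => by
    have := pow_card_eq_one' (x := (⟨x, hx⟩ : σ.ker))
    rw [hcard, pow_two] at this
    exact congrArg Subtype.val this
  -- the special lift
  obtain ⟨h1, h2, h3, -, h5, -⟩ := vecProd_spec L hnd
  have hpar : Even L.length := ⟨L.length / 2, by omega⟩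
  have hsign : Equiv.Perm.sign (swapProd L) = 1 := heven hmem
  have h2' : reverse (vecProd L) * vecProd L = 1 := by
    have hsq : vecProd L * (((-1 : ℤ) ^ L.length.choose 2) • vecProd L) = 1 := by
      rw [mul_smul_comm, h5, smul_smul, ← pow_add, Even.neg_one_pow ⟨_, rfl⟩, one_smul]
    have hrev : reverse (vecProd L) = ((-1 : ℤ) ^ L.length.choose 2) • vecProd L := by
      refine left_inv_eq_right_inv ?_ h2 |>.symm
      rw [smul_mul_assoc, h5, smul_smul, ← pow_add, Even.neg_one_pow ⟨_, rfl⟩, one_smul]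
    rw [hrev, smul_mul_assoc, h5, smul_smul, ← pow_add, Even.neg_one_pow ⟨_, rfl⟩, one_smul]
  let c : cover n := ⟨⟨vecProd L, reverse (vecProd L), h2, h2'⟩, by
      have h0 : (L.length : ZMod 2) = 0 := by
        obtain ⟨k, hk⟩ := hpar
        rw [hk, Nat.cast_add, CharTwo.add_self_eq_zero]
      rw [h0] at h1
      exact h1, h2, swapProd L, hsign, fun l => by
        show vecProd L * e l = e (swapProd L l) * vecProd L
        rw [h3, hpar.neg_one_pow, one_smul]⟩
  have hc : proj n c = ιH ⟨swapProd L, hmem⟩ :=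
    Subtype.ext (perm_unique (x := (c : (Alg n)ˣ)) (proj_spec c) fun l => by
      show vecProd L * e l = e (swapProd L l) * vecProd L
      rw [h3, hpar.neg_one_pow, one_smul])
  let C : Γ := ⟨c, ⟨_, hc.symm⟩⟩
  have hodd : Odd (L.length.choose 2) := by
    obtain ⟨k, hk⟩ : ∃ k, L.length = 4 * k + 2 := ⟨L.length / 4, by omega⟩
    rw [hk, Nat.choose_two_right]
    refine ⟨(2 * k + 1) * (2 * k) + k, ?_⟩
    rw [show (4 * k + 2) * (4 * k + 2 - 1) = 2 * ((2 * k + 1) * (4 * k + 1)) by
      rw [show 4 * k + 2 - 1 = 4 * k + 1 by omega]; ring, Nat.mul_div_cancel_left _ two_pos]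
    ring
  have hCm : C * C = m := Subtype.ext (Subtype.ext (Units.ext (by
    show vecProd L * vecProd L = -1
    rw [h5, hodd.neg_one_pow, neg_smul, one_smul])))
  refine ⟨Γ, inferInstance, inferInstance, σ, ⟨hsurj, hcen, ?_⟩, hcard⟩
  have htop : (commutator Γ).map σ = ⊤ := by
    rw [commutator_def, Subgroup.map_commutator, Subgroup.map_top_of_surjective σ hsurj, ← commutator_def]
    exact Group.IsPerfect.commutator_eq_top
  by_contra hnot
  obtain ⟨d, hd, hde⟩ : σ C ∈ (commutator Γ).map σ := htop ▸ Subgroup.mem_top _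
  have hz : d⁻¹ * C ∈ σ.ker := by rw [MonoidHom.mem_ker, map_mul, map_inv, hde, inv_mul_cancel]
  have hCC : C * C = d * d := by
    have e1 : C = d * (d⁻¹ * C) := by group
    have hcz := Subgroup.mem_center_iff.1 (hcen hz) d
    calc C * C = d * (d⁻¹ * C) * (d * (d⁻¹ * C)) := by rw [← e1]
      _ = d * ((d⁻¹ * C) * d) * (d⁻¹ * C) := by group
      _ = d * (d * (d⁻¹ * C)) * (d⁻¹ * C) := by rw [hcz]
      _ = d * d * ((d⁻¹ * C) * (d⁻¹ * C)) := by group
      _ = d * d := by rw [htwo _ hz, mul_one]
  refine hnot ?_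
  rw [hker, Subgroup.zpowers_le, ← hCm, hCC]
  exact mul_mem hd hd

end CfsgLib.Schur.SpinLift
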