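import Cfsg.Agent.Lib.Schur.SzEight.Induced

/-!
Induction of a central extension of a subgroup with kernel of prime order gives a stem extension of the
whole group as soon as two commuting elements lift to elements whose commutator has non-trivial product
of coordinates.
-/

set_option autoImplicit false
set_option linter.unusedSectionVars false

namespace CfsgLib.Schur.InducedComm

open Subgroup CfsgLib.Schur.SzEight.Induced
open scoped commutatorElement

universe u v w x

attribute [local instance] centreComm

variable {G : Type u} [Group G] {X : Type v} [Group X] {I : Type w} [MulAction G I] [Fintype I]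
  (π : X →* G) (r : I → G) (hc : π.ker ≤ center X) {A : Type x} [AddCommGroup A] (φ : X → A)
  (hφ : ∀ d ∈ π.ker, ∀ y, φ (d * y) = φ d + φ y)

include hφ in
/-- An additive function on the kernel turns the product of the coordinates into a sum. -/
theorem phi_val (x : (proj π r).ker) : φ (val π r hc x) = ∑ i, φ (x.1.1.left i) := by
  classical
  have h1 : φ 1 = 0 := by
    have h := hφ 1 π.ker.one_mem 1
    rw [one_mul] at h
    simpa using h
  have key : ∀ s : Finset I, φ ((∏ i ∈ s, crd π r hc x.1 x.2 i : center X) : X) =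
      ∑ i ∈ s, φ (x.1.1.left i) := by
    intro s
    induction s using Finset.induction_on with
    | empty => simpa using h1
    | insert a s ha ih =>
      rw [Finset.prod_insert ha, Finset.sum_insert ha, Subgroup.coe_mul]
      refine (hφ _ (left_mem_ker π r x.2 a) _).trans ?_
      rw [ih]
  exact key Finset.univ

variable {q : ℕ}

include hc hφ in
/-- The induced stem extension. -/
theorem exists_stem [Finite G] [Finite X]
    (hrange : ∀ g : G, ∀ i : I, (r (g • i))⁻¹ * g * r i ∈ π.range)
    (hq : q.Prime) (hk : Nat.card π.ker ∣ q)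
    (a b : sub π r) (hab : proj π r a * proj π r b = proj π r b * proj π r a)
    (hne : ∑ i, (φ ((a * b).1.left i) - φ ((b * a).1.left i)) ≠ 0) :
    ∃ (Γ : Type (max u v w)) (_ : Group Γ) (_ : Finite Γ) (σ : Γ →* G),
      Cfsg.IsStemExtension σ ∧ Nat.card σ.ker = q ∧ IsCyclic σ.ker := by
  classical
  haveI := Fact.mk hq
  haveI := triv_normal π r hc
  let c : sub π r := a * b * (b * a)⁻¹
  have hcr : proj π r c = 1 := by
    simp only [c, map_mul, map_inv, hab, mul_inv_cancel]
  have hleft : ∀ i, c.1.left i * (b * a).1.left i = (a * b).1.left i := fun i => by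
    have hr : c.1.right = 1 := hcr
    have h : (c * (b * a)).1.left i = (a * b).1.left i :=
      congrArg (fun z : sub π r => z.1.left i) (inv_mul_cancel_right (a * b) (b * a))
    rw [← h]
    show _ = (c.1 * (b * a).1).left i
    rw [SemidirectProduct.mul_left, Pi.mul_apply, act_apply, hr, inv_one, one_smul]
  have hval : φ (val π r hc ⟨c, hcr⟩) ≠ 0 := by
    rw [phi_val π r hc φ hφ]
    refine fun h => hne ?_
    rw [← h]
    refine Finset.sum_congr rfl fun i _ => ?_
    rw [← hleft i, hφ _ (left_mem_ker π r hcr i), add_sub_cancel_right]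
  have h1 : φ 1 = 0 := by
    have h := hφ 1 π.ker.one_mem 1
    rw [one_mul] at h
    simpa using h
  let v : π.ker := prodHom π r hc ⟨c, hcr⟩
  have hv : v ≠ 1 := fun h => hval (by rw [show val π r hc ⟨c, hcr⟩ = 1 from congrArg Subtype.val h, h1])
  haveI : Nontrivial π.ker := ⟨⟨v, 1, hv⟩⟩
  have hcard : Nat.card π.ker = q :=
    ((Nat.dvd_prime hq).1 hk).resolve_left (Finite.one_lt_card (α := π.ker)).ne'
  have hsur : Function.Surjective (prodHom π r hc) := fun z => by
    have hz := mem_zpowers_of_prime_card hcard hv (g' := z)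
    obtain ⟨n, rfl⟩ := mem_zpowers_iff.1 hz
    exact ⟨(⟨c, hcr⟩ : (proj π r).ker) ^ n, map_zpow _ _ _⟩
  let qm := QuotientGroup.mk' (triv π r hc)
  let σ : sub π r ⧸ triv π r hc →* G := QuotientGroup.lift _ (proj π r) fun x hx =>
    ((mem_triv π r hc).1 hx).1
  let f : (proj π r).ker →* σ.ker :=
    { toFun := fun z => ⟨qm z, z.2⟩
      map_one' := Subtype.ext (map_one qm)
      map_mul' := fun a b => Subtype.ext (map_mul qm _ _) }
  have hfs : Function.Surjective f := by
    rintro ⟨y, hy⟩
    obtain ⟨x, rfl⟩ := QuotientGroup.mk'_surjective _ y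
    exact ⟨⟨x, hy⟩, rfl⟩
  have hfk : f.ker = (prodHom π r hc).ker := by
    ext z
    constructor
    · intro hz
      obtain ⟨h, hv'⟩ := (mem_triv π r hc).1 ((QuotientGroup.eq_one_iff _).1 (congrArg Subtype.val hz))
      exact Subtype.ext hv'
    · intro hz
      exact Subtype.ext ((QuotientGroup.eq_one_iff _).2
        ((mem_triv π r hc).2 ⟨z.2, congrArg Subtype.val hz⟩))
  let e : σ.ker ≃* π.ker :=
    (QuotientGroup.quotientKerEquivOfSurjective f hfs).symm.trans
      ((QuotientGroup.quotientMulEquivOfEq hfk).trans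
        (QuotientGroup.quotientKerEquivOfSurjective (prodHom π r hc) hsur))
  have hσc : Nat.card σ.ker = q := (Nat.card_congr e.toEquiv).trans hcard
  haveI : Finite I := inferInstance
  haveI : Finite ((I → X) ⋊[act] G) := Finite.of_equiv _ SemidirectProduct.equivProd.symm
  refine ⟨_, inferInstance, inferInstance, σ, ⟨?_, ?_, ?_⟩, hσc, isCyclic_of_prime_card hσc⟩
  · intro g
    obtain ⟨x, hx⟩ := proj_surjective π r hrange g
    exact ⟨qm x, hx⟩
  · intro y hy
    obtain ⟨x, rfl⟩ := QuotientGroup.mk'_surjective _ y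
    rw [mem_center_iff]
    intro g
    obtain ⟨g, rfl⟩ := QuotientGroup.mk'_surjective _ g
    have hx : proj π r x = 1 := hy
    have hk' : proj π r (g * x * g⁻¹) = 1 := by rw [map_mul, map_mul, hx, map_inv, mul_one, mul_inv_cancel]
    have h2 : f ⟨g * x * g⁻¹, hk'⟩ = f ⟨x, hx⟩ := by
      rw [MonoidHom.eq_iff, hfk, ← MonoidHom.eq_iff]
      exact Subtype.ext (val_conj π r hc x g hx hk')
    have h3 : qm (g * x * g⁻¹) = qm x := congrArg Subtype.val h2
    rw [map_mul, map_mul, map_inv, mul_inv_eq_iff_eq_mul] at h3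
    exact h3
  · have hmem : qm c ∈ _root_.commutator (sub π r ⧸ triv π r hc) := by
      have : qm c = ⁅qm a, qm b⁆ := by
        simp only [c, map_mul, map_inv, commutatorElement_def, mul_inv_rev]
        group
      rw [this, _root_.commutator_def]
      exact commutator_mem_commutator (mem_top _) (mem_top _)
    have hne' : f ⟨c, hcr⟩ ≠ 1 := fun h => hv (by
      have : (⟨c, hcr⟩ : (proj π r).ker) ∈ f.ker := h
      rwa [hfk] at this)
    intro y hy
    have hz := mem_zpowers_of_prime_card hσc hne' (g' := ⟨y, hy⟩)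
    obtain ⟨n, hn⟩ := mem_zpowers_iff.1 hz
    have hn' : qm c ^ n = y := (SubgroupClass.coe_zpow (f ⟨c, hcr⟩) n).symm.trans
      (congrArg Subtype.val hn)
    exact hn' ▸ zpow_mem hmem n

end CfsgLib.Schur.InducedComm
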