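import Cfsg.Agent.Lib.Schur.Metacyclic

/-! # The metacyclic group `⟨a, b | a^N, b^n = a^t, b a b⁻¹ = a^r⟩` as a concrete group -/

namespace CfsgLib.Schur.MetacyclicGroup

open Subgroup
open scoped commutatorElement

variable {N : ℕ}

/-- Multiplication by a unit, as an automorphism. -/
def autOfUnit (u : (ZMod N)ˣ) : MulAut (Multiplicative (ZMod N)) where
  toFun x := Multiplicative.ofAdd ((u : ZMod N) * Multiplicative.toAdd x)
  invFun x := Multiplicative.ofAdd (((u⁻¹ : (ZMod N)ˣ) : ZMod N) * Multiplicative.toAdd x)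
  left_inv x := by simp
  right_inv x := by simp
  map_mul' x y := by simp [mul_add]

theorem autOfUnit_mul (u v : (ZMod N)ˣ) : autOfUnit (u * v) = autOfUnit u * autOfUnit v :=
  MulEquiv.ext fun x => by simp [autOfUnit, MulAut.mul_apply, mul_assoc]

/-- The action of `ℤ`. -/
def act (u : (ZMod N)ˣ) : Multiplicative ℤ →* MulAut (Multiplicative (ZMod N)) where
  toFun k := autOfUnit (u ^ Multiplicative.toAdd k)
  map_one' := MulEquiv.ext fun x => by simp [autOfUnit]
  map_mul' a b := by rw [toAdd_mul, zpow_add, autOfUnit_mul]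

/-- The covering semidirect product. -/
abbrev Semi (u : (ZMod N)ˣ) := Multiplicative (ZMod N) ⋊[act u] Multiplicative ℤ

/-- The relation `b^n a^{-t}`. -/
def rel (u : (ZMod N)ˣ) (n t : ℕ) : Semi u :=
  SemidirectProduct.inl (Multiplicative.ofAdd (-(t : ZMod N))) *
    SemidirectProduct.inr (Multiplicative.ofAdd (n : ℤ))

theorem inl_aut_inr (u : (ZMod N)ˣ) (k : ℤ) (x : ZMod N) :
    (SemidirectProduct.inr (Multiplicative.ofAdd k) : Semi u) *
        SemidirectProduct.inl (Multiplicative.ofAdd x) *
        (SemidirectProduct.inr (Multiplicative.ofAdd k))⁻¹ =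
      SemidirectProduct.inl (Multiplicative.ofAdd (((u ^ k : (ZMod N)ˣ) : ZMod N) * x)) := by
  rw [← map_inv, ← SemidirectProduct.inl_aut]
  rfl

theorem rel_mem_center (u : (ZMod N)ˣ) (n t : ℕ) (hu : u ^ n = 1)
    (ht : (u : ZMod N) * t = t) : rel u n t ∈ center (Semi u) := by
  have hfix : ∀ k : ℤ, ((u ^ k : (ZMod N)ˣ) : ZMod N) * (-(t : ZMod N)) = -(t : ZMod N) := by
    intro k
    induction k with
    | zero => simp
    | succ i ih => rw [zpow_add_one, Units.val_mul, mul_assoc, mul_neg (u : ZMod N), ht, ih]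
    | pred i ih =>
      have h1 : ((u⁻¹ : (ZMod N)ˣ) : ZMod N) * (-(t : ZMod N)) = -(t : ZMod N) := by
        conv_lhs => rw [← ht, ← mul_neg, Units.inv_mul_cancel_left]
      rw [zpow_sub_one, Units.val_mul, mul_assoc, h1, ih]
  rw [mem_center_iff]
  intro g
  refine SemidirectProduct.ext ?_ ?_
  · simp only [SemidirectProduct.mul_left, rel, SemidirectProduct.left_inl,
      SemidirectProduct.right_inl, SemidirectProduct.left_inr, SemidirectProduct.right_inr,
      map_one, MulAut.one_apply, mul_one, SemidirectProduct.mul_right, one_mul]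
    apply Multiplicative.toAdd.injective
    show Multiplicative.toAdd g.left + ((u ^ Multiplicative.toAdd g.right : (ZMod N)ˣ) : ZMod N) * (-(t : ZMod N))
      = -(t : ZMod N) + ((u ^ (n : ℤ) : (ZMod N)ˣ) : ZMod N) * Multiplicative.toAdd g.left
    rw [hfix, zpow_natCast, hu, Units.val_one, one_mul, add_comm]
  · simp only [SemidirectProduct.mul_right]
    exact mul_comm _ _

theorem exists_group (N r n t : ℕ) [NeZero N] (hn : 0 < n) (hrn : r ^ n ≡ 1 [MOD N])
    (hrt : r * t ≡ t [MOD N]) :
    ∃ (X : Type) (_ : Group X) (_ : Finite X) (A B : X),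
      A ^ N = 1 ∧ B ^ n = A ^ t ∧ B * A * B⁻¹ = A ^ r ∧
      (∀ x : X, ∃ i j : ℕ, j < n ∧ x = A ^ i * B ^ j) ∧
      (∀ i j : ℕ, j < n → A ^ i * B ^ j = 1 → j = 0 ∧ N ∣ i) ∧
      ∀ (P : Type) [Group P] (a b : P), a ^ N = 1 → b ^ n = a ^ t → b * a * b⁻¹ = a ^ r →
        ∃ f : X →* P, f A = a ∧ f B = b := by
  have hu1 : (r : ZMod N) ^ n = 1 := by
    rw [← Nat.cast_pow, (ZMod.natCast_eq_natCast_iff _ 1 N).mpr hrn, Nat.cast_one]
  let u : (ZMod N)ˣ := Units.ofPowEqOne (r : ZMod N) n hu1 hn.ne'
  have hu : u ^ n = 1 := Units.ext (by rw [Units.val_pow_eq_pow_val]; simpa [u] using hu1)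
  have ht : (u : ZMod N) * t = t := by
    show ((r : ZMod N)) * t = t
    rw [← Nat.cast_mul]; exact (ZMod.natCast_eq_natCast_iff _ _ N).mpr hrt
  let K := zpowers (rel u n t)
  have hKc : K ≤ center (Semi u) := zpowers_le.mpr (rel_mem_center u n t hu ht)
  haveI : K.Normal := ⟨fun w hw g => by
    rw [mem_center_iff.mp (hKc hw) g, mul_inv_cancel_right]; exact hw⟩
  let A₀ : Semi u := SemidirectProduct.inl (Multiplicative.ofAdd (1 : ZMod N))
  let B₀ : Semi u := SemidirectProduct.inr (Multiplicative.ofAdd (1 : ℤ))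
  have hA : ∀ i : ℕ, A₀ ^ i = SemidirectProduct.inl (Multiplicative.ofAdd (i : ZMod N)) := fun i => by
    show SemidirectProduct.inl (Multiplicative.ofAdd (1 : ZMod N)) ^ i = _
    rw [← map_pow, ← ofAdd_nsmul, nsmul_one]
  have hB : ∀ j : ℕ, B₀ ^ j = SemidirectProduct.inr (Multiplicative.ofAdd (j : ℤ)) := fun j => by
    show SemidirectProduct.inr (Multiplicative.ofAdd (1 : ℤ)) ^ j = _
    rw [← map_pow, ← ofAdd_nsmul, nsmul_one]
  let mk := QuotientGroup.mk' K
  have hgen : ∀ x : Semi u ⧸ K, ∃ i j : ℕ, j < n ∧ x = mk A₀ ^ i * mk B₀ ^ j := by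
    intro x
    induction x using QuotientGroup.induction_on with
    | _ g =>
      set k := Multiplicative.toAdd g.right with hk
      have hq := Int.emod_add_ediv_mul k n
      have hm0 : 0 ≤ k % n := Int.emod_nonneg _ (by omega)
      have hm1 : k % n < n := Int.emod_lt_of_pos _ (by omega)
      obtain ⟨j, hj⟩ := Int.eq_ofNat_of_zero_le hm0
      have hg : ∃ i : ℕ, (A₀ ^ i * B₀ ^ j)⁻¹ * g ∈ K := by
        -- `g = (correction) * rel ^ q`
        set w := rel u n t ^ (k / n) with hw
        have hwr : w.right = Multiplicative.ofAdd ((k / n) * n) := by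
          have h : SemidirectProduct.rightHom w = SemidirectProduct.rightHom (rel u n t) ^ (k / n) :=
            map_zpow SemidirectProduct.rightHom _ _
          simp only [SemidirectProduct.rightHom_eq_right] at h
          rw [h]
          simp [rel, ← ofAdd_zsmul]
        refine ⟨(Multiplicative.toAdd (g * w⁻¹).left).val, ?_⟩
        have heq : g = A₀ ^ (Multiplicative.toAdd (g * w⁻¹).left).val * B₀ ^ j * w := by
          rw [← mul_inv_eq_iff_eq_mul, hA, hB, ZMod.natCast_zmod_val]
          refine SemidirectProduct.ext ?_ ?_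
          · simp
          · simp only [SemidirectProduct.mul_right, SemidirectProduct.inv_right, hwr,
              SemidirectProduct.right_inl, SemidirectProduct.right_inr, one_mul]
            apply Multiplicative.toAdd.injective
            show k + -(k / n * n) = (j : ℤ)
            omega
        have h2 : ∀ a : Semi u, g = a * w → a⁻¹ * g ∈ K := fun a ha => by
          rw [ha, inv_mul_cancel_left]; exact zpow_mem (mem_zpowers _) _
        exact h2 _ heq
      obtain ⟨i, hi⟩ := hg
      refine ⟨i, j, by omega, ?_⟩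
      rw [← map_pow mk A₀, ← map_pow mk B₀, ← map_mul]
      exact ((QuotientGroup.eq (s := K)).mpr hi).symm
  have hinj : ∀ i j : ℕ, j < n → mk A₀ ^ i * mk B₀ ^ j = 1 → j = 0 ∧ N ∣ i := by
    intro i j hj h
    rw [← map_pow mk A₀, ← map_pow mk B₀, ← map_mul, QuotientGroup.mk'_apply, QuotientGroup.eq_one_iff] at h
    obtain ⟨q, hq⟩ := h
    simp only at hq
    have hr : (q * n : ℤ) = j := by
      have h1 : SemidirectProduct.rightHom (rel u n t) ^ q = SemidirectProduct.rightHom (A₀ ^ i * B₀ ^ j) :=
        (map_zpow (SemidirectProduct.rightHom : Semi u →* Multiplicative ℤ) _ _).symm.trans (congrArg (SemidirectProduct.rightHom : Semi u →* Multiplicative ℤ) hq)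
      rw [hA, hB] at h1
      simpa [rel, ← ofAdd_zsmul, mul_comm] using congrArg Multiplicative.toAdd h1
    have hq0 : q = 0 := by
      rcases lt_trichotomy q 0 with h | h | h
      · nlinarith
      · exact h
      · nlinarith
    subst hq0
    rw [zero_mul] at hr
    have hj0 : j = 0 := by omega
    subst hj0
    refine ⟨rfl, ?_⟩
    rw [zpow_zero, pow_zero, mul_one, hA] at hq
    have := congrArg (fun w : Semi u => Multiplicative.toAdd w.left) hq
    rw [← CharP.cast_eq_zero_iff (ZMod N) N]
    simpa using this.symm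
  have hfin : Finite (Semi u ⧸ K) := by
    have hAN : mk A₀ ^ N = 1 := by rw [← map_pow mk A₀, hA, ZMod.natCast_self]; exact map_one mk
    refine Finite.of_surjective (fun p : Fin N × Fin n => mk A₀ ^ (p.1 : ℕ) * mk B₀ ^ (p.2 : ℕ)) fun x => ?_
    obtain ⟨i, j, hj, rfl⟩ := hgen x
    exact ⟨(⟨i % N, Nat.mod_lt _ (Nat.pos_of_neZero N)⟩, ⟨j, hj⟩), by
      simp [← pow_eq_pow_mod i hAN]⟩
  refine ⟨Semi u ⧸ K, inferInstance, hfin, mk A₀, mk B₀, ?_, ?_, ?_, hgen, hinj, ?_⟩
  · rw [← map_pow mk A₀, hA, ZMod.natCast_self]; exact map_one mk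
  · rw [← map_pow mk A₀, ← map_pow mk B₀, hA, hB]
    refine ((QuotientGroup.eq (s := K)).mpr ?_).symm
    have : (SemidirectProduct.inl (Multiplicative.ofAdd (t : ZMod N)) : Semi u)⁻¹ *
        SemidirectProduct.inr (Multiplicative.ofAdd (n : ℤ)) = rel u n t := by
      rw [← map_inv]; rfl
    rw [this]; exact mem_zpowers _
  · rw [← map_inv mk B₀, ← map_mul mk B₀, ← map_mul mk, ← map_pow mk A₀]
    congr 1
    rw [hA]
    have := inl_aut_inr u 1 1
    rw [zpow_one, mul_one] at this
    exact this
  · intro P _ a b haN hbn hab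
    let fn : Multiplicative (ZMod N) →* P := AddMonoidHom.toMultiplicativeLeft
      (ZMod.lift N ⟨(zmultiplesHom (Additive P)) (Additive.ofMul a), by
        show (N : ℤ) • Additive.ofMul a = 0
        rw [natCast_zsmul]
        exact haN⟩)
    let fg : Multiplicative ℤ →* P := zpowersHom P b
    have hfn : ∀ i : ℕ, fn (Multiplicative.ofAdd (i : ZMod N)) = a ^ i := fun i => by
      show Additive.toMul (ZMod.lift N _ (i : ZMod N)) = _
      rw [show ((i : ZMod N)) = ((i : ℤ) : ZMod N) by simp, ZMod.lift_coe]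
      show Additive.toMul ((i : ℤ) • Additive.ofMul a) = _
      rw [natCast_zsmul]; rfl
    have hcompat : ∀ g, fn.comp ((act u) g).toMonoidHom = (MulAut.conj (fg g)).toMonoidHom.comp fn := by
      -- enough on the generator
      have hone : fn.comp ((act u) (Multiplicative.ofAdd 1)).toMonoidHom
          = (MulAut.conj b).toMonoidHom.comp fn := MonoidHom.ext fun x => by
        obtain ⟨i, rfl⟩ : ∃ i : ℕ, Multiplicative.ofAdd (i : ZMod N) = x :=
          ⟨(Multiplicative.toAdd x).val, by rw [ZMod.natCast_zmod_val]; exact ofAdd_toAdd x⟩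
        show fn (Multiplicative.ofAdd (((u ^ (1 : ℤ) : (ZMod N)ˣ) : ZMod N) * i)) = b * fn _ * b⁻¹
        rw [zpow_one, show (u : ZMod N) * i = ((r * i : ℕ) : ZMod N) by simp [u], hfn, hfn, ← conj_pow,
          hab, ← pow_mul]
      intro g
      refine MonoidHom.ext fun x => ?_
      show fn ((act u g) x) = fg g * fn x * (fg g)⁻¹
      obtain ⟨k, rfl⟩ : ∃ k : ℤ, Multiplicative.ofAdd k = g := ⟨_, ofAdd_toAdd g⟩
      induction k generalizing x with
      | zero => simp [act, autOfUnit, fg]
      | succ i ih =>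
        rw [ofAdd_add, map_mul, map_mul, MulAut.mul_apply, ih,
          show fn ((act u (Multiplicative.ofAdd 1)) x) = b * fn x * b⁻¹ from
            congrArg (fun f : _ →* P => f x) hone]
        simp [fg]; group
      | pred i ih =>
        have h := congrArg (fun f : _ →* P => f ((act u (Multiplicative.ofAdd (-1))) x)) hone
        simp only [MonoidHom.comp_apply] at h
        have hx : (act u (Multiplicative.ofAdd 1)) ((act u (Multiplicative.ofAdd (-1))) x) = x := by
          rw [← MulAut.mul_apply, ← map_mul, ← ofAdd_add, add_neg_cancel, ofAdd_zero, map_one,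
            MulAut.one_apply]
        rw [show (-(i : ℤ) - 1) = -(i : ℤ) + -1 by ring, ofAdd_add, map_mul, map_mul, MulAut.mul_apply, ih]
        have h' : fn x = b * fn ((act u (Multiplicative.ofAdd (-1))) x) * b⁻¹ := by
          have h2 : fn ((act u (Multiplicative.ofAdd 1)) ((act u (Multiplicative.ofAdd (-1))) x))
              = b * fn ((act u (Multiplicative.ofAdd (-1))) x) * b⁻¹ := h
          rwa [hx] at h2
        rw [h']
        simp [fg]; group
    let F : Semi u →* P := SemidirectProduct.lift fn fg hcompat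
    have hrel : K ≤ F.ker := by
      rw [zpowers_le, MonoidHom.mem_ker]
      show F (SemidirectProduct.inl _ * SemidirectProduct.inr _) = 1
      rw [map_mul, SemidirectProduct.lift_inl, SemidirectProduct.lift_inr]
      rw [ofAdd_neg, map_inv, hfn]
      simp [fg, hbn]
    refine ⟨QuotientGroup.lift K F hrel, ?_, ?_⟩
    · show F A₀ = a
      rw [SemidirectProduct.lift_inl]
      simpa using hfn 1
    · show F B₀ = b
      rw [SemidirectProduct.lift_inr]
      simp [fg]

end CfsgLib.Schur.MetacyclicGroup
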