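import Cfsg.Agent.Lib.Sporadic.OutCert.Perm
import Mathlib

/-!
Certificates for monomial cyclic covers of permutation groups of small degree.

A permutation group on `d` points acts on `N` subsets, and these carry a labelled directed graph
whose labels in `ZMod q` change by the differences of the shifts of the two ends.  When the graph is
connected, a lift of the trivial permutation shifts all sheets alike, so the lifted group is a
central extension with kernel of order at most `q`.
-/

set_option autoImplicit false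

namespace CfsgLib.Schur.MonoCover

open CfsgLib.Sporadic.OutCert

/-- The data of a cover. -/
structure Cert where
  /-- The degree of the group. -/
  d : ℕ
  /-- The number of digits of a point of the group. -/
  wd : ℕ
  /-- The number of subsets. -/
  N : ℕ
  /-- The number of sheets. -/
  q : ℕ
  /-- The out-degree of the graph. -/
  k : ℕ
  /-- The subsets as bit masks of `d` digits. -/
  ptsK : ℕ
  /-- The rows of the graph, each edge as `4 * target + label`. -/
  adjK : ℕ
  /-- The generators on the points. -/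
  base : List ℕ
  /-- The generators on the subsets. -/
  im : List ℕ
  /-- Their shifts. -/
  sh : List ℕ
  /-- A spanning tree. -/
  parK : ℕ

namespace Cert

variable (C : Cert)

/-- A bit of a subset. -/
noncomputable def bitN (i x : ℕ) : ℕ := lk 1 (lk C.d C.ptsK i) x

/-- The image of a subset. -/
noncomputable def imN (m i : ℕ) : ℕ := lk 11 (C.im.getD m 0) i

/-- The shift at a subset. -/
noncomputable def shN (m i : ℕ) : ℕ := lk 2 (C.sh.getD m 0) i

/-- A row of the graph. -/
noncomputable def row (i : ℕ) : ℕ := lk (Nat.mul 13 C.k) C.adjK i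

/-- A row contains an entry. -/
noncomputable def hasK (R v : ℕ) : Bool := !(allF (fun t => !(Nat.beq (lk 13 R t) v)) C.k)

/-- A generator carries subsets to subsets. -/
noncomputable def memK (m : ℕ) : Bool :=
  allF (fun i => Nat.blt (C.imN m i) C.N &&
    allF (fun x => Nat.beq (C.bitN (C.imN m i) (lk C.wd (C.base.getD m 0) x)) (C.bitN i x)) C.d) C.N

/-- A generator preserves the labelled graph. -/
noncomputable def goodK (m : ℕ) : Bool :=
  allF (fun i => allF (fun t =>
    let v := lk 13 (C.row i) t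
    C.hasK (C.row (C.imN m i))
      (C.imN m (v / 4) * 4 + (v % 4 + C.shN m i + (C.q - C.shN m (v / 4) % C.q)) % C.q)) C.k) C.N

/-- The subsets are distinct and the rows are functional. -/
noncomputable def shapeK : Bool :=
  allF (fun i => Nat.beq (pkF 1 (C.bitN i) C.d 0) (lk C.d C.ptsK i) &&
    allF (fun j => !(Nat.beq (lk C.d C.ptsK j) (lk C.d C.ptsK i))) i) C.N &&
  allF (fun i => allF (fun t =>
    let v := lk 13 (C.row i) t
    Nat.blt (v / 4) C.N && Nat.blt (v % 4) C.q &&
      allF (fun s => !(Nat.beq (lk 13 (C.row i) s / 4) (v / 4))) t) C.k) C.N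

/-- The tree joins every subset to an earlier one. -/
noncomputable def treeK : Bool :=
  allF (fun i => Nat.beq i 0 ||
    (let p := lk 11 C.parK i
     Nat.blt p i &&
      (!(allF (fun t => !(Nat.beq (lk 13 (C.row i) t / 4) p)) C.k) ||
       !(allF (fun t => !(Nat.beq (lk 13 (C.row p) t / 4) i)) C.k)))) C.N

/-- A subset and the total shift of a word. -/
noncomputable def evalK (w : List ℕ) (i : ℕ) : ℕ × ℕ :=
  List.rec (motive := fun _ => ℕ × ℕ) (i, 0)
    (fun m _ ih => (C.imN m ih.1, (ih.2 + C.shN m ih.1) % C.q)) w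

/-- A word moves no subset and shifts by a constant. -/
noncomputable def relK (w : List ℕ) (s : ℕ) : Bool :=
  allF (fun i => Nat.beq (C.evalK w i).1 i && Nat.beq (C.evalK w i).2 s) C.N

/-- The sheets over the subsets. -/
abbrev Sheet : Type := Fin C.N × ZMod C.q

/-- A permutation of the subsets with shifts. -/
def liftP (p : Equiv.Perm (Fin C.N)) (c : Fin C.N → ZMod C.q) : Equiv.Perm C.Sheet where
  toFun x := (p x.1, x.2 + c x.1)
  invFun x := (p.symm x.1, x.2 - c (p.symm x.1))
  left_inv x := by simp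
  right_inv x := by simp

theorem liftP_mul (p r : Equiv.Perm (Fin C.N)) (c e : Fin C.N → ZMod C.q) :
    C.liftP p c * C.liftP r e = C.liftP (p * r) (fun i => e i + c (r i)) :=
  Equiv.ext fun _ => Prod.ext rfl (add_assoc _ _ _)

theorem liftP_one : (1 : Equiv.Perm C.Sheet) = C.liftP 1 0 := Equiv.ext fun x => by simp [liftP]

/-- The shift of all sheets. -/
def shift (a : ZMod C.q) : Equiv.Perm C.Sheet := C.liftP 1 fun _ => a

theorem shift_zero : C.shift 0 = 1 := C.liftP_one.symm

theorem shift_mul (a b : ZMod C.q) : C.shift a * C.shift b = C.shift (a + b) := by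
  rw [shift, shift, shift, liftP_mul, one_mul]
  exact congrArg (C.liftP 1) (funext fun _ => add_comm _ _)

theorem shift_pow (a : ZMod C.q) : ∀ n : ℕ, C.shift a ^ n = C.shift (n • a)
  | 0 => by rw [pow_zero, zero_nsmul, shift_zero]
  | n + 1 => by rw [pow_succ, shift_pow a n, shift_mul, succ_nsmul]

theorem shift_inj {a b : ZMod C.q} (hN : 0 < C.N) (h : C.shift a = C.shift b) : a = b := by
  simpa [shift, liftP] using congrArg (fun π : Equiv.Perm C.Sheet => (π (⟨0, hN⟩, 0)).2) h

/-- The bits of a subset as a predicate on points. -/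
noncomputable def mem (i : Fin C.N) (x : Fin C.d) : ℕ := C.bitN i x

/-- The labelled edges. -/
def Edge (i j : Fin C.N) (f : ZMod C.q) : Prop :=
  ∃ t < C.k, lk 13 (C.row i) t / 4 = j.val ∧ ((lk 13 (C.row i) t % 4 : ℕ) : ZMod C.q) = f

/-- A compatible lift. -/
def Good (p : Equiv.Perm (Fin C.d)) (r : Equiv.Perm (Fin C.N)) (c : Fin C.N → ZMod C.q) : Prop :=
  (∀ i x, C.mem (r i) (p x) = C.mem i x) ∧
    ∀ i j f, C.Edge i j f → C.Edge (r i) (r j) (f + c i - c j)

theorem good_one : C.Good 1 1 0 := ⟨fun _ _ => rfl, fun i j f h => by simpa using h⟩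

theorem good_mul {p p' : Equiv.Perm (Fin C.d)} {r r' : Equiv.Perm (Fin C.N)}
    {c c' : Fin C.N → ZMod C.q} (h : C.Good p r c) (h' : C.Good p' r' c') :
    C.Good (p * p') (r * r') (fun i => c' i + c (r' i)) := by
  refine ⟨fun i x => ?_, fun i j f he => ?_⟩
  · rw [Equiv.Perm.mul_apply, Equiv.Perm.mul_apply, h.1, h'.1]
  · have := h.2 _ _ _ (h'.2 i j f he)
    rw [Equiv.Perm.mul_apply, Equiv.Perm.mul_apply]
    convert this using 1
    ring

/-- The compatible lifts form a group. -/
def movers [NeZero C.q] : Subgroup (Equiv.Perm (Fin C.d) × Equiv.Perm C.Sheet) where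
  carrier := {x | ∃ r c, x.2 = C.liftP r c ∧ C.Good x.1 r c}
  one_mem' := ⟨1, 0, C.liftP_one, C.good_one⟩
  mul_mem' := by
    rintro ⟨p, u⟩ ⟨p', u'⟩ ⟨r, c, rfl, h⟩ ⟨r', c', rfl, h'⟩
    exact ⟨_, _, C.liftP_mul r r' c c', C.good_mul h h'⟩
  inv_mem' := by
    intro x hx
    have h : ∀ n : ℕ, ∃ r c, (x ^ n).2 = C.liftP r c ∧ C.Good (x ^ n).1 r c := by
      intro n
      induction n with
      | zero => exact ⟨1, 0, by rw [pow_zero]; exact C.liftP_one, by rw [pow_zero]; exact C.good_one⟩
      | succ n ih =>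
        obtain ⟨r, c, e, hg⟩ := ih
        obtain ⟨r', c', e', hg'⟩ := hx
        refine ⟨_, _, ?_, by rw [pow_succ, Prod.fst_mul]; exact C.good_mul hg hg'⟩
        rw [pow_succ, Prod.snd_mul, e, e', liftP_mul]
    have he : x⁻¹ = x ^ (orderOf x - 1) := inv_eq_of_mul_eq_one_right (by
      rw [← pow_succ', Nat.sub_add_cancel (orderOf_pos x), pow_orderOf_eq_one])
    show ∃ r c, x⁻¹.2 = C.liftP r c ∧ C.Good x⁻¹.1 r c
    rw [he]
    exact h _

theorem shift_comm [NeZero C.q] {x : Equiv.Perm (Fin C.d) × Equiv.Perm C.Sheet} (hx : x ∈ C.movers)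
    (a : ZMod C.q) : C.shift a * x.2 = x.2 * C.shift a := by
  obtain ⟨r, c, e, -⟩ := hx
  rw [e, shift, liftP_mul, liftP_mul, one_mul, mul_one]
  exact congrArg (C.liftP r) (funext fun i => add_comm _ _)

theorem mem_injective (hs : C.shapeK = true) : Function.Injective C.mem := by
  simp only [shapeK, Bool.and_eq_true, allF_iff, Bool.not_eq_true', Nat.beq_eq] at hs
  intro i j hij
  have hc : lk C.d C.ptsK i = lk C.d C.ptsK j := by
    rw [← (hs.1 i i.2).1, ← (hs.1 j j.2).1, pkF_eq, pkF_eq]
    refine congrArg _ (List.map_congr_left fun x hx => ?_)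
    have hx' : x < C.d := by
      have := List.mem_range'_1.1 hx
      omega
    exact congrFun hij ⟨x, hx'⟩
  rcases lt_trichotomy i.val j.val with h | h | h
  · have := (hs.1 j j.2).2 i h
    rw [← Bool.not_eq_true, Nat.beq_eq] at this
    exact absurd hc this
  · exact Fin.ext h
  · have := (hs.1 i i.2).2 j h
    rw [← Bool.not_eq_true, Nat.beq_eq] at this
    exact absurd hc.symm this

theorem edge_unique (hs : C.shapeK = true) {i j : Fin C.N} {f g : ZMod C.q} (hf : C.Edge i j f)
    (hg : C.Edge i j g) : f = g := by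
  simp only [shapeK, Bool.and_eq_true, allF_iff, Bool.not_eq_true'] at hs
  obtain ⟨t, ht, hjt, rfl⟩ := hf
  obtain ⟨s, hsk, hjs, rfl⟩ := hg
  rcases lt_trichotomy t s with h | h | h
  · have := (hs.2 i i.2 s hsk).2 t h
    rw [← Bool.not_eq_true, Nat.beq_eq] at this
    exact absurd (hjt.trans hjs.symm) this
  · rw [h]
  · have := (hs.2 i i.2 t ht).2 s h
    rw [← Bool.not_eq_true, Nat.beq_eq] at this
    exact absurd (hjs.trans hjt.symm) this

theorem exists_of_not_allF {P : ℕ → Bool} {n : ℕ} (h : allF (fun t => !(P t)) n = false) :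
    ∃ t < n, P t = true := by
  by_contra hne
  have : allF (fun t => !(P t)) n = true := allF_iff.2 fun t ht => by
    simpa using fun e => hne ⟨t, ht, e⟩
  rw [h] at this
  exact Bool.noConfusion this

theorem const_of_edge (hs : C.shapeK = true) (ht : C.treeK = true) {e : Fin C.N → ZMod C.q}
    (he : ∀ i j f, C.Edge i j f → e i = e j) : ∀ i j, e i = e j := by
  have hs2 : ∀ i < C.N, ∀ t < C.k, lk 13 (C.row i) t / 4 < C.N := by
    simp only [shapeK, Bool.and_eq_true, allF_iff, Nat.blt_eq] at hs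
    exact fun i hi t ht => (hs.2 i hi t ht).1.1
  simp only [treeK, allF_iff, Bool.or_eq_true, Bool.and_eq_true, Nat.beq_eq, Nat.blt_eq,
    Bool.not_eq_true'] at ht
  have key : ∀ n, ∀ hn : n < C.N, e ⟨n, hn⟩ = e ⟨0, by omega⟩ := by
    intro n
    induction n using Nat.strong_induction_on with
    | _ n ih =>
      intro hn
      rcases ht n hn with rfl | ⟨hp, h⟩
      · rfl
      have hpn : lk 11 C.parK n < C.N := hp.trans hn
      refine Eq.trans ?_ (ih _ hp hpn)
      rcases h with h | h
      · obtain ⟨t, ht', hv⟩ := exists_of_not_allF h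
        exact he _ _ _ ⟨t, ht', Nat.beq_eq ▸ hv, rfl⟩
      · obtain ⟨t, ht', hv⟩ := exists_of_not_allF h
        exact (he _ _ _ ⟨t, ht', Nat.beq_eq ▸ hv, rfl⟩).symm
  intro i j
  rw [key i i.2, key j j.2]

/-- A lift of the trivial permutation shifts all sheets alike. -/
theorem exists_shift [NeZero C.q] (hs : C.shapeK = true) (ht : C.treeK = true) (hN : 0 < C.N)
    {x : Equiv.Perm (Fin C.d) × Equiv.Perm C.Sheet} (hx : x ∈ C.movers) (h1 : x.1 = 1) :
    ∃ a, x.2 = C.shift a := by
  obtain ⟨r, c, e, hg⟩ := hx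
  rw [h1] at hg
  have hr : r = 1 := Equiv.ext fun i => C.mem_injective hs (funext fun y => hg.1 i y)
  subst hr
  have hc : ∀ i j f, C.Edge i j f → c i = c j := fun i j f hf => by
    have := C.edge_unique hs hf (hg.2 i j f hf)
    rwa [add_sub_assoc, left_eq_add, sub_eq_zero] at this
  refine ⟨c ⟨0, hN⟩, e.trans ?_⟩
  exact congrArg (C.liftP 1) (funext fun i => C.const_of_edge hs ht hc i _)

/-- The shifts of a generator. -/
noncomputable def shF (m : ℕ) (i : Fin C.N) : ZMod C.q := ((C.shN m i : ℕ) : ZMod C.q)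

/-- A generator of the cover, with its permutation of the subsets. -/
theorem exists_lift [NeZero C.q] (hs : C.shapeK = true) (hq4 : C.q ≤ 4) {m : ℕ} (hm : C.memK m = true)
    (hg : C.goodK m = true) {p : Equiv.Perm (Fin C.d)}
    (hp : ∀ x : Fin C.d, lk C.wd (C.base.getD m 0) x = (p x : ℕ)) :
    ∃ r : Equiv.Perm (Fin C.N), (∀ i : Fin C.N, C.imN m i = (r i : ℕ)) ∧
      (p, C.liftP r (C.shF m)) ∈ C.movers := by
  simp only [memK, allF_iff, Bool.and_eq_true, Nat.blt_eq, Nat.beq_eq] at hm
  let f : Fin C.N → Fin C.N := fun i => ⟨C.imN m i, (hm i i.2).1⟩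
  have hmem : ∀ i x, C.mem (f i) (p x) = C.mem i x := fun i x => by
    have := (hm i i.2).2 x x.2
    rw [hp x] at this
    exact this
  have hf : Function.Injective f := fun i j h => C.mem_injective hs (funext fun x => by
    rw [← hmem i x, h, hmem j x])
  refine ⟨Equiv.ofBijective f ⟨hf, Finite.surjective_of_injective hf⟩, fun i => rfl, _, _, rfl,
    hmem, fun i j l hl => ?_⟩
  obtain ⟨t, ht, hj, hl⟩ := hl
  simp only [goodK, allF_iff, hasK, Bool.not_eq_true'] at hg
  obtain ⟨s, hsk, hv⟩ := exists_of_not_allF (hg i i.2 t ht)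
  rw [Nat.beq_eq, hj] at hv
  have hq : 0 < C.q := Nat.pos_of_neZero _
  have h4 : (lk 13 (C.row i) t % 4 + C.shN m i + (C.q - C.shN m j % C.q)) % C.q < 4 :=
    lt_of_lt_of_le (Nat.mod_lt _ hq) hq4
  refine ⟨s, hsk, ?_, ?_⟩
  · show _ = C.imN m j
    change lk 13 (C.row (C.imN m i)) s / 4 = _
    omega
  · change ((lk 13 (C.row (C.imN m i)) s % 4 : ℕ) : ZMod C.q) = _
    rw [hv, show (C.imN m j * 4 + (lk 13 (C.row i) t % 4 + C.shN m i + (C.q - C.shN m j % C.q)) % C.q) % 4
        = (lk 13 (C.row i) t % 4 + C.shN m i + (C.q - C.shN m j % C.q)) % C.q by omega,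
      ZMod.natCast_mod, Nat.cast_add, Nat.cast_add, Nat.cast_sub (Nat.mod_lt _ hq).le, ZMod.natCast_self,
      ZMod.natCast_mod, hl, zero_sub, ← sub_eq_add_neg]
    rfl

/-- The lift of a word, read off from the tables. -/
theorem prod_eval {ι : Type*} (g : ι → Equiv.Perm (Fin C.d) × Equiv.Perm C.Sheet) (code : ι → ℕ)
    [NeZero C.q]
    (hg : ∀ m, ∃ r : Equiv.Perm (Fin C.N), (∀ i : Fin C.N, C.imN (code m) i = (r i : ℕ)) ∧
      (g m).2 = C.liftP r (C.shF (code m))) :
    ∀ w : List ι, ∃ (r : Equiv.Perm (Fin C.N)) (c : Fin C.N → ZMod C.q),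
      (w.map g).prod.2 = C.liftP r c ∧
        ∀ i : Fin C.N, C.evalK (w.map code) i = ((r i).val, (c i).val)
  | [] => ⟨1, 0, by simpa using C.liftP_one, fun i => by simp [evalK]⟩
  | m :: w => by
    obtain ⟨r, c, e, hev⟩ := prod_eval g code hg w
    obtain ⟨s, hs, es⟩ := hg m
    refine ⟨s * r, fun i => c i + C.shF (code m) (r i), ?_, fun i => ?_⟩
    · rw [List.map_cons, List.prod_cons, Prod.snd_mul, e, es, liftP_mul]
    · have h := hev i
      unfold evalK at h ⊢
      simp only [List.map_cons] at h ⊢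
      rw [h, hs, shF, ZMod.val_add, ZMod.val_natCast, Nat.add_mod_mod, Equiv.Perm.mul_apply]

theorem prod_eq_shift {ι : Type*} (g : ι → Equiv.Perm (Fin C.d) × Equiv.Perm C.Sheet) (code : ι → ℕ)
    [NeZero C.q]
    (hg : ∀ m, ∃ r : Equiv.Perm (Fin C.N), (∀ i : Fin C.N, C.imN (code m) i = (r i : ℕ)) ∧
      (g m).2 = C.liftP r (C.shF (code m)))
    {w : List ι} {s : ℕ} (hs : s < C.q) (h : C.relK (w.map code) s = true) :
    (w.map g).prod.2 = C.shift (s : ZMod C.q) := by
  obtain ⟨r, c, e, hev⟩ := C.prod_eval g code hg w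
  simp only [relK, allF_iff, Bool.and_eq_true, Nat.beq_eq] at h
  have hr : r = 1 := Equiv.ext fun i => Fin.ext (by
    have := (h i i.2).1
    rw [hev i] at this
    exact this)
  have hc : c = fun _ => (s : ZMod C.q) := funext fun i => ZMod.val_injective _ (by
    have := (h i i.2).2
    rw [hev i] at this
    rw [ZMod.val_natCast, Nat.mod_eq_of_lt hs]
    exact this)
  rw [e, hr, hc]
  rfl

end Cert

end CfsgLib.Schur.MonoCover
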