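import Cfsg.Agent.Lib.Sporadic.CosetCertCox
import Cfsg.Agent.Lib.Sporadic.OutCert.Perm
import Cfsg.Agent.Lib.Schur.Basic

/-!
# Monomial covers of presented groups

A group with a faithful action on `N` points and a presentation.  Lifts of the generators to `N` times `q`
sheets, such that every relator shifts all sheets alike, generate a central extension of the group whose
kernel consists of shifts.
-/

set_option autoImplicit false

namespace CfsgLib.Schur.MonoRel

open CfsgLib.Sporadic CfsgLib.Sporadic.OutCert CfsgLib.Sporadic.CosetCert Subgroup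
open scoped commutatorElement

variable {N q : ℕ}

/-- The sheets over the points. -/
abbrev Sheet (N q : ℕ) : Type := Fin N × ZMod q

/-- A permutation of the points with shifts. -/
def liftP (p : Equiv.Perm (Fin N)) (c : Fin N → ZMod q) : Equiv.Perm (Sheet N q) where
  toFun x := (p x.1, x.2 + c x.1)
  invFun x := (p.symm x.1, x.2 - c (p.symm x.1))
  left_inv x := by simp
  right_inv x := by simp

theorem liftP_mul (p r : Equiv.Perm (Fin N)) (c e : Fin N → ZMod q) :
    liftP p c * liftP r e = liftP (p * r) (fun i => e i + c (r i)) :=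
  Equiv.ext fun _ => Prod.ext rfl (add_assoc _ _ _)

theorem liftP_inj [NeZero q] {p r : Equiv.Perm (Fin N)} {c e : Fin N → ZMod q}
    (h : liftP p c = liftP r e) : p = r ∧ c = e :=
  ⟨Equiv.ext fun i => congrArg Prod.fst (Equiv.congr_fun h (i, 0)),
    funext fun i => by simpa [liftP] using congrArg Prod.snd (Equiv.congr_fun h (i, 0))⟩

theorem liftP_one : (1 : Equiv.Perm (Sheet N q)) = liftP 1 0 := Equiv.ext fun x => by simp [liftP]

variable (N q)

/-- The lifts form a group. -/
def monos [NeZero q] : Subgroup (Equiv.Perm (Sheet N q)) where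
  carrier := {π | ∃ p c, π = liftP p c}
  one_mem' := ⟨1, 0, liftP_one⟩
  mul_mem' := by
    rintro _ _ ⟨p, c, rfl⟩ ⟨r, e, rfl⟩
    exact ⟨_, _, liftP_mul p r c e⟩
  inv_mem' := by
    rintro _ ⟨p, c, rfl⟩
    refine ⟨p⁻¹, fun i => - c (p⁻¹ i), inv_eq_of_mul_eq_one_right ?_⟩
    rw [liftP_mul, mul_inv_cancel, liftP_one]
    exact congrArg (liftP 1) (funext fun i => neg_add_cancel _)

/-- The permutation of the points. -/
noncomputable def base [NeZero q] : monos N q →* Equiv.Perm (Fin N) :=
  MonoidHom.mk' (fun π => π.2.choose) fun a b => by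
    obtain ⟨c, ea⟩ := a.2.choose_spec
    obtain ⟨e, eb⟩ := b.2.choose_spec
    obtain ⟨f, eab⟩ := (a * b).2.choose_spec
    have eab' : (a : Equiv.Perm (Sheet N q)) * (b : Equiv.Perm (Sheet N q)) = _ := eab
    exact (liftP_inj (eab'.symm.trans ((congrArg₂ (· * ·) ea eb).trans (liftP_mul _ _ c e)))).1

/-- The shift of all sheets. -/
def shift : Multiplicative (ZMod q) →* Equiv.Perm (Sheet N q) where
  toFun a := liftP 1 fun _ => a.toAdd
  map_one' := liftP_one.symm
  map_mul' a b := by
    rw [liftP_mul, one_mul]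
    exact congrArg (liftP 1) (funext fun _ => add_comm _ _)

variable {N q}

theorem shift_comm [NeZero q] {π : Equiv.Perm (Sheet N q)} (h : π ∈ monos N q) (a : Multiplicative (ZMod q)) :
    π * shift N q a = shift N q a * π := by
  obtain ⟨p, c, rfl⟩ := h
  show liftP p c * liftP 1 _ = liftP 1 _ * liftP p c
  rw [liftP_mul, liftP_mul, one_mul, mul_one]
  exact congrArg (liftP p) (funext fun i => add_comm _ _)

theorem shift_inj [NeZero q] (hN : 0 < N) : Function.Injective (shift N q) := fun a b h =>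
  Multiplicative.toAdd.injective
    (congrFun (liftP_inj (show liftP 1 (fun _ => a.toAdd) = liftP 1 (fun _ => b.toAdd) from h)).2 ⟨0, hN⟩)

/-- Tables of permutations of points with shifts. -/
structure Tabs where
  /-- The number of points. -/
  N : ℕ
  /-- The number of sheets. -/
  q : ℕ
  /-- The digits of a point. -/
  w : ℕ
  /-- The digits of a shift. -/
  ws : ℕ
  /-- The images. -/
  im : List ℕ
  /-- The shifts. -/
  sh : List ℕ

namespace Tabs

variable (T : Tabs)

/-- An image. -/
noncomputable def imN (x i : ℕ) : ℕ := lk T.w (T.im.getD x 0) i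

/-- A shift. -/
noncomputable def shN (x i : ℕ) : ℕ := lk T.ws (T.sh.getD x 0) i

/-- The image and total shift of letters in order of application. -/
noncomputable def evalK (L : List ℕ) : ℕ × ℕ → ℕ × ℕ :=
  List.rec (motive := fun _ => ℕ × ℕ → ℕ × ℕ) id
    (fun x _ ih s => ih (T.imN x s.1, (s.2 + T.shN x s.1) % T.q)) L

/-- Letters in order of application shift all sheets alike. -/
noncomputable def constK (L : List ℕ) (s : ℕ) : Bool :=
  allF (fun i => Nat.beq (T.evalK L (i, 0)).1 i && Nat.beq (T.evalK L (i, 0)).2 s) T.N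

/-- The shift of letters at the first point. -/
noncomputable def firstK (L : List ℕ) : ℕ := (T.evalK L (0, 0)).2

theorem appProd_eval [NeZero T.q] (g : ℕ → Equiv.Perm (Sheet T.N T.q)) {L : List ℕ}
    (hg : ∀ x ∈ L, ∀ z : Sheet T.N T.q, ((g x z).1 : ℕ) = T.imN x z.1 ∧
      (g x z).2 = z.2 + (T.shN x z.1 : ℕ)) :
    ∀ (z : Sheet T.N T.q) (s : ℕ),
      ((appProd g L z).1 : ℕ) = (T.evalK L (z.1, s)).1 ∧
        (appProd g L z).2 + (s : ZMod T.q) = z.2 + ((T.evalK L (z.1, s)).2 : ℕ) := by
  induction L with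
  | nil => exact fun z s => ⟨rfl, rfl⟩
  | cons x L ih =>
    intro z s
    obtain ⟨h1, h2⟩ := hg x List.mem_cons_self z
    have e := ih (fun y hy => hg y (List.mem_cons_of_mem _ hy)) (g x z) ((s + T.shN x z.1) % T.q)
    rw [h1] at e
    refine ⟨e.1, ?_⟩
    have e2 := e.2
    rw [h2, ZMod.natCast_mod, Nat.cast_add] at e2
    show (appProd g L (g x z)).2 + _ = z.2 + ((T.evalK L (T.imN x z.1, (s + T.shN x z.1) % T.q)).2 : ℕ)
    linear_combination e2

theorem appProd_shift [NeZero T.q] (g : ℕ → Equiv.Perm (Sheet T.N T.q)) {L : List ℕ} {s : ℕ}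
    (hg : ∀ x ∈ L, ∀ z : Sheet T.N T.q, ((g x z).1 : ℕ) = T.imN x z.1 ∧
      (g x z).2 = z.2 + (T.shN x z.1 : ℕ)) (h : T.constK L s = true) :
    appProd g L = shift T.N T.q (Multiplicative.ofAdd (s : ZMod T.q)) := by
  simp only [constK, allF_iff, Bool.and_eq_true, Nat.beq_eq] at h
  refine Equiv.ext fun z => ?_
  obtain ⟨e1, e2⟩ := T.appProd_eval g hg z 0
  obtain ⟨h1, h2⟩ := h z.1 z.1.2
  rw [h1] at e1
  rw [h2, Nat.cast_zero, add_zero] at e2
  exact Prod.ext (Fin.ext e1) e2

end Tabs

section Main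

variable [NeZero q] {α : Type*} {G : Type*} [Group G] (gen : α → G)
  (ψ : G →* Equiv.Perm (Fin N)) (c : α → Fin N → ZMod q)

/-- A lifted generator. -/
noncomputable def lgen (x : α) : Equiv.Perm (Sheet N q) := liftP (ψ (gen x)) (c x)

/-- The cover. -/
noncomputable abbrev Cov : Subgroup (Equiv.Perm (Sheet N q)) := closure (Set.range (lgen gen ψ c))

theorem cov_le : Cov gen ψ c ≤ monos N q :=
  (closure_le _).2 (by rintro _ ⟨x, rfl⟩; exact ⟨_, _, rfl⟩)

theorem base_mem (π : Cov gen ψ c) : base N q ⟨π.1, cov_le gen ψ c π.2⟩ ∈ ψ.range := by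
  obtain ⟨π, hπ⟩ := π
  induction hπ using closure_induction with
  | mem y hy =>
    obtain ⟨x, rfl⟩ := hy
    obtain ⟨e, he⟩ := (cov_le gen ψ c (subset_closure ⟨x, rfl⟩)).choose_spec
    exact ⟨gen x, (liftP_inj he).1⟩
  | one => exact ⟨1, by rw [map_one]; exact (map_one (base N q)).symm⟩
  | mul a b ha hb iha ihb =>
    obtain ⟨u, hu⟩ := iha
    obtain ⟨v, hv⟩ := ihb
    refine ⟨u * v, ?_⟩
    rw [map_mul, hu, hv, ← map_mul]
    rfl
  | inv a ha iha =>
    obtain ⟨u, hu⟩ := iha
    refine ⟨u⁻¹, ?_⟩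
    rw [map_inv, hu, ← map_inv]
    rfl

/-- The projection, for a faithful action. -/
noncomputable def proj (hψ : Function.Injective ψ) : Cov gen ψ c →* G :=
  (MonoidHom.ofInjective hψ).symm.toMonoidHom.comp
    (((base N q).comp (Subgroup.inclusion (cov_le gen ψ c))).codRestrict ψ.range (base_mem gen ψ c))

variable {gen ψ c}

/-- A lifted generator in the cover. -/
noncomputable def cgen (x : α) : Cov gen ψ c := ⟨lgen gen ψ c x, subset_closure ⟨x, rfl⟩⟩

theorem proj_cgen (hψ : Function.Injective ψ) (x : α) : proj gen ψ c hψ (cgen x) = gen x := by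
  obtain ⟨e, he⟩ := (cov_le gen ψ c (cgen (gen := gen) (ψ := ψ) (c := c) x).2).choose_spec
  have h := (MonoidHom.ofInjective hψ).apply_symm_apply
    (((base N q).comp (Subgroup.inclusion (cov_le gen ψ c))).codRestrict ψ.range (base_mem gen ψ c) (cgen x))
  exact hψ ((congrArg Subtype.val h).trans (liftP_inj he).1.symm)

theorem cgen_closure : closure (Set.range (cgen (gen := gen) (ψ := ψ) (c := c))) = ⊤ := by
  apply map_injective (Cov gen ψ c).subtype_injective
  rw [MonoidHom.map_closure, ← Set.range_comp, ← MonoidHom.range_eq_map, range_subtype]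
  rfl

theorem proj_surjective (hψ : Function.Injective ψ) (hgen : closure (Set.range gen) = ⊤) :
    Function.Surjective (proj gen ψ c hψ) := by
  rw [← MonoidHom.range_eq_top, eq_top_iff, ← hgen, closure_le]
  rintro _ ⟨x, rfl⟩
  exact ⟨cgen x, proj_cgen hψ x⟩

/-- The shifts in the cover. -/
noncomputable def shifts : Subgroup (Cov gen ψ c) := (shift N q).range.comap (Cov gen ψ c).subtype

theorem shifts_le_center : shifts (gen := gen) (ψ := ψ) (c := c) ≤ center (Cov gen ψ c) := by
  intro z hz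
  refine mem_center_iff.2 fun g => Subtype.ext ?_
  obtain ⟨a, ha⟩ := hz
  show g.1 * z.1 = z.1 * g.1
  rw [show z.1 = shift N q a from ha.symm]
  exact shift_comm (cov_le gen ψ c g.2) a

instance shifts_normal : (shifts (gen := gen) (ψ := ψ) (c := c)).Normal :=
  ⟨fun z hz g => by rw [mem_center_iff.1 (shifts_le_center hz) g, mul_inv_cancel_right]; exact hz⟩

theorem ker_proj_le (hψ : Function.Injective ψ) (hgen : closure (Set.range gen) = ⊤)
    (hφ : ∃ φ : G →* Cov gen ψ c ⧸ shifts (gen := gen) (ψ := ψ) (c := c), ∀ x, φ (gen x) = (cgen x : Cov gen ψ c)) :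
    (proj gen ψ c hψ).ker ≤ shifts (gen := gen) (ψ := ψ) (c := c) := by
  obtain ⟨φ, hφ⟩ := hφ
  have e : φ.comp (proj gen ψ c hψ) = QuotientGroup.mk' _ := by
    refine MonoidHom.eq_of_eqOn_dense cgen_closure ?_
    rintro _ ⟨x, rfl⟩
    show φ (proj gen ψ c hψ (cgen x)) = _
    rw [proj_cgen, hφ]
    rfl
  intro z hz
  have := DFunLike.congr_fun e z
  rw [MonoidHom.comp_apply, MonoidHom.mem_ker.1 hz, map_one] at this
  exact (QuotientGroup.eq_one_iff z).1 this.symm

theorem card_ker_le (hψ : Function.Injective ψ)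
    (h : (proj gen ψ c hψ).ker ≤ shifts (gen := gen) (ψ := ψ) (c := c)) :
    Nat.card (proj gen ψ c hψ).ker ≤ q := by
  choose a ha using fun z : (proj gen ψ c hψ).ker => h z.2
  refine (Nat.card_le_card_of_injective a fun u v e => Subtype.ext (Subtype.ext ?_)).trans
    (le_of_eq ?_)
  · show (u.1 : Equiv.Perm (Sheet N q)) = v.1
    exact (ha u).symm.trans ((congrArg (shift N q) e).trans (ha v))
  · exact Nat.card_zmod q

theorem isStem (hψ : Function.Injective ψ) (hgen : closure (Set.range gen) = ⊤)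
    (h : (proj gen ψ c hψ).ker ≤ shifts (gen := gen) (ψ := ψ) (c := c))
    {z : Cov gen ψ c} (hz : z ∈ commutator (Cov gen ψ c)) (hk : proj gen ψ c hψ z = 1) (ho : orderOf z = q) :
    Cfsg.IsStemExtension (proj gen ψ c hψ) ∧ Nat.card (proj gen ψ c hψ).ker = q ∧
      IsCyclic (proj gen ψ c hψ).ker := by
  have hle : zpowers z ≤ (proj gen ψ c hψ).ker := zpowers_le.2 (MonoidHom.mem_ker.2 hk)
  have heq : zpowers z = (proj gen ψ c hψ).ker :=
    eq_of_le_of_card_ge hle (by rw [Nat.card_zpowers, ho]; exact card_ker_le hψ h)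
  refine ⟨⟨proj_surjective hψ hgen, h.trans shifts_le_center, heq ▸ zpowers_le.2 hz⟩, ?_, ?_⟩
  · rw [← heq, Nat.card_zpowers, ho]
  · rw [← heq]; infer_instance

end Main

end CfsgLib.Schur.MonoRel
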