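import Cfsg.Agent.Lib.Schur.AlternatingMain

/-!
# Lifting a split extension `V : C` through a double cover

Tools for the multipliers of the two largest Mathieu groups: the square of the lifts of one class
of involutions, the invariant complement in the preimage of an elementary abelian subgroup cut out
by fixed-point-free elements, a dihedral pair with known squares, and the extraspecial group of
order twenty-seven.
-/

set_option autoImplicit false

namespace CfsgLib.Schur.OctadLift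

open Subgroup
open scoped commutatorElement

universe u v

variable {X : Type u} [Group X] {Q : Type v} [Group Q] (ξ : X →* Q)

theorem comm_of_ker (hk : ξ.ker ≤ center X) {x : X} (hx : ξ x = 1) (y : X) : y * x = x * y :=
  mem_center_iff.1 (hk hx) y

/-- Central factors do not change a commutator. -/
theorem commutator_mul_central {x y z w : X} (hz : z ∈ center X) (hw : w ∈ center X) :
    ⁅x * z, y * w⁆ = ⁅x, y⁆ := by
  have hz' := mem_center_iff.1 hz
  have hw' := mem_center_iff.1 hw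
  simp only [commutatorElement_def, mul_inv_rev]
  calc x * z * (y * w) * (z⁻¹ * x⁻¹) * (w⁻¹ * y⁻¹)
      = x * (z * (y * w)) * (z⁻¹ * x⁻¹) * (w⁻¹ * y⁻¹) := by group
    _ = x * ((y * w) * z) * (z⁻¹ * x⁻¹) * (w⁻¹ * y⁻¹) := by rw [hz']
    _ = x * y * (w * x⁻¹) * (w⁻¹ * y⁻¹) := by group
    _ = x * y * (x⁻¹ * w) * (w⁻¹ * y⁻¹) := by rw [hw']
    _ = _ := by group

theorem commutator_pow_left {x y : X} (h : Commute x ⁅x, y⁆) :
    ∀ n : ℕ, ⁅x ^ n, y⁆ = ⁅x, y⁆ ^ n
  | 0 => by rw [pow_zero, pow_zero, commutatorElement_one_left]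
  | n + 1 => by
    have hn := commutator_pow_left h n
    calc ⁅x ^ (n + 1), y⁆ = x ^ n * ⁅x, y⁆ * (x ^ n)⁻¹ * ⁅x ^ n, y⁆ := by
          simp only [commutatorElement_def, pow_succ]; group
      _ = ⁅x, y⁆ * ⁅x, y⁆ ^ n := by rw [(h.pow_left n).eq, hn]; group
      _ = _ := (pow_succ' _ _).symm

theorem commutator_inv_right {x y : X} (h : Commute y ⁅x, y⁆) : ⁅x, y⁻¹⁆ = ⁅x, y⁆⁻¹ := by
  calc ⁅x, y⁻¹⁆ = y⁻¹ * ⁅x, y⁆⁻¹ * y := by simp only [commutatorElement_def]; group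
    _ = ⁅x, y⁆⁻¹ := by rw [mul_assoc, ← h.inv_right.eq, inv_mul_cancel_left]

theorem conj_commutator (g x y : X) : g * ⁅x, y⁆ * g⁻¹ = ⁅g * x * g⁻¹, g * y * g⁻¹⁆ :=
  map_commutatorElement (MulAut.conj g) x y

/-! ### An extraspecial group of order twenty-seven -/

theorem card_closure_of_closed [Finite Q] (a b : Q) (S : Finset Q) (h1 : (1 : Q) ∈ S)
    (hmem : ∀ x ∈ S, x ∈ closure ({a, b} : Set Q)) (hcl : ∀ x ∈ S, x * a ∈ S ∧ x * b ∈ S) :
    Nat.card (closure ({a, b} : Set Q)) = S.card := by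
  have heq : (closure ({a, b} : Set Q) : Set Q) = (S : Set Q) := by
    refine Set.Subset.antisymm (fun x hx => ?_) (fun x hx => hmem x hx)
    rw [SetLike.mem_coe, ← mem_toSubmonoid, closure_toSubmonoid_of_finite] at hx
    induction hx using Submonoid.closure_induction_right with
    | one => exact h1
    | mul_right x _ y hy ih =>
      rcases hy with h | h
      · exact h ▸ (hcl x ih).1
      · exact (Set.mem_singleton_iff.1 h) ▸ (hcl x ih).2
  rw [← Nat.card_coe_set_eq (S : Set Q) |>.trans (Set.ncard_coe_finset S), ← heq]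
  rfl

theorem twentyseven_bound [Finite X] [Finite Q] (hs : Function.Surjective ξ) (hk : ξ.ker ≤ center X)
    (a b g h : Q) (ha : a ^ 3 = 1) (hb : b ^ 3 = 1) (hca : Commute a ⁅a, b⁆)
    (hcb : Commute b ⁅a, b⁆) (hc1 : ⁅a, b⁆ ≠ 1) (hga : g * a * g⁻¹ = a) (hgb : g * b * g⁻¹ = b⁻¹)
    (hha : h * a * h⁻¹ = a⁻¹) (hhb : h * b * h⁻¹ = b) :
    ∀ z ∈ ξ.ker ⊓ commutator X, z ^ (closure ({a, b} : Set Q)).index = 1 := by
  obtain ⟨A, hA⟩ := hs a
  obtain ⟨B, hB⟩ := hs b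
  obtain ⟨G, hG⟩ := hs g
  obtain ⟨H, hH⟩ := hs h
  set C := ⁅A, B⁆ with hC
  have hξC : ξ C = ⁅a, b⁆ := by rw [hC, map_commutatorElement, hA, hB]
  have hcen : ∀ {x : X}, ξ x = 1 → x ∈ center X := fun hx => hk hx
  have hA3 : ξ (A ^ 3) = 1 := by rw [map_pow, hA, ha]
  have hB3 : ξ (B ^ 3) = 1 := by rw [map_pow, hB, hb]
  have hdA : ξ ⁅A, C⁆ = 1 := by
    rw [map_commutatorElement, hA, hξC, commutatorElement_eq_one_iff_mul_comm]; exact hca
  have hdB : ξ ⁅B, C⁆ = 1 := by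
    rw [map_commutatorElement, hB, hξC, commutatorElement_eq_one_iff_mul_comm]; exact hcb
  have hthree : ∀ {x y : X}, ξ (x ^ 3) = 1 → ξ ⁅x, y⁆ = 1 → ⁅x, y⁆ ^ 3 = 1 := fun hx hxy => by
    rw [← commutator_pow_left (comm_of_ker ξ hk hxy _) 3, commutatorElement_eq_one_iff_mul_comm]
    exact (comm_of_ker ξ hk hx _).symm
  have hinv : ∀ {d : X}, d ^ 3 = 1 → d = d⁻¹ → d = 1 := fun {d} h3 h2 => by
    have : d * d = 1 := mul_eq_one_iff_eq_inv.2 h2
    rwa [pow_succ, sq, this, one_mul] at h3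
  -- `A` commutes with the commutator
  have hAC : ⁅A, C⁆ = 1 := by
    refine hinv (hthree hA3 hdA) ?_
    obtain ⟨z, hz, e1⟩ : ∃ z ∈ center X, G * A * G⁻¹ = A * z :=
      ⟨A⁻¹ * (G * A * G⁻¹), hcen (by simp [hA, hG, hga]), by group⟩
    obtain ⟨w, hw, e2⟩ : ∃ w ∈ center X, G * B * G⁻¹ = B⁻¹ * w :=
      ⟨B * (G * B * G⁻¹), hcen (by simp [hB, hG, hgb]), by group⟩
    have hεk : ξ (C * (B⁻¹ * C⁻¹ * B)) = 1 := by
      have := hcb.inv_left.eq
      rw [map_mul, map_mul, map_mul, map_inv, map_inv, hξC, hB]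
      calc ⁅a, b⁆ * (b⁻¹ * ⁅a, b⁆⁻¹ * b) = ⁅a, b⁆ * b⁻¹ * ⁅a, b⁆⁻¹ * b := by group
        _ = 1 := by rw [← this]; group
    have e3 : G * C * G⁻¹ = C⁻¹ * (C * (B⁻¹ * C⁻¹ * B)) := by
      rw [hC, conj_commutator, e1, e2, commutator_mul_central hz hw]
      simp only [commutatorElement_def]
      group
    calc ⁅A, C⁆ = G * ⁅A, C⁆ * G⁻¹ := by
          rw [comm_of_ker ξ hk hdA G, mul_inv_cancel_right]
      _ = ⁅A, C⁻¹⁆ := by
          rw [conj_commutator, e1, e3, commutator_mul_central hz (hcen hεk)]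
      _ = ⁅A, C⁆⁻¹ := commutator_inv_right (comm_of_ker ξ hk hdA C)
  -- `B` commutes with the commutator
  have hBC : ⁅B, C⁆ = 1 := by
    refine hinv (hthree hB3 hdB) ?_
    obtain ⟨z, hz, e1⟩ : ∃ z ∈ center X, H * B * H⁻¹ = B * z :=
      ⟨B⁻¹ * (H * B * H⁻¹), hcen (by simp [hB, hH, hhb]), by group⟩
    obtain ⟨w, hw, e2⟩ : ∃ w ∈ center X, H * A * H⁻¹ = A⁻¹ * w :=
      ⟨A * (H * A * H⁻¹), hcen (by simp [hA, hH, hha]), by group⟩
    have hεk : ξ (C * (A⁻¹ * C⁻¹ * A)) = 1 := by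
      have := hca.inv_left.eq
      rw [map_mul, map_mul, map_mul, map_inv, map_inv, hξC, hA]
      calc ⁅a, b⁆ * (a⁻¹ * ⁅a, b⁆⁻¹ * a) = ⁅a, b⁆ * a⁻¹ * ⁅a, b⁆⁻¹ * a := by group
        _ = 1 := by rw [← this]; group
    have e3 : H * C * H⁻¹ = C⁻¹ * (C * (A⁻¹ * C⁻¹ * A)) := by
      rw [hC, conj_commutator, e1, e2, commutator_mul_central hw hz]
      simp only [commutatorElement_def]
      group
    calc ⁅B, C⁆ = H * ⁅B, C⁆ * H⁻¹ := by
          rw [comm_of_ker ξ hk hdB H, mul_inv_cancel_right]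
      _ = ⁅B, C⁻¹⁆ := by
          rw [conj_commutator, e1, e3, commutator_mul_central hz (hcen hεk)]
      _ = ⁅B, C⁆⁻¹ := commutator_inv_right (comm_of_ker ξ hk hdB C)
  have hA' : Commute A C := commutatorElement_eq_one_iff_mul_comm.1 hAC
  have hB' : Commute B C := commutatorElement_eq_one_iff_mul_comm.1 hBC
  have hC3 : C ^ 3 = 1 := by
    rw [hC, ← commutator_pow_left hA' 3, commutatorElement_eq_one_iff_mul_comm]
    exact (comm_of_ker ξ hk hA3 B).symm
  intro z hz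
  have hm := Alternating.pow_index_mem_pair ξ hs hk hA hB
    (by rw [← hC, hA'.eq, mul_inv_cancel_right]; exact mem_zpowers _)
    (by rw [← hC, hB'.eq, mul_inv_cancel_right]; exact mem_zpowers _) hz.1 hz.2
  obtain ⟨i, hi⟩ := mem_zpowers_iff.1 hm
  have h1 : ⁅a, b⁆ ^ i = 1 := by
    rw [← hξC, hC, ← map_zpow, hi, map_pow, show ξ z = 1 from hz.1, one_pow]
  have h3 : ⁅a, b⁆ ^ 3 = 1 := by rw [← hξC, ← map_pow, hC3, map_one]
  haveI : Fact (Nat.Prime 3) := ⟨Nat.prime_three⟩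
  have ho : orderOf ⁅a, b⁆ = 3 := orderOf_eq_prime h3 hc1
  obtain ⟨j, rfl⟩ : (3 : ℤ) ∣ i := by
    have := orderOf_dvd_iff_zpow_eq_one.2 h1
    rwa [ho] at this
  rw [← hi, zpow_mul, zpow_ofNat, ← hC, hC3, one_zpow]

/-! ### Reduction to double covers -/

/-- An abelian group of even order has a subgroup of index two. -/
theorem exists_index_two {K : Type u} [Group K] [Finite K] (hc : ∀ a b : K, a * b = b * a)
    (he : 2 ∣ Nat.card K) : ∃ L : Subgroup K, L.index = 2 := by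
  let sqh : K →* K :=
    { toFun := fun x => x * x
      map_one' := one_mul 1
      map_mul' := fun a b => by
        calc a * b * (a * b) = a * (b * a) * b := by group
          _ = a * (a * b) * b := by rw [hc b a]
          _ = a * a * (b * b) := by group }
  have hne : sqh.range ≠ ⊤ := fun htop => by
    have hinj := Finite.injective_iff_surjective.2 (MonoidHom.range_eq_top.1 htop)
    haveI : Fact (Nat.Prime 2) := ⟨Nat.prime_two⟩
    obtain ⟨x, hx⟩ := exists_prime_orderOf_dvd_card' (G := K) 2 he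
    have h2 : x * x = 1 := by rw [← sq, ← hx, pow_orderOf_eq_one]
    have : x = 1 := hinj (show sqh x = sqh 1 from h2.trans (one_mul 1).symm)
    rw [this, orderOf_one] at hx
    omega
  obtain ⟨L, ⟨hRL, hLtop⟩, hmax⟩ := Set.Finite.exists_maximalFor (fun L : Subgroup K => L)
    {L : Subgroup K | sqh.range ≤ L ∧ L ≠ ⊤} (Set.toFinite _) ⟨sqh.range, le_rfl, hne⟩
  obtain ⟨x, -, hx⟩ := SetLike.exists_of_lt hLtop.lt_top
  haveI : L.Normal := ⟨fun n hn g => by rwa [hc g n, mul_inv_cancel_right]⟩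
  have htop : L ⊔ zpowers x = ⊤ := by
    by_contra hne'
    have h1 : L ⊔ zpowers x ≤ L := hmax ⟨le_trans hRL le_sup_left, hne'⟩ le_sup_left
    exact hx (h1 (mem_sup_right (mem_zpowers x)))
  refine ⟨L, index_eq_two_iff.2 ⟨x, fun b => ?_⟩⟩
  by_cases hb : b ∈ L
  · refine Or.inr ⟨hb, fun h => hx ?_⟩
    have := L.mul_mem (L.inv_mem hb) h
    rwa [inv_mul_cancel_left] at this
  · refine Or.inl ⟨?_, hb⟩
    obtain ⟨l, hl, y, hy, rfl⟩ := mem_sup_of_normal_left.1
      (show b ∈ L ⊔ zpowers x from htop ▸ mem_top b)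
    obtain ⟨i, rfl⟩ := mem_zpowers_iff.1 hy
    have hx2 : x * x ∈ L := hRL ⟨x, rfl⟩
    rcases Int.even_or_odd i with ⟨j, rfl⟩ | ⟨j, rfl⟩
    · exact absurd (L.mul_mem hl (by
        rw [← two_mul, zpow_mul, zpow_two]
        exact L.zpow_mem hx2 j)) hb
    · rw [mul_assoc, ← zpow_add_one, show (2 * j + 1 + 1 : ℤ) = 2 * (j + 1) by ring, zpow_mul,
        zpow_two]
      exact L.mul_mem hl (L.zpow_mem hx2 _)

/-- Without a stem double cover the kernel of a stem extension has odd order. -/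
theorem odd_card_ker [Finite Q] [Finite X] (σ : X →* Q) (hσ : Cfsg.IsStemExtension σ)
    (hcore : ∀ (Y : Type u) [Group Y] [Finite Y] (ζ : Y →* Q), Function.Surjective ζ →
      ζ.ker ≤ center Y → Nat.card ζ.ker = 2 → ζ.ker ≤ commutator Y → False) :
    ¬ 2 ∣ Nat.card σ.ker := fun he => by
  obtain ⟨L, hL⟩ := exists_index_two (K := σ.ker)
    (fun a b => Subtype.ext (mem_center_iff.1 (hσ.2.1 b.2) a.1)) he
  set N := L.map σ.ker.subtype with hN
  have hle : N ≤ σ.ker := map_subtype_le L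
  haveI : N.Normal := ⟨fun n hn g => by
    rwa [mem_center_iff.1 (hσ.2.1 (hle hn)) g, mul_inv_cancel_right]⟩
  let ζ : X ⧸ N →* Q := QuotientGroup.lift N σ hle
  have hsurj : Function.Surjective ζ := fun q => by
    obtain ⟨x, hx⟩ := hσ.1 q
    exact ⟨QuotientGroup.mk x, hx⟩
  have hker : ζ.ker = σ.ker.map (QuotientGroup.mk' N) := by
    refine le_antisymm (fun y hy => ?_) ?_
    · obtain ⟨x, rfl⟩ := QuotientGroup.mk'_surjective N y
      exact ⟨x, hy, rfl⟩
    · rintro _ ⟨x, hx, rfl⟩; exact hx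
  have hstem : ζ.ker ≤ commutator (X ⧸ N) := by
    rw [hker]
    refine (map_mono hσ.2.2).trans ?_
    rw [_root_.commutator_def, _root_.commutator_def, map_commutator]
    exact commutator_mono le_top le_top
  have hcen : ζ.ker ≤ center (X ⧸ N) := by
    rw [hker]
    rintro _ ⟨x, hx, rfl⟩
    refine mem_center_iff.2 fun y => ?_
    obtain ⟨w, rfl⟩ := QuotientGroup.mk'_surjective N y
    rw [← map_mul, ← map_mul, mem_center_iff.1 (hσ.2.1 hx) w]
  have h1 := ζ.ker.card_mul_index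
  rw [index_ker, MonoidHom.range_eq_top.2 hsurj, card_top] at h1
  have h2 := σ.ker.card_mul_index
  rw [index_ker, MonoidHom.range_eq_top.2 hσ.1, card_top] at h2
  have h3 := N.card_mul_index
  rw [Subgroup.index, ← h1, ← h2, ← L.card_mul_index, hL,
    show Nat.card N = Nat.card L from card_map_of_injective σ.ker.subtype_injective] at h3
  have h4 : Nat.card ζ.ker = 2 := by
    have hQ : 0 < Nat.card Q := Nat.card_pos
    have hLp : 0 < Nat.card L := Nat.card_pos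
    rw [← mul_assoc] at h3
    exact Nat.eq_of_mul_eq_mul_left hLp (Nat.eq_of_mul_eq_mul_right hQ h3)
  exact hcore (X ⧸ N) ζ hsurj hcen h4 hstem

/-! ### One class of involutions with three independent members -/

section Squares

variable (hk : ξ.ker ≤ center X) (h2 : ∀ k : X, ξ k = 1 → k * k = 1)
include hk h2

theorem sq_eq_of_conj (hs : Function.Surjective ξ) {T x : X} {g : Q}
    (ht : ξ (T * T) = 1) (hx : ξ x = g * ξ T * g⁻¹) : x * x = T * T := by
  obtain ⟨G, hG⟩ := hs g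
  have hkk : ξ ((G * T * G⁻¹)⁻¹ * x) = 1 := by
    rw [map_mul, map_inv, hx, map_mul, map_mul, map_inv, hG, inv_mul_cancel]
  set k := (G * T * G⁻¹)⁻¹ * x with hkd
  have hx' : x = G * T * G⁻¹ * k := by rw [hkd, mul_inv_cancel_left]
  have hc := comm_of_ker ξ hk hkk (G * T * G⁻¹)
  have hc' := comm_of_ker ξ hk ht G
  calc x * x = G * T * G⁻¹ * (k * (G * T * G⁻¹)) * k := by rw [hx']; group
    _ = (G * (T * T)) * G⁻¹ * (k * k) := by rw [← hc]; group
    _ = T * T := by rw [h2 k hkk, hc']; group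

/-- The lifts of an elementary abelian group in which every involution is conjugate to `ξ T`
square to one, if it has three independent elements. -/
theorem sq_eq_one_of_class (hs : Function.Surjective ξ) (V : Subgroup Q) (T : X)
    (hV : ∀ v ∈ V, v * v = 1) (hconj : ∀ v ∈ V, v ≠ 1 → ∃ g, v = g * ξ T * g⁻¹)
    (ht : ξ (T * T) = 1) {a b c : Q} (ha : a ∈ V) (hb : b ∈ V) (hc : c ∈ V) (ha1 : a ≠ 1)
    (hb1 : b ≠ 1) (hc1 : c ≠ 1) (hab : a ≠ b) (hac : a ≠ c) (hbc : b ≠ c) (habc : a ≠ b * c) :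
    T * T = 1 := by
  have hsq : ∀ x : X, ξ x ∈ V → ξ x ≠ 1 → x * x = T * T := fun x hx hx1 => by
    obtain ⟨g, hg⟩ := hconj _ hx hx1
    exact sq_eq_of_conj ξ hk h2 hs ht hg
  have hne : ∀ {p q : Q}, q ∈ V → p ≠ q → p * q ≠ 1 := fun {p q} hq h e =>
    h ((mul_eq_one_iff_eq_inv.1 e).trans (inv_eq_of_mul_eq_one_left (hV q hq)))
  have hcomm : ∀ x y : X, ξ x ∈ V → ξ y ∈ V → ξ x ≠ 1 → ξ y ≠ 1 → ξ x ≠ ξ y →
      ⁅x, y⁆ = T * T := by
    intro x y hx hy hx1 hy1 hxy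
    have ex := hsq x hx hx1
    have ey := hsq y hy hy1
    have exy := hsq (x * y) (by rw [map_mul]; exact mul_mem hx hy)
      (by rw [map_mul]; exact hne hy hxy)
    have he2 := h2 _ ht
    have hce : ∀ w : X, w * (T * T) = T * T * w := comm_of_ker ξ hk ht
    have ex' : x⁻¹ = x * (T * T) := by
      refine inv_eq_of_mul_eq_one_right ?_
      rw [← mul_assoc, ex, he2]
    have ey' : y⁻¹ = y * (T * T) := by
      refine inv_eq_of_mul_eq_one_right ?_
      rw [← mul_assoc, ey, he2]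
    calc ⁅x, y⁆ = x * y * x⁻¹ * y⁻¹ := commutatorElement_def x y
      _ = x * y * x * (T * T * y) * (T * T) := by rw [ex', ey']; group
      _ = (x * y) * (x * y) * ((T * T) * (T * T)) := by rw [← hce y]; group
      _ = T * T := by rw [exy, he2, mul_one]
  obtain ⟨A, hA⟩ := hs a
  obtain ⟨B, hB⟩ := hs b
  obtain ⟨C, hC⟩ := hs c
  have h1 := hcomm A (B * C) (hA.symm ▸ ha) (by rw [map_mul, hB, hC]; exact mul_mem hb hc)
    (hA.symm ▸ ha1) (by rw [map_mul, hB, hC]; exact hne hc hbc)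
    (by rw [map_mul, hA, hB, hC]; exact habc)
  have e1 := hcomm A B (hA.symm ▸ ha) (hB.symm ▸ hb) (hA.symm ▸ ha1) (hB.symm ▸ hb1)
    (by rw [hA, hB]; exact hab)
  have e2 := hcomm A C (hA.symm ▸ ha) (hC.symm ▸ hc) (hA.symm ▸ ha1) (hC.symm ▸ hc1)
    (by rw [hA, hC]; exact hac)
  rw [show ⁅A, B * C⁆ = ⁅A, B⁆ * (B * ⁅A, C⁆ * B⁻¹) by simp [commutatorElement_def, mul_assoc],
    e1, e2, comm_of_ker ξ hk ht B, mul_inv_cancel_right, h2 _ ht] at h1
  exact h1.symm

end Squares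

/-! ### The invariant complement -/

/-- `g` normalises `V` and fixes only the identity. -/
def Fpf (V : Subgroup Q) (g : Q) : Prop :=
  (∀ v ∈ V, g * v * g⁻¹ ∈ V) ∧ ∀ v ∈ V, g * v * g⁻¹ = v → v = 1

section Complement

variable (V : Subgroup Q) (hsq : ∀ x, ξ x ∈ V → x * x = 1)
include hsq

theorem comm_comap {x y : X} (hx : ξ x ∈ V) (hy : ξ y ∈ V) : x * y = y * x := by
  have h := hsq (x * y) (by rw [map_mul]; exact mul_mem hx hy)
  have ex : x⁻¹ = x := inv_eq_of_mul_eq_one_right (hsq x hx)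
  have ey : y⁻¹ = y := inv_eq_of_mul_eq_one_right (hsq y hy)
  rw [← inv_eq_of_mul_eq_one_right h, mul_inv_rev, ex, ey]

/-- The elements `G x G⁻¹ x`. -/
def twist (G : X) (hG : ∀ v ∈ V, ξ G * v * (ξ G)⁻¹ ∈ V) : Subgroup X where
  carrier := {y | ∃ x, ξ x ∈ V ∧ G * x * G⁻¹ * x = y}
  one_mem' := ⟨1, by rw [map_one]; exact V.one_mem, by group⟩
  mul_mem' := by
    rintro _ _ ⟨x, hx, rfl⟩ ⟨y, hy, rfl⟩
    refine ⟨x * y, by rw [map_mul]; exact mul_mem hx hy, ?_⟩
    have hGy : ξ (G * y * G⁻¹) ∈ V := by rw [map_mul, map_mul, map_inv]; exact hG _ hy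
    calc G * (x * y) * G⁻¹ * (x * y) = G * x * G⁻¹ * ((G * y * G⁻¹) * x) * y := by group
      _ = G * x * G⁻¹ * (x * (G * y * G⁻¹)) * y := by rw [comm_comap ξ V hsq hGy hx]
      _ = _ := by group
  inv_mem' := by
    rintro _ ⟨x, hx, rfl⟩
    refine ⟨x⁻¹, by rw [map_inv]; exact inv_mem hx, ?_⟩
    have hGx : ξ (G * x * G⁻¹) ∈ V := by rw [map_mul, map_mul, map_inv]; exact hG _ hx
    rw [comm_comap ξ V hsq hGx hx, mul_inv_rev]
    group

theorem mem_twist_of {G x : X} (hG : ∀ v ∈ V, ξ G * v * (ξ G)⁻¹ ∈ V) (hx : ξ x ∈ V) :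
    G * x * G⁻¹ * x ∈ twist ξ V hsq G hG := ⟨x, hx, rfl⟩

theorem twist_le {G y : X} (hG : ∀ v ∈ V, ξ G * v * (ξ G)⁻¹ ∈ V)
    (hy : y ∈ twist ξ V hsq G hG) : ξ y ∈ V := by
  obtain ⟨x, hx, rfl⟩ := hy
  rw [map_mul, map_mul, map_mul, map_inv]
  exact mul_mem (hG _ hx) hx

variable (hk : ξ.ker ≤ center X)
include hk

theorem twist_inf_ker {G y : X} (hG : Fpf V (ξ G)) (hy : y ∈ twist ξ V hsq G hG.1)
    (h : ξ y = 1) : y = 1 := by
  obtain ⟨x, hx, rfl⟩ := hy
  rw [map_mul, map_mul, map_mul, map_inv] at h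
  have hxx : ξ x = (ξ x)⁻¹ := mul_eq_one_iff_eq_inv.1 (by rw [← map_mul, hsq x hx, map_one])
  have h1 : ξ x = 1 := hG.2 _ hx ((mul_eq_one_iff_eq_inv.1 h).trans hxx.symm)
  rw [comm_of_ker ξ hk h1 G, mul_inv_cancel_right, hsq x hx]

omit hk in
theorem exists_twist [Finite Q] (hs : Function.Surjective ξ) {G : X} (hG : Fpf V (ξ G)) {v : Q}
    (hv : v ∈ V) : ∃ y ∈ twist ξ V hsq G hG.1, ξ y = v := by
  have hVsq : ∀ p ∈ V, p * p = 1 := fun p hp => by
    obtain ⟨P, rfl⟩ := hs p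
    rw [← map_mul, hsq P hp, map_one]
  have hVc : ∀ p ∈ V, ∀ q ∈ V, p * q = q * p := fun p hp q hq => by
    obtain ⟨P, rfl⟩ := hs p
    obtain ⟨R, rfl⟩ := hs q
    rw [← map_mul, ← map_mul, comm_comap ξ V hsq hp hq]
  let f : V →* V :=
    { toFun := fun x => ⟨ξ G * x * (ξ G)⁻¹ * x, mul_mem (hG.1 _ x.2) x.2⟩
      map_one' := Subtype.ext (by simp)
      map_mul' := fun x y => Subtype.ext (by
        show ξ G * ((x : Q) * y) * (ξ G)⁻¹ * ((x : Q) * y) =
          ξ G * x * (ξ G)⁻¹ * x * (ξ G * y * (ξ G)⁻¹ * y)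
        calc ξ G * ((x : Q) * y) * (ξ G)⁻¹ * ((x : Q) * y)
            = ξ G * x * (ξ G)⁻¹ * ((ξ G * y * (ξ G)⁻¹) * x) * y := by group
          _ = ξ G * x * (ξ G)⁻¹ * ((x : Q) * (ξ G * y * (ξ G)⁻¹)) * y := by
              rw [hVc _ (hG.1 _ y.2) _ x.2]
          _ = _ := by group) }
  have hinj : Function.Injective f := (injective_iff_map_eq_one f).2 fun x hx => by
    have h : ξ G * x * (ξ G)⁻¹ * x = 1 := congrArg Subtype.val hx
    exact Subtype.ext (hG.2 _ x.2 ((mul_eq_one_iff_eq_inv.1 h).trans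
      (inv_eq_of_mul_eq_one_left (hVsq _ x.2))))
  obtain ⟨x, hx⟩ := Finite.injective_iff_surjective.1 hinj ⟨v, hv⟩
  obtain ⟨P, hP⟩ := hs (x : Q)
  exact ⟨_, mem_twist_of ξ V hsq hG.1 (hP.symm ▸ x.2), by
    rw [map_mul, map_mul, map_mul, map_inv, hP]; exact congrArg Subtype.val hx⟩

/-- Commuting fixed-point-free elements cut out the same complement. -/
theorem twist_le_twist [Finite Q] (hs : Function.Surjective ξ) {G H : X} (hG : Fpf V (ξ G))
    (hH : Fpf V (ξ H)) (hc : Commute (ξ G) (ξ H)) :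
    twist ξ V hsq H hH.1 ≤ twist ξ V hsq G hG.1 := by
  rintro _ ⟨x, hx, rfl⟩
  obtain ⟨w, ⟨y, hy, rfl⟩, hwx⟩ := exists_twist ξ V hsq hs hG hx
  set w := G * y * G⁻¹ * y with hw
  have hkk : ξ (w⁻¹ * x) = 1 := by rw [map_mul, map_inv, hwx, inv_mul_cancel]
  have hwV : ξ w ∈ V := hwx.symm ▸ hx
  set k := w⁻¹ * x with hkd
  have hkv : ξ k ∈ V := by rw [hkk]; exact V.one_mem
  -- reduce `x` to `w`
  have hred : H * x * H⁻¹ * x = H * w * H⁻¹ * w := by
    calc H * x * H⁻¹ * x = H * w * (k * H⁻¹) * (w * k) := by rw [hkd]; group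
      _ = H * w * H⁻¹ * (k * (w * k)) := by rw [← comm_of_ker ξ hk hkk H⁻¹]; group
      _ = H * w * H⁻¹ * w * (k * k) := by rw [← comm_of_ker ξ hk hkk (w * k)]; group
      _ = H * w * H⁻¹ * w := by rw [hsq k hkv, mul_one]
  rw [hred]
  refine mul_mem ?_ ⟨y, hy, rfl⟩
  obtain ⟨c, hck, hHG⟩ : ∃ c, ξ c = 1 ∧ H * G * H⁻¹ = G * c := by
    refine ⟨G⁻¹ * (H * G * H⁻¹), ?_, by group⟩
    rw [map_mul, map_mul, map_mul, map_inv, map_inv, ← hc.eq, mul_inv_cancel_right, inv_mul_cancel]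
  have hy' : ξ (H * y * H⁻¹) ∈ V := by rw [map_mul, map_mul, map_inv]; exact hH.1 _ hy
  refine ⟨H * y * H⁻¹, hy', ?_⟩
  calc G * (H * y * H⁻¹) * G⁻¹ * (H * y * H⁻¹)
      = G * ((H * y * H⁻¹) * c) * c⁻¹ * G⁻¹ * (H * y * H⁻¹) := by group
    _ = G * c * (H * y * H⁻¹) * (G * c)⁻¹ * (H * y * H⁻¹) := by
        rw [comm_of_ker ξ hk hck (H * y * H⁻¹)]; group
    _ = H * w * H⁻¹ := by rw [← hHG, hw]; group

omit hk in
theorem conj_twist_le {G : X} (hG : ∀ v ∈ V, ξ G * v * (ξ G)⁻¹ ∈ V) :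
    ∀ y ∈ twist ξ V hsq G hG, G * y * G⁻¹ ∈ twist ξ V hsq G hG := by
  rintro _ ⟨x, hx, rfl⟩
  refine ⟨G * x * G⁻¹, by rw [map_mul, map_mul, map_inv]; exact hG _ hx, by group⟩

/-- Kernel commutators of a split extension with a connected set of fixed-point-free generators
fall into the derived group of the preimage of the complement. -/
theorem pow_index_mem_lift [Finite X] [Finite Q] (hs : Function.Surjective ξ) (S : Set Q) (c : Q)
    (hc : Fpf V c)
    (hS : ∀ s ∈ S, Fpf V s ∧ ∃ x, Fpf V x ∧ Commute c x ∧ Commute x s)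
    (hdis : V ⊓ closure S = ⊥) {z : X} (hz : z ∈ ξ.ker ⊓ commutator X) :
    z ^ (V ⊔ closure S).index ∈ ⁅(closure S).comap ξ, (closure S).comap ξ⁆ := by
  obtain ⟨G₀, rfl⟩ := hs c
  set W := twist ξ V hsq G₀ hc.1 with hW
  have heq : ∀ {H : X} (hH : Fpf V (ξ H)), ξ H ∈ S → twist ξ V hsq H hH.1 = W := by
    intro H hH hHS
    obtain ⟨-, q, hq, h1, h2⟩ := hS _ hHS
    obtain ⟨R, rfl⟩ := hs q
    exact le_antisymm ((twist_le_twist ξ V hsq hk hs hq hH h2).trans
      (twist_le_twist ξ V hsq hk hs hc hq h1))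
      ((twist_le_twist ξ V hsq hk hs hq hc h1.symm).trans
        (twist_le_twist ξ V hsq hk hs hH hq h2.symm))
  set N := normalizer (W : Set X) with hN
  have hmemN : ∀ g : X, (∀ y ∈ W, g * y * g⁻¹ ∈ W) → g ∈ N := fun g hg => by
    have hle : W.map (MulAut.conj g).toMonoidHom ≤ W := by
      rintro _ ⟨y, hy, rfl⟩; exact hg y hy
    have he : W.map (MulAut.conj g).toMonoidHom = W := eq_of_le_of_card_ge hle
      (le_of_eq (Nat.card_congr (W.equivMapOfInjective _ (MulAut.conj g).injective).toEquiv))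
    refine mem_normalizer_iff.2 fun x => ⟨hg x, fun hx => ?_⟩
    obtain ⟨y, hy, hyx⟩ : g * x * g⁻¹ ∈ W.map (MulAut.conj g).toMonoidHom := by rw [he]; exact hx
    rwa [← (MulAut.conj g).injective (show MulAut.conj g y = MulAut.conj g x from hyx)]
  have hkerN : ξ.ker ≤ N := fun k hk' => hmemN k fun y hy => by
    rwa [← comm_of_ker ξ hk hk' y, mul_inv_cancel_right]
  have hU : (V ⊔ closure S).comap ξ ≤ N := by
    rw [← sup_of_le_left hkerN, ← comap_map_eq]
    refine comap_mono (sup_le (fun v hv => ?_) ((closure_le _).2 fun s hs' => ?_))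
    · obtain ⟨P, rfl⟩ := hs v
      refine ⟨P, hmemN P fun y hy => ?_, rfl⟩
      rwa [comm_comap ξ V hsq hv (twist_le ξ V hsq hc.1 hy), mul_inv_cancel_right]
    · obtain ⟨H, rfl⟩ := hs s
      refine ⟨H, hmemN H fun y hy => ?_, rfl⟩
      rw [← heq (hS _ hs').1 hs'] at hy ⊢
      exact conj_twist_le ξ V hsq _ y hy
  set C := (closure S).comap ξ with hC
  have hCN : C ≤ N := le_trans (comap_mono le_sup_right) hU
  have hWle : W ≤ N := le_normalizer
  -- the preimage is `W C`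
  have hdec : ∀ u ∈ (V ⊔ closure S).comap ξ, ∃ w ∈ W, ∃ d ∈ C, u = w * d := by
    intro u hu
    have hnV : closure S ≤ normalizer (V : Set Q) := by
      refine (closure_le _).2 fun s hs' => ?_
      have hle : V.map (MulAut.conj s).toMonoidHom ≤ V := by
        rintro _ ⟨y, hy, rfl⟩; exact (hS s hs').1.1 y hy
      have he := eq_of_le_of_card_ge hle
        (le_of_eq (Nat.card_congr (V.equivMapOfInjective _ (MulAut.conj s).injective).toEquiv))
      refine mem_normalizer_iff.2 fun x => ⟨(hS s hs').1.1 x, fun hx => ?_⟩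
      obtain ⟨y, hy, hyx⟩ : s * x * s⁻¹ ∈ V.map (MulAut.conj s).toMonoidHom := by
        rw [he]; exact hx
      rwa [← (MulAut.conj s).injective (show MulAut.conj s y = MulAut.conj s x from hyx)]
    have hmem : ξ u ∈ ((V ⊔ closure S : Subgroup Q) : Set Q) := hu
    rw [coe_mul_of_right_le_normalizer_left _ _ hnV] at hmem
    obtain ⟨v, hv, c', hc', e⟩ := hmem
    obtain ⟨w, hw, hwv⟩ := exists_twist ξ V hsq hs hc hv
    refine ⟨w, hw, w⁻¹ * u, ?_, by group⟩
    rw [hC, mem_comap, map_mul, map_inv, hwv, ← e, inv_mul_cancel_left]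
    exact hc'
  have hcomm : ⁅(V ⊔ closure S).comap ξ, (V ⊔ closure S).comap ξ⁆ ≤ W ⊔ ⁅C, C⁆ := by
    rw [commutator_le]
    intro p hp q hq
    obtain ⟨w1, hw1, d1, hd1, rfl⟩ := hdec p hp
    obtain ⟨w2, hw2, d2, hd2, rfl⟩ := hdec q hq
    rw [show ⁅w1 * d1, w2 * d2⁆ =
        w1 * (d1 * w2 * d1⁻¹) * ⁅d1, d2⁆ * (d2 * w1⁻¹ * d2⁻¹) * w2⁻¹ by
      simp only [commutatorElement_def]; group]
    refine mul_mem (mul_mem (mul_mem (mul_mem ?_ ?_) ?_) ?_) ?_
    · exact mem_sup_left hw1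
    · exact mem_sup_left ((mem_normalizer_iff.1 (hCN hd1) _).1 hw2)
    · exact mem_sup_right (commutator_mem_commutator hd1 hd2)
    · exact mem_sup_left ((mem_normalizer_iff.1 (hCN hd2) _).1 (W.inv_mem hw1))
    · exact mem_sup_left (W.inv_mem hw2)
  have h := Bound.pow_index_mem ξ hs (V ⊔ closure S) (hk hz.1) hz.2
  rw [map_subtype_commutator] at h
  have hm : z ^ (V ⊔ closure S).index ∈ ((W ⊔ ⁅C, C⁆ : Subgroup X) : Set X) := hcomm h
  rw [coe_mul_of_right_le_normalizer_left _ _ ((commutator_le_self C).trans hCN)] at hm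
  obtain ⟨w, hw, d, hd, hwd⟩ := hm
  have hξ : ξ w * ξ d = 1 := by
    rw [← map_mul, show w * d = z ^ (V ⊔ closure S).index from hwd, map_pow,
      show ξ z = 1 from hz.1, one_pow]
  have hwV : ξ w ∈ V := twist_le ξ V hsq hc.1 hw
  have hwC : ξ w ∈ closure S := by
    rw [mul_eq_one_iff_eq_inv.1 hξ]
    exact inv_mem (show ξ d ∈ closure S from commutator_le_self C hd)
  have hw1 : ξ w = 1 := by
    have : ξ w ∈ V ⊓ closure S := ⟨hwV, hwC⟩
    rwa [hdis, mem_bot] at this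
  rw [← show w * d = z ^ (V ⊔ closure S).index from hwd, twist_inf_ker ξ V hsq hk hc hw hw1,
    one_mul]
  exact hd

end Complement

/-! ### A dihedral pair with known squares -/

theorem dihedral_lift [Finite X] [Finite Q] (hs : Function.Surjective ξ) (hk : ξ.ker ≤ center X)
    (a b : Q) (hb : ∀ y, ξ y = b → y * y = 1) (hba : ∀ y, ξ y = b * a → y * y = 1)
    (haa : ∀ y, ξ y = a * a → y * y = 1) (ha : a * a ≠ 1) {z : X}
    (hz : z ∈ ξ.ker ⊓ commutator X) : z ^ (closure ({a, b} : Set Q)).index = 1 := by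
  obtain ⟨A, hA⟩ := hs a
  obtain ⟨B, hB⟩ := hs b
  have hB2 := hb B hB
  have hBA := hba (B * A) (by rw [map_mul, hA, hB])
  have hA4 := haa (A * A) (by rw [map_mul, hA])
  have hBi : B⁻¹ = B := inv_eq_of_mul_eq_one_right hB2
  have hBAB : B * A * B = A⁻¹ := eq_inv_of_mul_eq_one_left (by rw [mul_assoc]; exact hBA)
  set d := ⁅A, B⁆ with hd
  have hdA : d = A * A := by
    calc d = A * (B * A * B⁻¹)⁻¹ := by rw [hd, commutatorElement_def]; group
      _ = A * A := by rw [hBi, hBAB, inv_inv]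
  have hd2 : d * d = 1 := by rw [hdA]; exact hA4
  have h := Alternating.pow_index_mem_pair ξ hs hk hA hB
    (by rw [← hd, hdA, show A * (A * A) * A⁻¹ = A * A by group]; exact mem_zpowers _)
    (by
      rw [← hd]
      have : B * d * B⁻¹ = d⁻¹ := by
        calc B * d * B⁻¹ = (B * A * B⁻¹) * (B * A * B⁻¹) := by rw [hdA]; group
          _ = d⁻¹ := by rw [hBi, hBAB, hdA, mul_inv_rev]
      rw [this]
      exact inv_mem (mem_zpowers _)) hz.1 hz.2
  rw [← hd] at h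
  obtain ⟨i, hi⟩ := mem_zpowers_iff.1 h
  have hξd : ξ d = a * a := by rw [hdA, map_mul, hA]
  have h1 : (a * a) ^ i = 1 := by
    rw [← hξd, ← map_zpow, hi, map_pow, show ξ z = 1 from hz.1, one_pow]
  haveI : Fact (Nat.Prime 2) := ⟨Nat.prime_two⟩
  have ho : orderOf (a * a) = 2 :=
    orderOf_eq_prime (by rw [sq, ← hξd, ← map_mul, hd2, map_one]) ha
  obtain ⟨j, rfl⟩ : (2 : ℤ) ∣ i := by
    have := orderOf_dvd_iff_zpow_eq_one.2 h1
    rwa [ho] at this
  rw [← hi, zpow_mul, zpow_two, hd2, one_zpow]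

end CfsgLib.Schur.OctadLift
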