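import Cfsg.Agent.Lib.Schur.Basic

/-! # The multiplier of a direct product -/

namespace CfsgLib.Schur.Product

universe u v w

open Subgroup CfsgLib.Schur.Basic
open scoped commutatorElement TensorProduct

/-- The central extension of `G` by `T` with a bimultiplicative cocycle. -/
@[ext] structure Twist {G : Type u} [Group G] {T : Type v} [CommGroup T] (β : G →* G →* T) where
  /-- the image in `G` -/
  fst : G
  /-- the central coordinate -/
  snd : T

namespace Twist

variable {G : Type u} [Group G] {T : Type v} [CommGroup T] (β : G →* G →* T)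

instance instGroupTwist : Group (Twist β) where
  mul p q := ⟨p.fst * q.fst, p.snd * q.snd * β p.fst q.fst⟩
  one := ⟨1, 1⟩
  inv p := ⟨p.fst⁻¹, p.snd⁻¹ * β p.fst p.fst⟩
  mul_assoc p q r := by
    refine Twist.ext (mul_assoc _ _ _) ?_
    show (p.snd * q.snd * β p.fst q.fst) * r.snd * β (p.fst * q.fst) r.fst
      = p.snd * (q.snd * r.snd * β q.fst r.fst) * β p.fst (q.fst * r.fst)
    simp only [map_mul, MonoidHom.mul_apply]
    simp only [mul_comm, mul_left_comm, mul_assoc]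
  one_mul p := by
    refine Twist.ext (one_mul _) ?_
    show (1 : T) * p.snd * β 1 p.fst = p.snd
    simp
  mul_one p := by
    refine Twist.ext (mul_one _) ?_
    show p.snd * 1 * β p.fst 1 = p.snd
    simp
  inv_mul_cancel p := by
    refine Twist.ext (inv_mul_cancel _) ?_
    show (p.snd⁻¹ * β p.fst p.fst) * p.snd * β p.fst⁻¹ p.fst = 1
    simp only [map_inv, MonoidHom.inv_apply]
    rw [mul_comm p.snd⁻¹, inv_mul_cancel_right, mul_inv_cancel]

theorem mul_fst (p q : Twist β) : (p * q).fst = p.fst * q.fst := rfl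
theorem mul_snd (p q : Twist β) : (p * q).snd = p.snd * q.snd * β p.fst q.fst := rfl
theorem inv_fst (p : Twist β) : p⁻¹.fst = p.fst⁻¹ := rfl
theorem inv_snd (p : Twist β) : p⁻¹.snd = p.snd⁻¹ * β p.fst p.fst := rfl

/-- Projection to `G`. -/
def projHom : Twist β →* G where
  toFun p := p.fst
  map_one' := rfl
  map_mul' _ _ := rfl

instance instFiniteTwist [Finite G] [Finite T] : Finite (Twist β) :=
  Finite.of_injective (fun p => (p.fst, p.snd)) fun _ _ h =>
    Twist.ext (congrArg Prod.fst h) (congrArg Prod.snd h)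

theorem commutator_mk (a b : G) (h : a * b = b * a) :
    ⁅(⟨a, 1⟩ : Twist β), (⟨b, 1⟩ : Twist β)⁆ = ⟨1, β a b / β b a⟩ := by
  rw [commutatorElement_def, mul_inv_eq_iff_eq_mul, mul_inv_eq_iff_eq_mul]
  refine Twist.ext ?_ ?_
  · simp [mul_fst, h]
  · simp [mul_snd, mul_fst]

end Twist

/-- The abelianized tensor product of two groups, written multiplicatively. -/
abbrev TensorAb (Q₁ : Type u) (Q₂ : Type v) [Group Q₁] [Group Q₂] : Type (max u v) :=
  Multiplicative (TensorProduct ℤ (Additive (Abelianization Q₁)) (Additive (Abelianization Q₂)))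

variable {Q₁ : Type u} {Q₂ : Type v} [Group Q₁] [Group Q₂]

/-- The pairing into the tensor product. -/
noncomputable def pairing : Q₁ →* Q₂ →* TensorAb Q₁ Q₂ where
  toFun x :=
    { toFun := fun y => Multiplicative.ofAdd
        (Additive.ofMul (Abelianization.of x) ⊗ₜ[ℤ] Additive.ofMul (Abelianization.of y))
      map_one' := by simp
      map_mul' := fun a b => by simp [TensorProduct.tmul_add] }
  map_one' := by ext; simp
  map_mul' a b := by ext; simp [TensorProduct.add_tmul]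

theorem closure_pairing : closure (Set.range fun x : Q₁ × Q₂ => pairing x.1 x.2) = ⊤ := by
  rw [eq_top_iff]
  intro t _
  rw [← ofAdd_toAdd t]
  generalize Multiplicative.toAdd t = s
  induction s with
  | zero => exact one_mem _
  | add a b ha hb => rw [ofAdd_add]; exact mul_mem ha hb
  | tmul a b =>
    obtain ⟨x, hx⟩ := QuotientGroup.mk_surjective (Additive.toMul a : Abelianization Q₁)
    obtain ⟨y, hy⟩ := QuotientGroup.mk_surjective (Additive.toMul b : Abelianization Q₂)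
    refine subset_closure ⟨(x, y), ?_⟩
    show Multiplicative.ofAdd (Additive.ofMul (Abelianization.of x) ⊗ₜ[ℤ]
      Additive.ofMul (Abelianization.of y)) = _
    rw [show Abelianization.of x = Additive.toMul a from hx,
      show Abelianization.of y = Additive.toMul b from hy]
    rfl

/-- The cocycle on `Γ₁ × Γ₂`. -/
noncomputable def cocycle {Γ₁ : Type u} {Γ₂ : Type v} [Group Γ₁] [Group Γ₂] (σ₁ : Γ₁ →* Q₁) (σ₂ : Γ₂ →* Q₂) :
    Γ₁ × Γ₂ →* Γ₁ × Γ₂ →* TensorAb Q₁ Q₂ where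
  toFun x := (pairing (σ₁ x.1)).comp (σ₂.comp (MonoidHom.snd Γ₁ Γ₂))
  map_one' := by ext; simp
  map_mul' a b := by ext; simp

theorem cocycle_apply {Γ₁ : Type u} {Γ₂ : Type v} [Group Γ₁] [Group Γ₂] (σ₁ : Γ₁ →* Q₁) (σ₂ : Γ₂ →* Q₂)
    (a b : Γ₁ × Γ₂) : cocycle σ₁ σ₂ a b = pairing (σ₁ a.1) (σ₂ b.2) := rfl

/-- A stem extension of `Q₁ × Q₂` with kernel `ker σ₁ × ker σ₂ × (Q₁ᵃᵇ ⊗ Q₂ᵃᵇ)`. -/
theorem exists_stem [Finite Q₁] [Finite Q₂] {Γ₁ : Type u} {Γ₂ : Type v} [Group Γ₁] [Group Γ₂]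
    (σ₁ : Γ₁ →* Q₁) (σ₂ : Γ₂ →* Q₂) (h₁ : Cfsg.IsStemExtension σ₁)
    (h₂ : Cfsg.IsStemExtension σ₂) :
    ∃ (X : Type (max u v)) (_ : Group X) (σ : X →* Q₁ × Q₂), Cfsg.IsStemExtension σ ∧
      Nonempty (σ.ker ≃* σ₁.ker × σ₂.ker × TensorAb Q₁ Q₂) := by
  let β := cocycle σ₁ σ₂
  let σ : Twist β →* Q₁ × Q₂ := (σ₁.prodMap σ₂).comp (Twist.projHom β)
  have hσ : ∀ p : Twist β, p ∈ σ.ker ↔ σ₁ p.fst.1 = 1 ∧ σ₂ p.fst.2 = 1 := fun p => Prod.ext_iff
  refine ⟨Twist β, inferInstance, σ, ⟨?_, ?_, ?_⟩, ⟨?_⟩⟩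
  · rintro ⟨a, b⟩
    obtain ⟨x, rfl⟩ := h₁.1 a
    obtain ⟨y, rfl⟩ := h₂.1 b
    exact ⟨⟨(x, y), 1⟩, rfl⟩
  · intro p hp
    obtain ⟨hp1, hp2⟩ := (hσ p).mp hp
    rw [mem_center_iff]
    intro q
    refine Twist.ext ?_ ?_
    · rw [Twist.mul_fst, Twist.mul_fst]
      exact Prod.ext (mem_center_iff.mp (h₁.2.1 hp1) _) (mem_center_iff.mp (h₂.2.1 hp2) _)
    · rw [Twist.mul_snd, Twist.mul_snd, cocycle_apply, cocycle_apply, hp1, hp2, map_one, map_one,
        MonoidHom.one_apply, mul_one, mul_one, mul_comm]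
  · intro p hp
    obtain ⟨hp1, hp2⟩ := (hσ p).mp hp
    have hinl : ∀ x ∈ commutator Γ₁, (⟨(x, 1), 1⟩ : Twist β) ∈ commutator (Twist β) := by
      intro x hx
      let i : Γ₁ →* Twist β :=
        { toFun := fun x => ⟨(x, 1), 1⟩
          map_one' := rfl
          map_mul' := fun a b => Twist.ext (by simp [Twist.mul_fst]) (by
            simp [Twist.mul_snd, β, cocycle_apply]) }
      have h : (commutator Γ₁).map i ≤ commutator (Twist β) := by
        rw [_root_.commutator_def, _root_.commutator_def, map_commutator]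
        exact commutator_mono le_top le_top
      exact h ⟨x, hx, rfl⟩
    have hinr : ∀ x ∈ commutator Γ₂, (⟨(1, x), 1⟩ : Twist β) ∈ commutator (Twist β) := by
      intro x hx
      let i : Γ₂ →* Twist β :=
        { toFun := fun x => ⟨(1, x), 1⟩
          map_one' := rfl
          map_mul' := fun a b => Twist.ext (by simp [Twist.mul_fst]) (by
            simp [Twist.mul_snd, β, cocycle_apply]) }
      have h : (commutator Γ₂).map i ≤ commutator (Twist β) := by
        rw [_root_.commutator_def, _root_.commutator_def, map_commutator]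
        exact commutator_mono le_top le_top
      exact h ⟨x, hx, rfl⟩
    have htensor : ∀ t, (⟨1, t⟩ : Twist β) ∈ commutator (Twist β) := by
      intro t
      have ht : t ∈ closure (Set.range fun x : Q₁ × Q₂ => pairing x.1 x.2) := by
        rw [closure_pairing]; trivial
      induction ht using closure_induction with
      | mem y hy =>
        obtain ⟨⟨a, b⟩, rfl⟩ := hy
        obtain ⟨x, rfl⟩ := h₁.1 a
        obtain ⟨y, rfl⟩ := h₂.1 b
        have hc := Twist.commutator_mk β (x, 1) (1, y) (by simp)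
        simp only [β, cocycle_apply, map_one, MonoidHom.one_apply, div_one] at hc
        rw [← hc]
        exact commutator_mem_commutator (mem_top _) (mem_top _)
      | one => exact one_mem _
      | mul a b _ _ ha hb =>
        have := mul_mem ha hb
        rwa [show (⟨1, a⟩ : Twist β) * ⟨1, b⟩ = ⟨1, a * b⟩ from
          Twist.ext (one_mul _) (by simp [Twist.mul_snd])] at this
      | inv a _ ha =>
        have := inv_mem ha
        rwa [show (⟨1, a⟩ : Twist β)⁻¹ = ⟨1, a⁻¹⟩ from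
          Twist.ext inv_one (by simp [Twist.inv_snd])] at this
    have := mul_mem (mul_mem (hinl _ (h₁.2.2 hp1)) (hinr _ (h₂.2.2 hp2))) (htensor p.snd)
    convert this using 1
    refine Twist.ext ?_ ?_
    · simp [Twist.mul_fst]
    · simp [Twist.mul_snd, Twist.mul_fst, β, cocycle_apply, hp1]
  · exact
      { toFun := fun p => (⟨p.1.fst.1, ((hσ p.1).mp p.2).1⟩, ⟨p.1.fst.2, ((hσ p.1).mp p.2).2⟩, p.1.snd)
        invFun := fun t => ⟨⟨(t.1.1, t.2.1.1), t.2.2⟩, (hσ _).mpr ⟨t.1.2, t.2.1.2⟩⟩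
        left_inv := fun p => rfl
        right_inv := fun t => rfl
        map_mul' := fun p q => by
          refine Prod.ext rfl (Prod.ext rfl ?_)
          show (p.1 * q.1).snd = p.1.snd * q.1.snd
          rw [Twist.mul_snd, cocycle_apply, ((hσ p.1).mp p.2).1, map_one, MonoidHom.one_apply,
            mul_one] }

/-- The kernel of any stem extension of `Q₁ × Q₂` is at most as large as the expected multiplier. -/
theorem card_ker_le [Finite Q₁] [Finite Q₂] {X : Type w} [Group X] (σ : X →* Q₁ × Q₂)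
    (hσ : Cfsg.IsStemExtension σ) [Finite (TensorAb Q₁ Q₂)] :
    Nat.card σ.ker ≤ Nat.card (Mult Q₁ × Mult Q₂ × TensorAb Q₁ Q₂) := by
  obtain ⟨hs, hk, hd⟩ := hσ
  let X₁ : Subgroup X := ((MonoidHom.snd Q₁ Q₂).comp σ).ker
  let X₂ : Subgroup X := ((MonoidHom.fst Q₁ Q₂).comp σ).ker
  let ξ₁ : X₁ →* Q₁ := ((MonoidHom.fst Q₁ Q₂).comp σ).comp X₁.subtype
  let ξ₂ : X₂ →* Q₂ := ((MonoidHom.snd Q₁ Q₂).comp σ).comp X₂.subtype
  have hs₁ : Function.Surjective ξ₁ := fun q => by
    obtain ⟨x, hx⟩ := hs (q, 1)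
    exact ⟨⟨x, congrArg Prod.snd hx⟩, congrArg Prod.fst hx⟩
  have hs₂ : Function.Surjective ξ₂ := fun q => by
    obtain ⟨x, hx⟩ := hs (1, q)
    exact ⟨⟨x, congrArg Prod.fst hx⟩, congrArg Prod.snd hx⟩
  have hk₁ : ξ₁.ker ≤ center X₁ := fun x hx => mem_center_iff.mpr fun y =>
    Subtype.ext (mem_center_iff.mp (hk (Prod.ext hx x.2)) y.1)
  have hk₂ : ξ₂.ker ≤ center X₂ := fun x hx => mem_center_iff.mpr fun y =>
    Subtype.ext (mem_center_iff.mp (hk (Prod.ext x.2 hx)) y.1)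
  obtain ⟨η₁, hη₁⟩ := exists_lift (canon Q₁) ξ₁ hs₁ hk₁
  obtain ⟨η₂, hη₂⟩ := exists_lift (canon Q₂) ξ₂ hs₂ hk₂
  have hm₁ := map_multOf _ (canon_surjective Q₁) ξ₁ hk₁ η₁ hη₁
  have hm₂ := map_multOf _ (canon_surjective Q₂) ξ₂ hk₂ η₂ hη₂
  -- commutators between the two factors are central
  have hcen : ∀ (x : X₁) (y : X₂), ⁅(x : X), (y : X)⁆ ∈ σ.ker := by
    intro x y
    rw [MonoidHom.mem_ker, map_commutatorElement, commutatorElement_eq_one_iff_mul_comm]
    have h1 : (σ x.1).2 = 1 := x.2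
    have h2 : (σ y.1).1 = 1 := y.2
    exact Prod.ext (by simp [h2]) (by simp [h1])
  letI : CommGroup σ.ker :=
    { (inferInstance : Group σ.ker) with
      mul_comm := fun a b => Subtype.ext (mem_center_iff.mp (hk b.2) a.1) }
  let c : X₁ →* X₂ →* σ.ker :=
    { toFun := fun x =>
        { toFun := fun y => ⟨_, hcen x y⟩
          map_one' := Subtype.ext (commutatorElement_one_right _)
          map_mul' := fun y y' => Subtype.ext (by
            show ⁅(x : X), (y : X) * y'⁆ = ⁅(x : X), (y : X)⁆ * ⁅(x : X), (y' : X)⁆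
            have h := mem_center_iff.mp (hk (hcen x y')) (y : X)
            simp only [commutatorElement_def, mul_inv_rev] at h ⊢
            calc (x : X) * ((y : X) * y') * (x : X)⁻¹ * ((y' : X)⁻¹ * (y : X)⁻¹)
                = x * y * (x : X)⁻¹ * (((x : X) * y' * (x : X)⁻¹ * (y' : X)⁻¹) * (y : X)⁻¹) := by group
              _ = x * y * (x : X)⁻¹ * ((y : X)⁻¹ * ((x : X) * y' * (x : X)⁻¹ * (y' : X)⁻¹)) := by
                congr 1
                rw [eq_inv_mul_iff_mul_eq, ← mul_assoc, h, mul_inv_cancel_right]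
              _ = _ := by group) }
      map_one' := MonoidHom.ext fun y => Subtype.ext (commutatorElement_one_left _)
      map_mul' := fun x x' => MonoidHom.ext fun y => Subtype.ext (by
        show ⁅(x : X) * x', (y : X)⁆ = ⁅(x : X), (y : X)⁆ * ⁅(x' : X), (y : X)⁆
        have h := mem_center_iff.mp (hk (hcen x' y)) (x : X)
        have e : ⁅(x : X) * x', (y : X)⁆ = (x : X) * ⁅(x' : X), (y : X)⁆ * (x : X)⁻¹ * ⁅(x : X), (y : X)⁆ := by
          simp only [commutatorElement_def, mul_inv_rev]; group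
        rw [e, h, mul_inv_cancel_right, mem_center_iff.mp (hk (hcen x' y)) _]) }
  have hc₁ : ∀ (x x' : X₁) (y y' : X₂), ξ₁ x = ξ₁ x' → ξ₂ y = ξ₂ y' → c x y = c x' y' := by
    intro x x' y y' hx hy
    have h1 : c (x⁻¹ * x') = 1 := MonoidHom.ext fun z => Subtype.ext (by
      refine commutatorElement_eq_one_iff_mul_comm.mpr ?_
      exact (mem_center_iff.mp (hk (show ((x⁻¹ * x' : X₁) : X) ∈ σ.ker from Prod.ext
        (show ξ₁ (x⁻¹ * x') = 1 by rw [map_mul, map_inv, hx, inv_mul_cancel])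
        (x⁻¹ * x').2)) z.1).symm)
    have h2 : c x' (y⁻¹ * y') = 1 := Subtype.ext (by
      refine commutatorElement_eq_one_iff_mul_comm.mpr ?_
      exact mem_center_iff.mp (hk (show ((y⁻¹ * y' : X₂) : X) ∈ σ.ker from Prod.ext
        (y⁻¹ * y').2
        (show ξ₂ (y⁻¹ * y') = 1 by rw [map_mul, map_inv, hy, inv_mul_cancel]))) x'.1)
    rw [map_mul, map_inv, inv_mul_eq_one] at h1 h2
    rw [h1, h2]
  choose s₁ hs₁' using hs₁
  choose s₂ hs₂' using hs₂
  let cq : Q₁ →* Q₂ →* σ.ker :=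
    { toFun := fun a =>
        { toFun := fun b => c (s₁ a) (s₂ b)
          map_one' := by
            rw [hc₁ (s₁ a) (s₁ a) (s₂ 1) 1 rfl (by rw [hs₂', map_one]), map_one]
          map_mul' := fun b b' => by
            rw [hc₁ (s₁ a) (s₁ a) (s₂ (b * b')) (s₂ b * s₂ b') rfl (by rw [map_mul, hs₂', hs₂', hs₂']),
              map_mul] }
      map_one' := MonoidHom.ext fun b => by
        show c (s₁ 1) (s₂ b) = 1
        rw [hc₁ (s₁ 1) 1 (s₂ b) (s₂ b) (by rw [hs₁', map_one]) rfl, map_one, MonoidHom.one_apply]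
      map_mul' := fun a a' => MonoidHom.ext fun b => by
        show c (s₁ (a * a')) (s₂ b) = c (s₁ a) (s₂ b) * c (s₁ a') (s₂ b)
        rw [hc₁ (s₁ (a * a')) (s₁ a * s₁ a') (s₂ b) (s₂ b) (by rw [map_mul, hs₁', hs₁', hs₁']) rfl,
          map_mul, MonoidHom.mul_apply] }
  -- descend to abelianizations and the tensor product
  let cab : Abelianization Q₁ →* Abelianization Q₂ →* σ.ker :=
    Abelianization.lift
      { toFun := fun a => Abelianization.lift (cq a)
        map_one' := by ext; simp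
        map_mul' := fun a a' => by ext; simp }
  let f₁ : Additive (Abelianization Q₁) →+ Additive (Abelianization Q₂) →+ Additive σ.ker :=
    { toFun := fun a => MonoidHom.toAdditive (cab (Additive.toMul a))
      map_zero' := by ext; simp
      map_add' := fun a b => by ext; simp }
  let tl : TensorProduct ℤ (Additive (Abelianization Q₁)) (Additive (Abelianization Q₂)) →+ Additive σ.ker :=
    TensorProduct.liftAddHom f₁ fun r a b => by simp [map_zsmul]
  let i₁ : Mult Q₁ →* σ.ker := ((X₁.subtype.comp (η₁.comp (multOf (canon Q₁)).subtype)).codRestrict σ.ker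
    fun m => by
      have h := hm₁.le ⟨m.1, m.2, rfl⟩
      exact Prod.ext h.1 (η₁ m.1).2)
  let i₂ : Mult Q₂ →* σ.ker := ((X₂.subtype.comp (η₂.comp (multOf (canon Q₂)).subtype)).codRestrict σ.ker
    fun m => by
      have h := hm₂.le ⟨m.1, m.2, rfl⟩
      exact Prod.ext (η₂ m.1).2 h.1)
  let i₃ : TensorAb Q₁ Q₂ →* σ.ker := AddMonoidHom.toMultiplicativeLeft tl
  let F : Mult Q₁ × Mult Q₂ × TensorAb Q₁ Q₂ →* σ.ker := i₁.coprod (i₂.coprod i₃)
  refine Nat.card_le_card_of_surjective F fun z => ?_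
  -- the commutator subgroup lies in `X₁' X₂' K₀`
  let A₁ : Subgroup X := (commutator X₁).map X₁.subtype
  let A₂ : Subgroup X := (commutator X₂).map X₂.subtype
  let K₀ : Subgroup X := i₃.range.map σ.ker.subtype
  haveI hK₀ : K₀.Normal := ⟨fun n hn g => by
    obtain ⟨k, hkr, rfl⟩ := hn
    show g * (k : X) * g⁻¹ ∈ K₀
    rw [mem_center_iff.mp (hk k.2) g, mul_inv_cancel_right]
    exact ⟨k, hkr, rfl⟩⟩
  let L := A₁ ⊔ A₂ ⊔ K₀
  have hpair : ∀ (x : X₁) (y : X₂), ⁅(x : X), (y : X)⁆ ∈ L := fun x y => by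
    refine mem_sup_right ⟨c x y, ⟨pairing (ξ₁ x) (ξ₂ y), ?_⟩, rfl⟩
    show Additive.toMul (tl (Additive.ofMul (Abelianization.of (ξ₁ x)) ⊗ₜ[ℤ]
      Additive.ofMul (Abelianization.of (ξ₂ y)))) = c x y
    simp only [tl, TensorProduct.liftAddHom_tmul]
    show cq (ξ₁ x) (ξ₂ y) = c x y
    exact hc₁ _ _ _ _ (hs₁' _) (hs₂' _)
  have hX : ∀ x : X, ∃ (a : X₁) (b : X₂), x = a * b := by
    intro x
    obtain ⟨a, ha⟩ : ∃ a : X₁, ξ₁ a = (σ x).1 := ⟨s₁ _, hs₁' _⟩
    refine ⟨a, ⟨(a : X)⁻¹ * x, ?_⟩, (mul_inv_cancel_left _ _).symm⟩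
    show (σ ((a : X)⁻¹ * x)).1 = 1
    rw [map_mul, map_inv, Prod.fst_mul, Prod.fst_inv, show (σ (a : X)).1 = (σ x).1 from ha,
      inv_mul_cancel]
  haveI : (A₁ ⊔ A₂ ⊔ K₀).Normal := inferInstance
  have hcomm : commutator X ≤ L := by
    rw [_root_.commutator_def, commutator_le]
    intro x _ y _
    obtain ⟨a, b, rfl⟩ := hX x
    obtain ⟨a', b', rfl⟩ := hX y
    let q := QuotientGroup.mk' L
    have key : ∀ u v : X, ⁅u, v⁆ ∈ L → Commute (q u) (q v) := fun u v huv => by
      show q u * q v = q v * q u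
      rw [← commutatorElement_eq_one_iff_mul_comm, ← map_commutatorElement]
      exact (QuotientGroup.eq_one_iff _).mpr huv
    have e1 : Commute (q a) (q a') := key _ _ (mem_sup_left (mem_sup_left
      ⟨⁅a, a'⁆, commutator_mem_commutator (mem_top _) (mem_top _), map_commutatorElement X₁.subtype a a'⟩))
    have e2 : Commute (q b) (q b') := key _ _ (mem_sup_left (mem_sup_right
      ⟨⁅b, b'⁆, commutator_mem_commutator (mem_top _) (mem_top _), map_commutatorElement X₂.subtype b b'⟩))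
    have e3 : Commute (q a) (q b') := key _ _ (hpair a b')
    have e4 : Commute (q a') (q b) := key _ _ (hpair a' b)
    have e : Commute (q ((a : X) * b)) (q ((a' : X) * b')) := by
      rw [map_mul, map_mul]
      exact (e1.mul_right e3).mul_left (e4.symm.mul_right e2)
    rw [← QuotientGroup.eq_one_iff]
    show q ⁅(a : X) * b, (a' : X) * b'⁆ = 1
    rw [map_commutatorElement, commutatorElement_eq_one_iff_mul_comm]
    exact e
  have hz := hcomm (hd z.2)
  have hz' : (z : X) ∈ ((A₁ ⊔ A₂ ⊔ K₀ : Subgroup X) : Set X) := hz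
  rw [mul_normal] at hz'
  obtain ⟨w, hw, k, ⟨k', ⟨t, rfl⟩, rfl⟩, hwz⟩ := Set.mem_mul.mp hz'
  rw [mul_normal] at hw
  obtain ⟨_, ⟨u₁, hu₁, rfl⟩, _, ⟨u₂, hu₂, rfl⟩, rfl⟩ := Set.mem_mul.mp hw
  have hsum : σ (u₁ : X) * σ (u₂ : X) = 1 := by
    have h := z.2
    rw [MonoidHom.mem_ker, ← hwz, map_mul, map_mul] at h
    rwa [show σ (σ.ker.subtype (i₃ t)) = 1 from (i₃ t).2, mul_one] at h
  have hu1 : u₁ ∈ ξ₁.ker ⊓ commutator X₁ := ⟨by
    have := congrArg Prod.fst hsum
    rw [Prod.fst_mul, show (σ (u₂ : X)).1 = 1 from u₂.2, mul_one] at this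
    exact this, hu₁⟩
  have hu2 : u₂ ∈ ξ₂.ker ⊓ commutator X₂ := ⟨by
    have := congrArg Prod.snd hsum
    rw [Prod.snd_mul, show (σ (u₁ : X)).2 = 1 from u₁.2, one_mul] at this
    exact this, hu₂⟩
  obtain ⟨m₁, hm₁', rfl⟩ := hm₁.ge hu1
  obtain ⟨m₂, hm₂', rfl⟩ := hm₂.ge hu2
  refine ⟨(⟨m₁, hm₁'⟩, ⟨m₂, hm₂'⟩, t), Subtype.ext ?_⟩
  rw [← hwz, mul_assoc]
  rfl

end CfsgLib.Schur.Product
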