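import Cfsg.Agent.Lib.Schur.Basic
import Cfsg.Agent.Lib.Schur.Character

/-! # Projective representations and the multiplier -/

namespace CfsgLib.Schur.Projective

universe u v

open Subgroup CfsgLib.Schur.Basic
open scoped commutatorElement

variable {n : ℕ}

/-- The scalar matrices, as invertible matrices. -/
def scalarHom (n : ℕ) : ℂˣ →* GL (Fin n) ℂ :=
  Units.map (Matrix.scalar (Fin n)).toMonoidHom

theorem scalarHom_mem_center (c : ℂˣ) : scalarHom n c ∈ center (GL (Fin n) ℂ) := by
  rw [mem_center_iff]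
  intro g
  refine Units.ext ?_
  show (g : Matrix (Fin n) (Fin n) ℂ) * Matrix.scalar (Fin n) (c : ℂ)
    = Matrix.scalar (Fin n) (c : ℂ) * (g : Matrix (Fin n) (Fin n) ℂ)
  exact ((Matrix.scalar_commute (c : ℂ) (fun r' => Commute.all _ r') _).eq).symm

theorem exists_scalar_of_mem_center {g : GL (Fin n) ℂ} (hg : g ∈ center (GL (Fin n) ℂ)) :
    ∃ c : ℂˣ, scalarHom n c = g := by
  rw [Matrix.GeneralLinearGroup.center_eq_range_scalar] at hg
  obtain ⟨c, rfl⟩ := hg
  exact ⟨c, Units.ext rfl⟩

/-- A homomorphism from a subgroup meeting the commutator subgroup trivially into scalars is the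
restriction of a homomorphism of the whole group into scalars. -/
theorem exists_scalar_extension {E : Type u} [Group E] (C : Subgroup E)
    (hC : C ⊓ commutator E = ⊥) (μ : C →* center (GL (Fin n) ℂ)) :
    ∃ χ : E →* GL (Fin n) ℂ, (∀ e, χ e ∈ center (GL (Fin n) ℂ)) ∧ ∀ c : C, χ c = μ c := by
  haveI hc : IsMulCommutative C := ⟨⟨fun a b => by
    refine Subtype.ext (commutatorElement_eq_one_iff_mul_comm.mp ?_)
    have h : ⁅(a : E), (b : E)⁆ ∈ C ⊓ commutator E :=
      ⟨by rw [commutatorElement_def]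
          exact C.mul_mem (C.mul_mem (C.mul_mem a.2 b.2) (C.inv_mem a.2)) (C.inv_mem b.2),
        commutator_mem_commutator (mem_top _) (mem_top _)⟩
    rwa [hC] at h⟩⟩
  letI : CommGroup C := { (inferInstance : Group C) with mul_comm := hc.1.1 }
  let f : C →* Abelianization E := Abelianization.of.comp C.subtype
  have hf : Function.Injective f := (injective_iff_map_eq_one f).mpr fun c hc1 => by
    have h : (c : E) ∈ C ⊓ commutator E := ⟨c.2, by
      rw [← Abelianization.ker_of]; exact hc1⟩
    rw [hC] at h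
    exact Subtype.ext h
  let sc : ℂˣ →* center (GL (Fin n) ℂ) :=
    (scalarHom n).codRestrict _ scalarHom_mem_center
  have hsc : Function.Surjective sc := fun z => by
    obtain ⟨c, hc2⟩ := exists_scalar_of_mem_center z.2
    exact ⟨c, Subtype.ext hc2⟩
  letI : CommGroup (center (GL (Fin n) ℂ)) :=
    { (inferInstance : Group (center (GL (Fin n) ℂ))) with
      mul_comm := fun a b => Subtype.ext (mem_center_iff.mp b.2 a.1) }
  letI : DivisibleBy (Additive (center (GL (Fin n) ℂ))) ℤ :=
    Function.Surjective.divisibleBy (MonoidHom.toAdditive sc) hsc fun a m =>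
      map_zsmul (MonoidHom.toAdditive sc) m a
  obtain ⟨h, hh⟩ := (Module.Baer.of_divisible (Additive (center (GL (Fin n) ℂ)))).extension_property_addMonoidHom
    (MonoidHom.toAdditive f) (fun a b hab => hf hab) (MonoidHom.toAdditive μ)
  refine ⟨(center (GL (Fin n) ℂ)).subtype.comp ((MonoidHom.toAdditive.symm h).comp Abelianization.of),
    fun e => ((MonoidHom.toAdditive.symm h) (Abelianization.of e)).2, fun c => ?_⟩
  exact congrArg Subtype.val
    (congrArg (fun g => Additive.toMul (g (Additive.ofMul c))) hh)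

/-- Every projective representation comes from `Ext (canon Q)`. -/
theorem exists_lift_gl {Q : Type u} [Group Q] (γ : Q →* GL (Fin n) ℂ ⧸ center (GL (Fin n) ℂ)) :
    ∃ ρ : Ext (canon Q) →* GL (Fin n) ℂ,
      (QuotientGroup.mk' (center (GL (Fin n) ℂ))).comp ρ = γ.comp (proj (canon Q)) := by
  let X : Subgroup (Q × GL (Fin n) ℂ) := (γ.comp (MonoidHom.fst _ _)).eqLocus
    ((QuotientGroup.mk' (center (GL (Fin n) ℂ))).comp (MonoidHom.snd _ _))
  let ξ : X →* Q := (MonoidHom.fst _ _).comp X.subtype
  have hs : Function.Surjective ξ := fun q => by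
    obtain ⟨g, hg⟩ := QuotientGroup.mk'_surjective (center (GL (Fin n) ℂ)) (γ q)
    exact ⟨⟨(q, g), hg.symm⟩, rfl⟩
  have hk : ξ.ker ≤ center X := by
    rintro ⟨⟨q, g⟩, hqg⟩ hq
    have hq1 : q = 1 := hq
    have hg : g ∈ center (GL (Fin n) ℂ) := by
      have : γ q = QuotientGroup.mk' (center (GL (Fin n) ℂ)) g := hqg
      rw [hq1, map_one] at this
      exact (QuotientGroup.eq_one_iff g).mp this.symm
    rw [mem_center_iff]
    rintro ⟨⟨a, b⟩, _⟩
    refine Subtype.ext (Prod.ext ?_ (mem_center_iff.mp hg b))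
    show a * q = q * a
    simp [hq1]
  obtain ⟨η, hη⟩ := exists_lift (canon Q) ξ hs hk
  refine ⟨(MonoidHom.snd _ _).comp (X.subtype.comp η), MonoidHom.ext fun e => ?_⟩
  have h1 : γ (η e).1.1 = QuotientGroup.mk' _ (η e).1.2 := (η e).2
  have h2 : (η e).1.1 = proj (canon Q) e := by rw [← hη]; rfl
  rw [h2] at h1
  exact h1.symm

open Matrix in
/-- The monomial representation induced from a character of a central subgroup. -/
theorem exists_monomial {Γ : Type v} [Group Γ] {Q : Type u} [Group Q] [Finite Q] (σ : Γ →* Q)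
    (hs : Function.Surjective σ) (hk : σ.ker ≤ center Γ) (lam : σ.ker →* ℂˣ) :
    ∃ (m : ℕ) (ρ : Γ →* GL (Fin m) ℂ), 0 < m ∧ ∀ z : σ.ker, ρ z = scalarHom m (lam z) := by
  classical
  let m := Nat.card Q
  let e : Fin m ≃ Q := (Finite.equivFin Q).symm
  choose s hsσ using hs
  have hmem : ∀ (g : Γ) (j : Q), (s (σ g * j))⁻¹ * g * s j ∈ σ.ker := fun g j => by
    rw [MonoidHom.mem_ker, map_mul, map_mul, map_inv, hsσ, hsσ, mul_assoc, inv_mul_cancel]
  let c : Γ → Q → ℂˣ := fun g j => lam ⟨_, hmem g j⟩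
  let R : Γ → Matrix (Fin m) (Fin m) ℂ := fun g =>
    Matrix.of fun i j => if e i = σ g * e j then (c g (e j) : ℂ) else 0
  have hR : ∀ g h, R (g * h) = R g * R h := by
    intro g h
    ext i j
    rw [Matrix.mul_apply, Finset.sum_eq_single (e.symm (σ h * e j))]
    · simp only [R, Matrix.of_apply, Equiv.apply_symm_apply, if_true, map_mul, mul_assoc]
      by_cases hi : e i = σ g * (σ h * e j)
      · rw [if_pos hi, if_pos hi, ← Units.val_mul, ← map_mul]
        refine congrArg (fun x => ((lam x : ℂˣ) : ℂ)) (Subtype.ext ?_)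
        show (s (σ (g * h) * e j))⁻¹ * (g * h) * s (e j)
          = (s (σ g * (σ h * e j)))⁻¹ * g * s (σ h * e j) * ((s (σ h * e j))⁻¹ * h * s (e j))
        rw [map_mul, mul_assoc (σ g)]; group
      · rw [if_neg hi, if_neg hi, zero_mul]
    · intro k _ hk'
      simp only [R, Matrix.of_apply]
      exact mul_eq_zero_of_right _
        (if_neg fun hh => hk' (e.injective (by rw [Equiv.apply_symm_apply]; exact hh)))
    · intro h'; exact absurd (Finset.mem_univ _) h'
  have hker : ∀ z : σ.ker, R z = Matrix.scalar (Fin m) ((lam z : ℂˣ) : ℂ) := by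
    intro z
    have hz : σ (z : Γ) = 1 := z.2
    ext i j
    simp only [R, Matrix.of_apply, Matrix.scalar_apply, Matrix.diagonal_apply, hz, one_mul,
      e.injective.eq_iff]
    by_cases hij : i = j
    · subst hij
      rw [if_pos rfl, if_pos rfl]
      refine congrArg (fun x => ((lam x : ℂˣ) : ℂ)) (Subtype.ext ?_)
      show (s (σ (z : Γ) * e i))⁻¹ * (z : Γ) * s (e i) = z
      rw [hz, one_mul, mul_assoc, ← mem_center_iff.mp (hk z.2) (s (e i)), inv_mul_cancel_left]
    · rw [if_neg hij, if_neg hij]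
  have h1 : R 1 = 1 := by
    have := hker 1
    rw [map_one, Units.val_one, map_one] at this
    exact this
  let RM : Γ →* Matrix (Fin m) (Fin m) ℂ :=
    { toFun := R, map_one' := h1, map_mul' := hR }
  refine ⟨m, RM.toHomUnits, Nat.card_pos, fun z => Units.ext ?_⟩
  exact hker z

theorem scalarHom_injective {m : ℕ} (hm : 0 < m) : Function.Injective (scalarHom m) := by
  intro a b h
  have h1 := congrArg (fun g : GL (Fin m) ℂ => (g : Matrix (Fin m) (Fin m) ℂ) ⟨0, hm⟩ ⟨0, hm⟩) h
  simp [scalarHom] at h1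
  exact Units.ext h1

end CfsgLib.Schur.Projective
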