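import Cfsg.Agent.Lib.Schur.Bound

/-! # Restriction and corestriction on multipliers -/

namespace CfsgLib.Schur.Restriction

universe u

open Subgroup CfsgLib.Schur.Basic
open scoped commutatorElement Pointwise

variable {Q : Type u} [Group Q] (U : Subgroup Q)

/-- The preimage of `U` in the free group on `Q`. -/
abbrev FU : Subgroup (FreeGroup Q) := U.comap (canon Q)

/-- Its map onto `U`. -/
def psi : FU U →* U := ((canon Q).comp (FU U).subtype).codRestrict U fun x => x.2

theorem psi_surjective : Function.Surjective (psi U) := fun q => by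
  obtain ⟨x, hx⟩ := canon_surjective Q q.1
  exact ⟨⟨x, by show canon Q x ∈ U; rw [hx]; exact q.2⟩, Subtype.ext hx⟩

/-- The subgroup `⁅F_U, R⁆`. -/
def relU : Subgroup (FU U) := ⁅(⊤ : Subgroup (FU U)), (psi U).ker⁆

instance relU_normal : (relU U).Normal := by unfold relU; infer_instance

theorem relU_le_ker : relU U ≤ (psi U).ker := commutator_le_right ⊤ (psi U).ker

/-- The central extension `F_U ⧸ ⁅F_U, R⁆`. -/
abbrev EU : Type u := FU U ⧸ relU U

/-- Its projection. -/
def projU : EU U →* U := QuotientGroup.lift (relU U) (psi U) (relU_le_ker U)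

theorem projU_surjective : Function.Surjective (projU U) := fun q => by
  obtain ⟨x, rfl⟩ := psi_surjective U q; exact ⟨QuotientGroup.mk x, rfl⟩

theorem ker_projU_le_center : (projU U).ker ≤ center (EU U) := by
  intro x hx
  induction x using QuotientGroup.induction_on with
  | _ a =>
    have ha : psi U a = 1 := hx
    rw [mem_center_iff]
    intro y
    induction y using QuotientGroup.induction_on with
    | _ b =>
      rw [← commutatorElement_eq_one_iff_mul_comm,
        show ⁅(b : EU U), (a : EU U)⁆ = QuotientGroup.mk' (relU U) ⁅b, a⁆ from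
          (map_commutatorElement (QuotientGroup.mk' (relU U)) b a).symm,
        QuotientGroup.mk'_apply, QuotientGroup.eq_one_iff]
      exact commutator_mem_commutator (mem_top b) ha

/-- The multiplier of `U` computed in the preimage. -/
abbrev MU : Subgroup (EU U) := (projU U).ker ⊓ commutator (EU U)

instance commGroupMU : CommGroup (MU U) :=
  { (inferInstance : Group (MU U)) with
    mul_comm := fun a b => Subtype.ext (mem_center_iff.mp (ker_projU_le_center U b.2.1) a.1) }

theorem finite_MU [Finite Q] : Finite (MU U) := by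
  obtain ⟨η, hη⟩ := exists_lift (canon U) (projU U) (projU_surjective U) (ker_projU_le_center U)
  have hmap := map_multOf _ (canon_surjective U) (projU U) (ker_projU_le_center U) η hη
  haveI : Finite ((multOf (canon U)).map η) :=
    Finite.of_surjective (fun m : multOf (canon U) => (⟨η m.1, m.1, m.2, rfl⟩ : (multOf (canon U)).map η))
      fun x => by
        obtain ⟨m, hm, hx⟩ := x.2
        exact ⟨⟨m, hm⟩, Subtype.ext hx⟩
  exact Finite.of_equiv _ (MulEquiv.subgroupCongr hmap).toEquiv

/-- The multiplier of `U` is the one computed in the preimage. -/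
theorem mult_equiv_MU [Finite Q] : Nonempty (Mult U ≃* MU U) := by
  obtain ⟨η, hη⟩ := exists_lift (canon U) (projU U) (projU_surjective U) (ker_projU_le_center U)
  have hmap := map_multOf _ (canon_surjective U) (projU U) (ker_projU_le_center U) η hη
  let a : Mult U →* MU U := (η.comp (multOf (canon U)).subtype).codRestrict _
    fun m => hmap.le ⟨m.1, m.2, rfl⟩
  have ha : Function.Surjective a := fun x => by
    obtain ⟨m, hm, hx⟩ := hmap.ge x.2
    exact ⟨⟨m, hm⟩, Subtype.ext hx⟩
  -- a map back, from freeness of the preimage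
  choose s hs using proj_surjective (canon U) (canon_surjective U)
  let L : FU U →* Ext (canon U) := IsFreeGroup.lift fun g => s (psi U (IsFreeGroup.of g))
  have hL : (proj (canon U)).comp L = psi U := IsFreeGroup.ext_hom fun g => by
    rw [MonoidHom.comp_apply, IsFreeGroup.lift_of, hs]
  have hrel : relU U ≤ L.ker := by
    refine commutator_le.mpr fun x _ y hy => ?_
    rw [MonoidHom.mem_ker, map_commutatorElement, commutatorElement_eq_one_iff_mul_comm]
    exact mem_center_iff.mp (ker_proj_le_center _ (show proj (canon U) (L y) = 1 by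
      rw [← MonoidHom.comp_apply, hL]; exact hy)) _
  let θ : EU U →* Ext (canon U) := QuotientGroup.lift (relU U) L hrel
  have hθ : (proj (canon U)).comp θ = projU U := QuotientGroup.monoidHom_ext _ hL
  have hθmem : ∀ m : MU U, θ m.1 ∈ multOf (canon U) := fun m => by
    refine ⟨?_, ?_⟩
    · show proj (canon U) (θ m.1) = 1
      rw [← MonoidHom.comp_apply, hθ]; exact m.2.1
    · have h : (commutator (EU U)).map θ ≤ commutator (Ext (canon U)) := by
        rw [_root_.commutator_def, _root_.commutator_def, map_commutator]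
        exact commutator_mono le_top le_top
      exact h ⟨m.1, m.2.2, rfl⟩
  let b : MU U →* Mult U := (θ.comp (MU U).subtype).codRestrict _ hθmem
  have hb : Function.Surjective b := by
    intro x
    obtain ⟨e, he, hex⟩ := commutator_le_map_of_sup_center θ
      (range_sup_center_eq_top (projU U) (projU_surjective U) (proj (canon U))
        (ker_proj_le_center _) θ hθ) x.2.2
    refine ⟨⟨e, ⟨?_, he⟩⟩, Subtype.ext hex⟩
    show projU U e = 1
    rw [← hθ, MonoidHom.comp_apply, hex]; exact x.2.1
  exact mulEquiv_of_surjective a ha b hb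

/-- Restriction `M(U) → M(Q)` and corestriction `M(Q) → M(U)` compose to the `[Q : U]`-th power. -/
theorem exists_cores [Finite Q] :
    ∃ (res : MU U →* Mult Q) (cor : Mult Q →* MU U), ∀ m, res (cor m) = m ^ U.index := by
  classical
  let R : Subgroup (FreeGroup Q) := (canon Q).ker
  have hRF : R ≤ FU U := fun x hx => by
    show canon Q x ∈ U
    rw [MonoidHom.mem_ker.mp hx]; exact one_mem U
  have hidx : (FU U).index = U.index := U.index_comap_of_surjective (canon_surjective Q)
  haveI : (FU U).FiniteIndex := ⟨by rw [hidx]; exact FiniteIndex.index_ne_zero⟩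
  haveI := finite_MU U
  let Ω := FreeGroup Q ⧸ FU U
  letI : Fintype Ω := Fintype.ofFinite _
  letI : CommGroup (projU U).ker :=
    { (inferInstance : Group (projU U).ker) with
      mul_comm := fun a b => Subtype.ext (mem_center_iff.mp (ker_projU_le_center U b.2) a.1) }
  -- the image of an element of `R` in `EU`
  let j : R →* (projU U).ker :=
    ((QuotientGroup.mk' (relU U)).comp (Subgroup.inclusion hRF)).codRestrict _ fun r => Subtype.ext r.2
  have hRn : ∀ (f : FreeGroup Q) (r : R), f * (r : FreeGroup Q) * f⁻¹ ∈ R := fun f r =>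
    (MonoidHom.normal_ker (canon Q)).conj_mem _ r.2 f
  let cj : FreeGroup Q → R →* R := fun f =>
    { toFun := fun r => ⟨f * r * f⁻¹, hRn f r⟩
      map_one' := Subtype.ext (by simp)
      map_mul' := fun a b => Subtype.ext (by simp [mul_assoc]) }
  have hinner : ∀ (h : FreeGroup Q) (_ : h ∈ FU U) (r : R), j (cj h r) = j r := by
    intro h hh r
    have hc := mem_center_iff.mp (ker_projU_le_center U (j r).2) (QuotientGroup.mk ⟨h, hh⟩)
    refine Subtype.ext ?_
    show (QuotientGroup.mk (⟨h, hh⟩ * Subgroup.inclusion hRF r * ⟨h, hh⟩⁻¹) : EU U) = _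
    rw [QuotientGroup.mk_mul, QuotientGroup.mk_mul, QuotientGroup.mk_inv]
    change _ * (j r).1 * _ = _
    rw [hc, mul_inv_cancel_right]
  let S : R →* (projU U).ker :=
    { toFun := fun r => ∏ q : Ω, j (cj q.out⁻¹ r)
      map_one' := by simp
      map_mul' := fun a b => by simp [Finset.prod_mul_distrib] }
  have hSconj : ∀ (f : FreeGroup Q) (r : R), S (cj f r) = S r := by
    intro f r
    show ∏ q : Ω, j (cj q.out⁻¹ (cj f r)) = ∏ q : Ω, j (cj q.out⁻¹ r)
    refine Fintype.prod_equiv (MulAction.toPerm f⁻¹) _ _ fun q => ?_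
    rw [MulAction.toPerm_apply]
    set q' : Ω := f⁻¹ • q with hq'
    have hh : q.out⁻¹ * f * q'.out ∈ FU U := by
      have h1 : ((f * q'.out : FreeGroup Q) : Ω) = q := by
        rw [show ((f * q'.out : FreeGroup Q) : Ω) = f • ((q'.out : FreeGroup Q) : Ω) from rfl,
          QuotientGroup.out_eq', hq', smul_inv_smul]
      rw [mul_assoc]
      exact QuotientGroup.eq.mp ((QuotientGroup.out_eq' q).trans h1.symm)
    rw [← hinner _ hh (cj q'.out⁻¹ r)]
    congr 1
    refine Subtype.ext ?_
    show q.out⁻¹ * (f * r * f⁻¹) * q.out⁻¹⁻¹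
      = q.out⁻¹ * f * q'.out * (q'.out⁻¹ * r * q'.out⁻¹⁻¹) * (q.out⁻¹ * f * q'.out)⁻¹
    group
  -- descend to the kernel of `Ext (canon Q) → Q`
  let p : R →* (proj (canon Q)).ker :=
    ((QuotientGroup.mk' (commRel (canon Q))).comp R.subtype).codRestrict _ fun r => r.2
  have hp : Function.Surjective p := by
    rintro ⟨x, hx⟩
    induction x using QuotientGroup.induction_on with
    | _ a => exact ⟨⟨a, hx⟩, rfl⟩
  have hker : p.ker ≤ S.ker := by
    have hle : commRel (canon Q) ≤ S.ker.map R.subtype := by
      refine commutator_le.mpr fun f _ r hr => ?_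
      refine ⟨cj f ⟨r, hr⟩ * (⟨r, hr⟩ : R)⁻¹, ?_, rfl⟩
      rw [SetLike.mem_coe, MonoidHom.mem_ker, map_mul, map_inv, hSconj, mul_inv_cancel]
    intro r hr
    have hr' : (r : FreeGroup Q) ∈ commRel (canon Q) :=
      (QuotientGroup.eq_one_iff _).mp (congrArg Subtype.val hr)
    obtain ⟨r', hr'', he⟩ := hle hr'
    rwa [← Subtype.ext he]
  let S' : (proj (canon Q)).ker →* (projU U).ker := p.liftOfSurjective hp ⟨S, hker⟩
  have hS' : ∀ r, S' (p r) = S r := fun r => MonoidHom.liftOfRightInverse_comp_apply _ _ _ _ r
  -- on the multiplier the values are in the commutator subgroup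
  have hcomm : ∀ r : R, (r : FreeGroup Q) ∈ commutator (FreeGroup Q) →
      (S r : EU U) ∈ commutator (EU U) := by
    intro r hr
    let φ : FU U →* Abelianization (EU U) := Abelianization.of.comp (QuotientGroup.mk' (relU U))
    have h1 : MonoidHom.transfer φ (r : FreeGroup Q) = 1 :=
      Abelianization.commutator_subset_ker _ hr
    let T : (FU U).LeftTransversal :=
      ⟨Set.range fun q : Ω => q.out, isComplement_range_left fun q => QuotientGroup.out_eq' q⟩
    rw [MonoidHom.transfer_def φ T] at h1
    have hT : ∀ q : Ω, ((T.2.leftQuotientEquiv q : FreeGroup Q)) = q.out :=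
      IsComplement.leftQuotientEquiv_apply fun q => QuotientGroup.out_eq' q
    have hfix : ∀ q : Ω, ((r : FreeGroup Q)⁻¹) • q = q := by
      intro q
      induction q using QuotientGroup.induction_on with
      | _ a =>
        show (((r : FreeGroup Q)⁻¹ * a : FreeGroup Q) : Ω) = a
        rw [QuotientGroup.eq]
        refine hRF ?_
        have := hRn a⁻¹ r
        simpa [mul_assoc] using this
    have h2 : ∏ q : Ω, Abelianization.of ((j (cj q.out⁻¹ r) : (projU U).ker) : EU U) = 1 := by
      rw [← h1]
      unfold Subgroup.leftTransversals.diff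
      refine Fintype.prod_congr _ _ fun q => ?_
      show φ ⟨(q.out)⁻¹ * r * (q.out)⁻¹⁻¹, _⟩ = _
      refine congrArg φ (Subtype.ext ?_)
      show (q.out)⁻¹ * r * (q.out)⁻¹⁻¹
        = (T.2.leftQuotientEquiv q : FreeGroup Q)⁻¹ * ((r : FreeGroup Q) • T).2.leftQuotientEquiv q
      rw [Subgroup.smul_apply_eq_smul_apply_inv_smul, hfix, hT, inv_inv, mul_assoc, smul_eq_mul]
    have h3 : Abelianization.of ((S r : (projU U).ker) : EU U) = 1 := by
      rw [← h2]
      exact map_prod (Abelianization.of.comp (projU U).ker.subtype) _ _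
    rw [← Abelianization.ker_of]
    exact h3
  let cor : Mult Q →* MU U :=
    ((projU U).ker.subtype.comp (S'.comp (Subgroup.inclusion (inf_le_left :
      multOf (canon Q) ≤ (proj (canon Q)).ker)))).codRestrict (MU U) fun m => by
      refine ⟨(S' _).2, ?_⟩
      obtain ⟨r, hr, hrm⟩ : ∃ r : FreeGroup Q, r ∈ commutator (FreeGroup Q) ∧
          QuotientGroup.mk' (commRel (canon Q)) r = m.1 := by
        have h : commutator (Ext (canon Q))
            ≤ (commutator (FreeGroup Q)).map (QuotientGroup.mk' (commRel (canon Q))) := by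
          rw [_root_.commutator_def, _root_.commutator_def, map_commutator, ← MonoidHom.range_eq_map,
            QuotientGroup.range_mk']
        exact h m.2.2
      have hrR : r ∈ R := by
        show canon Q r = 1
        rw [← proj_mk (canon Q) r, ← QuotientGroup.mk'_apply, hrm]; exact m.2.1
      have e : S' (Subgroup.inclusion (inf_le_left : multOf (canon Q) ≤ (proj (canon Q)).ker) m)
          = S ⟨r, hrR⟩ := by
        rw [← hS']; exact congrArg S' (Subtype.ext hrm.symm)
      show ((S' _ : (projU U).ker) : EU U) ∈ _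
      rw [e]
      exact hcomm _ hr
  have hrel : relU U ≤ ((QuotientGroup.mk' (commRel (canon Q))).comp (FU U).subtype).ker := by
    refine commutator_le.mpr fun x _ y hy => ?_
    refine (QuotientGroup.eq_one_iff _).mpr ?_
    exact commutator_mem_commutator (mem_top (x : FreeGroup Q)) (congrArg Subtype.val hy)
  let ρ : EU U →* Ext (canon Q) :=
    QuotientGroup.lift (relU U) ((QuotientGroup.mk' (commRel (canon Q))).comp (FU U).subtype) hrel
  have hρmem : ∀ m : MU U, ρ m.1 ∈ multOf (canon Q) := fun m => by
    refine ⟨?_, ?_⟩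
    · obtain ⟨x, hx⟩ := QuotientGroup.mk_surjective m.1
      have h : projU U m.1 = 1 := m.2.1
      rw [← hx] at h ⊢
      exact congrArg Subtype.val h
    · have h : (commutator (EU U)).map ρ ≤ commutator (Ext (canon Q)) := by
        rw [_root_.commutator_def, _root_.commutator_def, map_commutator]
        exact commutator_mono le_top le_top
      exact h ⟨m.1, m.2.2, rfl⟩
  let res : MU U →* Mult Q := (ρ.comp (MU U).subtype).codRestrict _ hρmem
  refine ⟨res, cor, fun m => Subtype.ext ?_⟩
  rw [SubgroupClass.coe_pow]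
  show ρ ((S' (Subgroup.inclusion inf_le_left m)).1) = m.1 ^ U.index
  obtain ⟨r, hr⟩ := hp (Subgroup.inclusion inf_le_left m)
  rw [← hr, hS']
  show (ρ.comp (projU U).ker.subtype) (∏ q : Ω, j (cj q.out⁻¹ r)) = _
  have hval : (m.1 : Ext (canon Q)) = QuotientGroup.mk (r : FreeGroup Q) :=
    (congrArg Subtype.val hr).symm
  have hterm : ∀ q : Ω, (ρ.comp (projU U).ker.subtype) (j (cj q.out⁻¹ r)) = m.1 := fun q => by
    show (QuotientGroup.mk ((q.out)⁻¹ * r * (q.out)⁻¹⁻¹) : Ext (canon Q)) = m.1
    have hc := mem_center_iff.mp (ker_proj_le_center _ m.2.1) (QuotientGroup.mk q.out⁻¹)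
    rw [hval] at hc ⊢
    rw [QuotientGroup.mk_mul, QuotientGroup.mk_mul, hc, QuotientGroup.mk_inv _ (q.out⁻¹),
      mul_inv_cancel_right]
  rw [← Finset.prod_map_toList, map_list_prod, List.map_map, show (⇑(ρ.comp (projU U).ker.subtype) ∘ fun q : Ω => j (cj q.out⁻¹ r)) = fun _ => m.1 from funext hterm,
    List.map_const', List.prod_replicate, Finset.length_toList, Finset.card_univ]
  congr 1
  rw [← hidx, Subgroup.index_eq_card, Nat.card_eq_fintype_card]

end CfsgLib.Schur.Restriction
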