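import Cfsg.Agent.Lib.Schur.TailsChain

/-!
# Certificates bounding the multiplier through a Sylow subgroup

The data: rewriting rules on generators of a `p`-subgroup, overlaps, fusing elements, the linear equations they give
on the tails and combinations showing that the tails of the inner rules lie in a small group.
-/

set_option autoImplicit false

namespace CfsgLib.Schur.Tails

/-- A fusing element: words for generators and for their conjugates, and equal products among the former. -/
structure Fus where
  /-- Generators. -/
  us : List (List ℕ)
  /-- Their conjugates. -/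
  vs : List (List ℕ)
  /-- Equal products. -/
  rels : List (List ℕ × List ℕ)

/-- A certificate. -/
structure Cert where
  /-- The number of generators. -/
  r : ℕ
  /-- The number of outer generators. -/
  a : ℕ
  /-- The prime. -/
  p : ℕ
  /-- Fuel for rewriting. -/
  fuel : ℕ
  /-- Room for the unknowns of a fusion. -/
  width : ℕ
  /-- The rules. -/
  rules : List Rule
  /-- The rule for an ordered pair of letters. -/
  ix : List (List ℕ)
  /-- Overlaps: a word with a rule in the middle. -/
  ovl : List (List ℕ × ℕ × List ℕ)
  /-- The fusions. -/
  fus : List Fus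
  /-- The equations. -/
  eqs : List Form
  /-- The change of lifts. -/
  lam : List Form
  /-- The possibly surviving class. -/
  gen : Form
  /-- Its order. -/
  b : ℕ
  /-- A multiplier prime to `p`. -/
  m : ℕ
  /-- The combination killing the surviving class. -/
  genC : List (ℤ × ℕ)
  /-- The inner rules with their combinations. -/
  targets : List (ℕ × ℤ × List (ℤ × ℕ))

namespace Cert

variable (D : Cert)

/-- The number of unknowns. -/
def nv : ℕ := D.rules.length + D.fus.length * D.width

/-- The rule of two letters. -/
def idx (x y : ℕ) : ℕ := (D.ix.getD x []).getD y 0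

/-- Rewriting. -/
def run (w : List ℕ) : List ℕ × List ℕ := collect D.rules D.ix D.fuel w

/-- Two words meet; the difference of the rules used. -/
def meet (u v : List ℕ) : Option Form :=
  let P := D.run u
  let Q := D.run v
  if P.1 == Q.1 then some (usedF 1 P.2 ++ usedF (-1) Q.2) else none

/-- The equation of an overlap. -/
def overEq (o : List ℕ × ℕ × List ℕ) : Option Form :=
  if o.2.1 < D.rules.length then
    (D.meet (o.1 ++ (D.rules.getD o.2.1 ([], [])).1 ++ o.2.2)
      (o.1 ++ (D.rules.getD o.2.1 ([], [])).2 ++ o.2.2)).map fun f => (-1, o.2.1) :: f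
  else none

/-- The unknowns of a product in a fusion. -/
def muF (j : ℕ) (l : List ℕ) : Form := l.map fun s => (1, D.rules.length + j * D.width + s)

/-- The equation of two equal products in a fusion. -/
def fusEq (j : ℕ) (R : List ℕ × List ℕ) : Option Form :=
  let F := D.fus.getD j ⟨[], [], []⟩
  match D.meet (R.1.flatMap fun s => F.vs.getD s []) (R.2.flatMap fun s => F.vs.getD s []),
      D.meet (R.1.flatMap fun s => F.us.getD s []) (R.2.flatMap fun s => F.us.getD s []) with
  | some f, some e => some (f ++ D.muF j R.1 ++ scaleF (-1) (D.muF j R.2) ++ scaleF (-1) e)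
  | _, _ => none

/-- All equations as computed. -/
def allEqs : List (Option Form) :=
  D.ovl.map D.overEq ++
    (List.range D.fus.length).flatMap fun j => (D.fus.getD j ⟨[], [], []⟩).rels.map (D.fusEq j)

/-- The equations are the stated ones. -/
def eqsOK : Bool := D.allEqs == D.eqs.map some

/-- The change of a word's value. -/
def lamF (w : List ℕ) : Form := w.flatMap fun i => D.lam.getD i []

/-- The tail after the change of lifts. -/
def newTail (k : ℕ) : Form :=
  (1, k) :: (D.lamF (D.rules.getD k ([], [])).2 ++ scaleF (-1) (D.lamF (D.rules.getD k ([], [])).1))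

/-- A combination of equations. -/
def combF (cs : List (ℤ × ℕ)) : Form := cs.flatMap fun q => scaleF q.1 (D.eqs.getD q.2 [])

/-- A target holds. -/
def targetOK (q : ℕ × ℤ × List (ℤ × ℕ)) : Bool :=
  zeroF D.nv (scaleF D.m (D.newTail q.1) ++ scaleF (-q.2.1) D.gen ++ scaleF (-1) (D.combF q.2.2))

/-- The combinations are right. -/
def combOK : Bool :=
  D.targets.all D.targetOK &&
    zeroF D.nv (scaleF ((D.m * D.b : ℕ) : ℤ) D.gen ++ scaleF (-1) (D.combF D.genC))

/-- Letters in a range. -/
def lettersIn (w : List ℕ) (lo hi : ℕ) : Bool := w.all fun x => decide (lo ≤ x) && decide (x < hi)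

/-- A power rule. -/
def powOK (i : ℕ) : Bool :=
  let R := D.rules.getD (D.idx i i) ([], [])
  decide (D.idx i i < D.rules.length) && R.1 == List.replicate D.p i && lettersIn R.2 (i + 1) D.r &&
    (decide (i < D.a) || (D.targets.map Prod.fst).contains (D.idx i i))

/-- A rule moving a letter to the left. -/
def comOK (i j : ℕ) : Bool :=
  let R := D.rules.getD (D.idx j i) ([], [])
  decide (D.idx j i < D.rules.length) && R.1 == [j, i] && R.2.head? == some i &&
    (if j < D.a then R.2.tail.head? == some j && lettersIn R.2.tail.tail D.a D.r
      else lettersIn R.2.tail (max (i + 1) D.a) D.r) &&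
    (D.targets.map Prod.fst).contains (D.idx j i)

/-- The shape of the rules. -/
def shapeOK : Bool :=
  decide (D.a ≤ D.r) && decide (0 < D.b) && decide (0 < D.width) &&
    (D.fus.all fun F => decide (F.us.length ≤ D.width) &&
      F.rels.all fun R => lettersIn R.1 0 F.us.length && lettersIn R.2 0 F.us.length) &&
    ((List.range D.r).all fun i => D.powOK i &&
      (List.range D.r).all fun j => !decide (i < j) || D.comOK i j)

end Cert

theorem lettersIn_iff {w : List ℕ} {lo hi : ℕ} :
    Cert.lettersIn w lo hi = true ↔ ∀ x ∈ w, lo ≤ x ∧ x < hi := by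
  simp [Cert.lettersIn, List.all_eq_true]

end CfsgLib.Schur.Tails
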