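import Cfsg.Agent.Lib.Schur.TailsCollect

/-!
# Orders of subgroups with a polycyclic chain of generators
-/

set_option autoImplicit false

namespace CfsgLib.Schur.Tails

open Subgroup
open scoped commutatorElement

variable {G : Type*} [Group G]

/-- The subgroup generated by the letters from `k` on. -/
def tailGen (X : ℕ → G) (r k : ℕ) : Subgroup G := closure (X '' Set.Ico k r)

theorem mem_tailGen {X : ℕ → G} {r k i : ℕ} (h1 : k ≤ i) (h2 : i < r) : X i ∈ tailGen X r k :=
  subset_closure ⟨i, ⟨h1, h2⟩, rfl⟩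

theorem valW_mem_tailGen {X : ℕ → G} {r k : ℕ} {w : List ℕ} (h : ∀ i ∈ w, k ≤ i ∧ i < r) :
    valW X w ∈ tailGen X r k :=
  valW_mem _ fun i hi => mem_tailGen (h i hi).1 (h i hi).2

theorem map_tailGen {G' : Type*} [Group G'] (f : G →* G') (X : ℕ → G) (r k : ℕ) :
    (tailGen X r k).map f = tailGen (fun i => f (X i)) r k := by
  rw [tailGen, tailGen, MonoidHom.map_closure, Set.image_image]

/-- Conjugation preserving the generators up to the subgroup preserves it. -/
theorem conj_mem_closure {S : Set G} {H : Subgroup G} {c : G} (h : ∀ s ∈ S, c⁻¹ * s * c ∈ H)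
    {n : G} (hn : n ∈ closure S) : c⁻¹ * n * c ∈ H := by
  have hle : closure S ≤ H.comap (MulAut.conj c⁻¹).toMonoidHom :=
    (closure_le _).2 fun s hs => by simpa using h s hs
  simpa using hle hn

theorem card_tailGen_le [Finite G] (X : ℕ → G) (r a p : ℕ) (hp : 0 < p)
    (hpow : ∀ i, a ≤ i → i < r → X i ^ p ∈ tailGen X r (i + 1))
    (hconj : ∀ i j, a ≤ i → i < j → j < r → (X i)⁻¹ * X j * X i ∈ tailGen X r (i + 1)) :
    ∀ d k, a ≤ k → k + d = r → Nat.card (tailGen X r k) ≤ p ^ d
  | 0, k, _, hk => by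
    have : tailGen X r k = ⊥ := by
      rw [tailGen, Set.Ico_eq_empty (by omega), Set.image_empty, Subgroup.closure_empty]
    simp [this]
  | d + 1, k, hak, hk => by
    have ih := card_tailGen_le X r a p hp hpow hconj d (k + 1) (by omega) (by omega)
    set N := tailGen X r (k + 1)
    set f : Fin p × N → G := fun q => X k ^ (q.1 : ℕ) * (q.2 : G)
    have hstep : ∀ x ∈ Set.range f, ∀ y ∈ X '' Set.Ico k r, x * y ∈ Set.range f := by
      rintro _ ⟨⟨e, n⟩, rfl⟩ _ ⟨i, ⟨hki, hir⟩, rfl⟩
      rcases Nat.lt_or_eq_of_le hki with hlt | rfl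
      · exact ⟨⟨e, n * ⟨X i, mem_tailGen (by omega) hir⟩⟩, by simp [f, mul_assoc]⟩
      · have hn : (X k)⁻¹ * (n : G) * X k ∈ N := by
          refine conj_mem_closure (S := X '' Set.Ico (k + 1) r) (H := N) ?_ n.2
          rintro _ ⟨j, ⟨hj1, hj2⟩, rfl⟩
          exact hconj k j hak (by omega) hj2
        by_cases he : (e : ℕ) + 1 < p
        · refine ⟨⟨⟨e + 1, he⟩, ⟨_, hn⟩⟩, ?_⟩
          simp only [f, pow_succ]
          group
        · have hep : (e : ℕ) + 1 = p := by have := e.2; omega
          refine ⟨⟨⟨0, hp⟩, ⟨_, mul_mem (hpow k hak hir) hn⟩⟩, ?_⟩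
          simp only [f, pow_zero, one_mul]
          conv_lhs => rw [← hep, pow_succ]
          group
    have hpowstep : ∀ (m : ℕ), ∀ x ∈ Set.range f, ∀ y ∈ X '' Set.Ico k r, x * y ^ m ∈ Set.range f := by
      intro m
      induction m with
      | zero => intro x hx y _; simpa using hx
      | succ m ihm => intro x hx y hy; rw [pow_succ, ← mul_assoc]; exact hstep _ (ihm x hx y hy) y hy
    have hsub : (tailGen X r k : Set G) ⊆ Set.range f := by
      intro x hx
      refine closure_induction_right (p := fun x _ => x ∈ Set.range f) ⟨⟨⟨0, hp⟩, 1⟩, by simp [f]⟩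
        (fun x _ y hy h => hstep x h y hy) (fun x _ y hy h => ?_) hx
      have : y⁻¹ = y ^ (orderOf y - 1) := by
        rw [inv_eq_iff_mul_eq_one, ← pow_succ', Nat.sub_add_cancel (orderOf_pos y), pow_orderOf_eq_one]
      rw [this]
      exact hpowstep _ x h y hy
    calc Nat.card (tailGen X r k) ≤ Nat.card (Set.range f) := Nat.card_mono (Set.toFinite _) hsub
      _ ≤ Nat.card (Fin p × N) := Finite.card_range_le f
      _ = p * Nat.card N := by rw [Nat.card_prod, Nat.card_fin]
      _ ≤ p * p ^ d := Nat.mul_le_mul le_rfl ih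
      _ = p ^ (d + 1) := by rw [pow_succ']

/-- Conjugation by one element mapping a subgroup of a finite group into itself puts it in the normaliser. -/
theorem normalizer_of_conj [Finite G] {N : Subgroup G} {g : G} (hg : ∀ n ∈ N, g⁻¹ * n * g ∈ N) :
    g ∈ normalizer (N : Set G) := by
  have hle : N.map (MulAut.conj g⁻¹).toMonoidHom ≤ N := by
    rintro _ ⟨n, hn, rfl⟩
    simpa using hg n hn
  have heq : N.map (MulAut.conj g⁻¹).toMonoidHom = N := eq_of_le_of_card_ge hle
    (le_of_eq (Nat.card_congr (N.equivMapOfInjective _ (MulAut.conj g⁻¹).injective).toEquiv))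
  have : g⁻¹ ∈ normalizer (N : Set G) := mem_normalizer_iff.2 fun n => by
    constructor
    · intro hn; simpa using hg n hn
    · intro hn
      rw [← heq] at hn
      obtain ⟨m, hm, hme⟩ := hn
      have : m = n := by
        have h' : g⁻¹ * m * g = g⁻¹ * n * g := by simpa using hme
        exact mul_left_cancel (mul_right_cancel h')
      rwa [← this]
  simpa using inv_mem this

/-- Normalised by the generators, with their commutators inside: all commutators are inside. -/
theorem commutator_mem_of_generators [Finite G] {S : Set G} {N : Subgroup G}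
    (hnorm : ∀ c ∈ S, ∀ n ∈ N, c⁻¹ * n * c ∈ N) (hcomm : ∀ c ∈ S, ∀ d ∈ S, ⁅c, d⁆ ∈ N)
    {x y : G} (hx : x ∈ closure S) (hy : y ∈ closure S) : ⁅x, y⁆ ∈ N := by
  have hM : closure S ≤ normalizer (N : Set G) := (closure_le _).2 fun c hc => normalizer_of_conj (hnorm c hc)
  have key : ∀ u ∈ closure S, ∀ T : Set G, T ⊆ closure S → (∀ t ∈ T, ⁅u, t⁆ ∈ N) →
      ∀ t ∈ closure T, ⁅u, t⁆ ∈ N := by
    intro u _ T hT h t ht
    have hTS : closure T ≤ closure S := (closure_le _).2 hT
    refine closure_induction (p := fun t _ => ⁅u, t⁆ ∈ N) h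
      (by rw [commutatorElement_one_right]; exact one_mem _) (fun a b ha _ iha ihb => ?_) (fun a ha iha => ?_) ht
    · rw [show ⁅u, a * b⁆ = ⁅u, a⁆ * (a * ⁅u, b⁆ * a⁻¹) by simp [commutatorElement_def, mul_assoc]]
      exact mul_mem iha ((mem_normalizer_iff.1 (hM (hTS ha)) _).1 ihb)
    · rw [show ⁅u, a⁻¹⁆ = a⁻¹ * ⁅u, a⁆⁻¹ * a⁻¹⁻¹ by simp [commutatorElement_def, mul_assoc]]
      exact (mem_normalizer_iff.1 (hM (inv_mem (hTS ha))) _).1 (inv_mem iha)
  refine key x hx S (subset_closure (G := G)) (fun t ht => ?_) y hy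
  rw [← commutatorElement_inv]
  exact inv_mem (key t (subset_closure ht) S (subset_closure (G := G)) (fun s hs => hcomm t ht s hs) x hx)

end CfsgLib.Schur.Tails
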