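import Mathlib

/-!
# Collection with tails

Words over a list of rewriting rules, evaluated on lifts in a central extension: every rule holds up to a tail in
an abelian group, and rewriting keeps account of the tails used.
-/

set_option autoImplicit false

namespace CfsgLib.Schur.Tails

/-- A rule: a left hand side and a right hand side. -/
abbrev Rule : Type := List ℕ × List ℕ

/-- An integral combination of the unknowns. -/
abbrev Form : Type := List (ℤ × ℕ)

/-- The candidate rule at the head of a word. -/
def cand (ix : List (List ℕ)) : List ℕ → Option ℕ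
  | x :: y :: _ => if y ≤ x then some ((ix.getD x []).getD y 0) else none
  | _ => none

/-- The first rewriting step. -/
def stepW (rules : List Rule) (ix : List (List ℕ)) : List ℕ → Option (List ℕ × ℕ)
  | [] => none
  | x :: w =>
    match cand ix (x :: w) with
    | some k =>
      if decide (k < rules.length) && (rules.getD k ([], [])).1.isPrefixOf (x :: w) then
        some ((rules.getD k ([], [])).2 ++ (x :: w).drop (rules.getD k ([], [])).1.length, k)
      else (stepW rules ix w).map fun q => (x :: q.1, q.2)
    | none => (stepW rules ix w).map fun q => (x :: q.1, q.2)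

/-- Rewriting with limited fuel; returns the word and the rules used. -/
def collect (rules : List Rule) (ix : List (List ℕ)) : ℕ → List ℕ → List ℕ × List ℕ
  | 0, w => (w, [])
  | f + 1, w =>
    match stepW rules ix w with
    | none => (w, [])
    | some q =>
      let r := collect rules ix f q.1
      (r.1, q.2 :: r.2)

/-- The form of a list of rules used. -/
def usedF (c : ℤ) (l : List ℕ) : Form := l.map fun k => (c, k)

/-- A multiple of a form. -/
def scaleF (c : ℤ) (l : Form) : Form := l.map fun q => (c * q.1, q.2)

/-- A form vanishes identically, by halving the range of unknowns. -/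
def zeroB : ℕ → ℕ → ℕ → Form → Bool
  | 0, _, _, l => l.isEmpty
  | f + 1, lo, hi, l =>
    l.isEmpty ||
      if hi ≤ lo + 1 then (l.all fun q => q.2 == lo) && (l.map Prod.fst).sum == 0
      else
        zeroB f lo ((lo + hi) / 2) (l.filter fun q => decide (q.2 < (lo + hi) / 2)) &&
          zeroB f ((lo + hi) / 2) hi (l.filter fun q => !decide (q.2 < (lo + hi) / 2))

/-- A form in the unknowns below `N` vanishes identically. -/
def zeroF (N : ℕ) (l : Form) : Bool := zeroB (N + 1) 0 N l

section Eval

variable {A : Type*} [AddCommGroup A] (t : ℕ → A)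

/-- The value of a form. -/
def evF (l : Form) : A := (l.map fun q => q.1 • t q.2).sum

@[simp] theorem evF_nil : evF t [] = 0 := rfl

@[simp] theorem evF_cons (q : ℤ × ℕ) (l : Form) : evF t (q :: l) = q.1 • t q.2 + evF t l := by
  simp [evF]

@[simp] theorem evF_append (l l' : Form) : evF t (l ++ l') = evF t l + evF t l' := by
  simp [evF]

@[simp] theorem evF_scale (c : ℤ) (l : Form) : evF t (scaleF c l) = c • evF t l := by
  induction l with
  | nil => simp [scaleF]
  | cons q l ih =>
    have : scaleF c (q :: l) = (c * q.1, q.2) :: scaleF c l := rfl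
    rw [this, evF_cons, evF_cons, ih, smul_add, mul_smul]

theorem evF_usedF_neg (l : List ℕ) : evF t (usedF (-1) l) = -evF t (usedF 1 l) := by
  induction l with
  | nil => simp [usedF]
  | cons k l ih =>
    have h : ∀ c : ℤ, usedF c (k :: l) = (c, k) :: usedF c l := fun _ => rfl
    rw [h, h, evF_cons, evF_cons, ih, neg_smul, neg_add]

theorem evF_filter (f : ℤ × ℕ → Bool) :
    ∀ l : Form, evF t l = evF t (l.filter f) + evF t (l.filter fun q => !f q)
  | [] => by simp
  | q :: l => by
    rw [evF_cons, evF_filter f l]
    cases h : f q <;> simp [h] <;> abel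

theorem evF_of_all_eq (k : ℕ) : ∀ l : Form, (∀ q ∈ l, q.2 = k) → evF t l = (l.map Prod.fst).sum • t k
  | [], _ => by simp
  | q :: l, h => by
    rw [evF_cons, evF_of_all_eq k l fun r hr => h r (List.mem_cons_of_mem _ hr), h q List.mem_cons_self,
      List.map_cons, List.sum_cons, add_smul]

theorem evF_eq_zero_of_zeroB : ∀ (f lo hi : ℕ) (l : Form), zeroB f lo hi l = true → evF t l = 0
  | 0, _, _, l, h => by
    rw [show l = [] from List.isEmpty_iff.1 h, evF_nil]
  | f + 1, lo, hi, l, h => by
    simp only [zeroB, Bool.or_eq_true] at h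
    rcases h with h | h
    · rw [show l = [] from List.isEmpty_iff.1 h, evF_nil]
    split at h
    · simp only [Bool.and_eq_true, List.all_eq_true, beq_iff_eq] at h
      rw [evF_of_all_eq t lo l h.1, h.2, zero_smul]
    · simp only [Bool.and_eq_true] at h
      rw [evF_filter t (fun q => decide (q.2 < (lo + hi) / 2)) l,
        evF_eq_zero_of_zeroB f _ _ _ h.1, evF_eq_zero_of_zeroB f _ _ _ h.2, add_zero]

theorem evF_eq_zero {N : ℕ} {l : Form} (h : zeroF N l = true) : evF t l = 0 :=
  evF_eq_zero_of_zeroB t _ _ _ l h

end Eval

section Lifts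

variable {Γ : Type*} [Group Γ]

/-- The value of a word. -/
def valW (x : ℕ → Γ) (w : List ℕ) : Γ := (w.map x).prod

@[simp] theorem valW_nil (x : ℕ → Γ) : valW x [] = 1 := rfl

@[simp] theorem valW_cons (x : ℕ → Γ) (i : ℕ) (w : List ℕ) : valW x (i :: w) = x i * valW x w := by
  simp [valW]

@[simp] theorem valW_append (x : ℕ → Γ) (w w' : List ℕ) : valW x (w ++ w') = valW x w * valW x w' := by
  simp [valW]

theorem map_valW {G : Type*} [Group G] (f : Γ →* G) (x : ℕ → Γ) (w : List ℕ) :
    f (valW x w) = valW (fun i => f (x i)) w := by
  simp [valW, map_list_prod, List.map_map, Function.comp_def]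

theorem valW_congr {x y : ℕ → Γ} {w : List ℕ} (h : ∀ i ∈ w, x i = y i) : valW x w = valW y w := by
  rw [valW, valW, List.map_congr_left h]

theorem valW_mem (H : Subgroup Γ) {x : ℕ → Γ} {w : List ℕ} (h : ∀ i ∈ w, x i ∈ H) : valW x w ∈ H :=
  H.list_prod_mem fun y hy => by
    obtain ⟨i, hi, rfl⟩ := List.mem_map.1 hy
    exact h i hi

variable {A : Type*} [AddCommGroup A] (z : A → Γ)

/-- The rules hold up to tails. -/
def Tailed (rules : List Rule) (x : ℕ → Γ) (t : ℕ → A) : Prop :=
  ∀ k < rules.length, valW x (rules.getD k ([], [])).1 = valW x (rules.getD k ([], [])).2 * z (t k)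

variable (hz : ∀ a b, z (a + b) = z a * z b) (hc : ∀ a g, g * z a = z a * g)

include hz in
theorem z_zero : z (0 : A) = 1 := by
  have h := hz 0 0
  rw [add_zero] at h
  exact left_eq_mul.1 h

include hz hc in
theorem stepW_sound {rules : List Rule} {ix : List (List ℕ)} {x : ℕ → Γ} {t : ℕ → A}
    (ht : Tailed z rules x t) :
    ∀ {w : List ℕ} {q : List ℕ × ℕ}, stepW rules ix w = some q → valW x w = valW x q.1 * z (t q.2) := by
  intro w
  induction w with
  | nil => intro q h; simp [stepW] at h
  | cons a w ih =>
    intro q h
    have hrec : (stepW rules ix w).map (fun q => (a :: q.1, q.2)) = some q →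
        valW x (a :: w) = valW x q.1 * z (t q.2) := by
      intro h'
      obtain ⟨r, hr, rfl⟩ := Option.map_eq_some_iff.1 h'
      rw [valW_cons, ih hr, valW_cons, mul_assoc]
    simp only [stepW] at h
    split at h
    · rename_i k hk
      split at h
      · rename_i hg
        rw [Bool.and_eq_true, decide_eq_true_eq, List.isPrefixOf_iff_prefix] at hg
        obtain ⟨u, hu⟩ := hg.2
        simp only [Option.some.injEq] at h
        subst h
        rw [← hu, List.drop_left, valW_append, valW_append, ht k hg.1, mul_assoc,
          ← hc (t k) (valW x u), mul_assoc]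
      · exact hrec h
    · exact hrec h

include hz hc in
theorem collect_sound {rules : List Rule} {ix : List (List ℕ)} {x : ℕ → Γ} {t : ℕ → A}
    (ht : Tailed z rules x t) :
    ∀ (f : ℕ) (w : List ℕ), valW x w =
      valW x (collect rules ix f w).1 * z (evF t (usedF 1 (collect rules ix f w).2))
  | 0, w => by simp [collect, usedF, z_zero z hz]
  | f + 1, w => by
    simp only [collect]
    split
    · simp [usedF, z_zero z hz]
    · rename_i q hq
      rw [stepW_sound z hz hc ht hq, collect_sound ht f q.1,
        show usedF 1 (q.2 :: (collect rules ix f q.1).2) =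
          (1, q.2) :: usedF 1 (collect rules ix f q.1).2 from rfl, evF_cons, one_smul, mul_assoc,
        ← hz, add_comm (t q.2)]

end Lifts

end CfsgLib.Schur.Tails
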